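import Groth.Agent.H10Inj.QCoh
import Groth.Agent.H10Coh.SubMod
import Groth.Agent.H10Coh.QcqsPush
import Groth.Agent.H10Coh.TildeExact
import Mathlib.CategoryTheory.Abelian.Images
import Mathlib.CategoryTheory.Preadditive.Injective.Basic
import Mathlib.Algebra.Category.ModuleCat.EnoughInjectives

/-!
# Embedding quasi-coherent modules into quasi-coherent injective modules
-/

set_option autoImplicit false
set_option backward.isDefEq.respectTransparency false
set_option linter.style.haveILetI false

universe u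

open CategoryTheory CategoryTheory.Limits AlgebraicGeometry TopologicalSpace Opposite
open scoped ZeroObject

namespace Groth.Agent.H10Inj

open Groth.Agent.H06Mod Groth.Agent.H16Derived.QCohD Groth.Agent.H16Derived.KFlat.Stalk

variable {X : Scheme.{u}}

/-- A nonzero module has a nonzero map from some `j_! O_U` with `U` affine. -/
theorem exists_hom_ne_zero (K : X.Modules) (hK : ¬ IsZero K) :
    ∃ (U : X.affineOpens) (h : CxOX.extZeroUnit U.2.fromSpec ⟶ K), h ≠ 0 := by
  by_contra hc
  push Not at hc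
  refine hK ((IsZero.iff_id_eq_zero _).2 ?_)
  refine Scheme.Modules.hom_ext _ _ fun V => AddCommGrpCat.hom_ext (AddMonoidHom.ext fun s => ?_)
  show s = 0
  refine TopCat.Presheaf.section_ext (⟨_, K.isSheaf⟩ : TopCat.Sheaf Ab X) V s 0 fun x hx => ?_
  obtain ⟨U, hU, hxU, hUV⟩ := exists_isAffineOpen_mem_and_subset (x := x) (U := V) hx
  let j := hU.fromSpec
  have hle : j ''ᵁ ⊤ ≤ V := by
    rw [Scheme.Hom.image_top_eq_opensRange, hU.opensRange_fromSpec]; exact hUV
  let s₀ : Γ(K, j ''ᵁ ⊤) := K.presheaf.map (homOfLE hle).op s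
  have h0 := hc ⟨U, hU⟩ (((CxOX.extZeroAdj j).homEquiv _ _).symm
    (homOfTop ((Scheme.Modules.restrictFunctor j).obj K) s₀))
  have h1 : homOfTop ((Scheme.Modules.restrictFunctor j).obj K) s₀ = 0 := by
    have := congrArg ((CxOX.extZeroAdj j).homEquiv _ _) h0
    rw [Equiv.apply_symm_apply] at this
    refine this.trans ?_
    rw [Adjunction.homEquiv_unit, Functor.map_zero, comp_zero]
  have hs₀ : s₀ = 0 := (homOfTop_app ((Scheme.Modules.restrictFunctor j).obj K) s₀).symm.trans
    (congr($(congrArg (fun φ => Scheme.Modules.Hom.app φ (⊤ : (Spec Γ(X, U)).Opens)) h1) (1 : Γ(Spec Γ(X, U), ⊤))))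
  have hxtop : x ∈ j ''ᵁ ⊤ := by
    rw [Scheme.Hom.image_top_eq_opensRange, hU.opensRange_fromSpec]; exact hxU
  refine (TopCat.Presheaf.germ_res_apply K.presheaf (homOfLE hle) x hxtop s).symm.trans ?_
  rw [show K.presheaf.map (homOfLE hle).op s = 0 from hs₀, map_zero]
  exact (map_zero _).symm

/-- The image of a map out of `j_! O_U` embeds into a quasi-coherent injective module through `F`. -/
theorem exists_mono_image [IsLocallyNoetherian X] (F : X.Modules) [F.IsQuasicoherent] (U : X.affineOpens)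
    (h : CxOX.extZeroUnit U.2.fromSpec ⟶ F) :
    ∃ (E : X.Modules) (m : F ⟶ E), Injective E ∧ E.IsQuasicoherent ∧ Mono (image.ι h ≫ m) := by
  obtain ⟨U, hU⟩ := U
  haveI : IsNoetherianRing Γ(X, U) := IsLocallyNoetherian.component_noetherian ⟨U, hU⟩
  let j := hU.fromSpec
  let r := Scheme.Modules.restrictFunctor j
  let G := r.obj F
  haveI : G.IsQuasicoherent := Scheme.Modules.isQuasicoherent_restrictFunctor j F
  haveI : IsIso G.fromTildeΓ := Scheme.Modules.isIso_fromTildeΓ_of_isQuasicoherent (R := Γ(X, U)) G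
  let M := (moduleSpecΓFunctor (R := Γ(X, U))).obj G
  obtain ⟨P⟩ := (EnoughInjectives.presentation M : Nonempty _)
  obtain ⟨J, hJ, ι, hι⟩ := P
  haveI := hι
  haveI := hJ
  haveI : Injective (ModuleCat.of Γ(X, U) J) := hJ
  haveI : Module.Injective Γ(X, U) J := Module.injective_module_of_injective_object Γ(X, U) J
  haveI : Injective (tilde J) := injective_tilde J
  haveI := H10Coh.tilde_preservesFiniteLimits (R := Γ(X, U))
  haveI : Mono ((tilde.functor Γ(X, U)).map ι) := Functor.map_mono _ _
  let g₀ : G ⟶ tilde J := inv G.fromTildeΓ ≫ (tilde.functor Γ(X, U)).map ι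
  haveI : Mono g₀ := mono_comp _ _
  let m := (Scheme.Modules.restrictAdjunction j).homEquiv _ _ g₀
  refine ⟨_, m, Injective.injective_of_adjoint (Scheme.Modules.restrictAdjunction j) _, ?_, ?_⟩
  · exact H10Coh.isQuasicoherent_pushforward j _
  · have hm : Mono (r.map m) := by
      have := ((Scheme.Modules.restrictAdjunction j).homEquiv_counit _ _ m).symm.trans
        (((Scheme.Modules.restrictAdjunction j).homEquiv _ _).symm_apply_apply g₀)
      exact mono_of_mono_fac this
    refine Preadditive.mono_of_isZero_kernel _ ((IsZero.iff_id_eq_zero _).2 ?_)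
    let k := kernel.ι (image.ι h ≫ m)
    have hrk : r.map k = 0 := by
      have : r.map k ≫ r.map (image.ι h) ≫ r.map m = 0 := by
        rw [← r.map_comp, ← r.map_comp, kernel.condition, r.map_zero]
      rw [← Category.assoc] at this
      exact zero_of_comp_mono _ (zero_of_comp_mono _ this)
    have hzero : IsZero (r.obj (kernel (image.ι h ≫ m))) :=
      (IsZero.iff_id_eq_zero _).2 ((cancel_mono (r.map k)).1 (by rw [hrk, comp_zero, comp_zero]))
    let z : kernel (image.ι h ≫ m) ⟶ 0 := 0
    haveI : IsIso (r.map z) := isIso_of_isInitial hzero.isInitial (r.map_isZero (isZero_zero _)).isInitial _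
    haveI : IsIso z := isIso_of_stalk z fun x => by
      let S := DerSch.stalkFunctor X x
      by_cases hx : x ∈ Set.range j
      · obtain ⟨y, rfl⟩ := hx
        exact isIso_stalk_of_restrict' j z y
      · have h1 : IsZero (S.obj (image h)) :=
          IsZero.of_epi (S.map (factorThruImage h)) (isZero_stalk_extZero j _ x hx)
        have h2 : IsZero (S.obj (kernel (image.ι h ≫ m))) := IsZero.of_mono (S.map k) h1
        exact isIso_of_isInitial h2.isInitial (S.map_isZero (isZero_zero _)).isInitial _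
    exact ((isZero_zero _).of_iso (asIso z)).eq_of_src _ _

section Family

variable [IsLocallyNoetherian X] (F : X.Modules)

/-- Indices for small submodules of `F`. -/
def Idx : Type u := Σ U : X.affineOpens, (CxOX.extZeroUnit U.2.fromSpec ⟶ F)

/-- The map from the coproduct of the submodules of a family. -/
noncomputable def famDesc (s : Set (Idx F)) : (∐ fun i : s => image i.1.2) ⟶ F :=
  Sigma.desc fun i => image.ι i.1.2

/-- The inclusion between families. -/
noncomputable def famIncl {c s : Set (Idx F)} (h : c ⊆ s) :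
    (∐ fun i : c => image i.1.2) ⟶ ∐ fun i : s => image i.1.2 :=
  Sigma.desc fun i => Sigma.ι (fun i : s => image i.1.2) ⟨i.1, h i.2⟩

omit [IsLocallyNoetherian X] in
theorem famIncl_desc {c s : Set (Idx F)} (h : c ⊆ s) : famIncl F h ≫ famDesc F s = famDesc F c :=
  Sigma.hom_ext _ _ fun i => by simp [famIncl, famDesc]

theorem exists_maximal_family : ∃ s : Set (Idx F), Maximal (fun s => Mono (famDesc F s)) s := by
  classical
  refine zorn_subset {s | Mono (famDesc F s)} fun C hC hchain => ?_
  by_cases hne : C = ∅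
  · subst hne
    refine ⟨∅, ?_, fun s hs => hs.elim⟩
    exact ⟨fun {Z} a b _ => IsZero.eq_of_tgt ((IsZero.iff_id_eq_zero _).2
      (Sigma.hom_ext _ _ fun i => i.2.elim)) a b⟩
  refine ⟨⋃₀ C, ?_, fun s hs => Set.subset_sUnion_of_mem hs⟩
  obtain ⟨c₀, hc₀⟩ := Set.nonempty_iff_ne_empty.2 hne
  refine Preadditive.mono_of_isZero_kernel _ ?_
  by_contra hK
  obtain ⟨U, w, hw⟩ := exists_hom_ne_zero _ hK
  haveI : IsNoetherianRing Γ(X, U.1) := IsLocallyNoetherian.component_noetherian U
  haveI := isNoetherianObject_extZeroUnit U.2.fromSpec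
  let g := w ≫ kernel.ι (famDesc F (⋃₀ C))
  obtain ⟨K, hKg⟩ := exists_partialProj _ g
  have hfin : (Subtype.val '' (K : Set ↥(⋃₀ C))) ⊆ ⋃₀ C := by rintro _ ⟨i, -, rfl⟩; exact i.2
  obtain ⟨c, hc, hKc⟩ := hchain.directedOn.exists_mem_subset_of_finite_of_subset_sUnion ⟨c₀, hc₀⟩
    (K.finite_toSet.image _) hfin
  let q : (∐ fun i : ↥(⋃₀ C) => image i.1.2) ⟶ ∐ fun i : c => image i.1.2 :=
    Sigma.desc fun i => if h : i.1 ∈ c then Sigma.ι (fun i : c => image i.1.2) ⟨i.1, h⟩ else 0
  have hq : partialProj _ K ≫ q ≫ famIncl F (Set.subset_sUnion_of_mem hc) =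
      partialProj (fun i : ↥(⋃₀ C) => image i.1.2) K := Sigma.hom_ext _ _ fun i => by
    by_cases hi : i ∈ K
    · rw [← Category.assoc, ι_partialProj _ _ hi]
      simp [q, famIncl, dif_pos (hKc ⟨i, hi, rfl⟩)]
    · simp [partialProj, hi]
  have hg : (g ≫ q) ≫ famIncl F (Set.subset_sUnion_of_mem hc) = g := by
    conv_rhs => rw [← hKg, ← hq]
    rw [← Category.assoc g (partialProj _ K), hKg, Category.assoc]
  haveI : Mono (famDesc F c) := hC hc
  have h0 : g ≫ q = 0 := by
    rw [← cancel_mono (famDesc F c), zero_comp, ← famIncl_desc F (Set.subset_sUnion_of_mem hc),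
      ← Category.assoc, hg, Category.assoc, kernel.condition, comp_zero]
  rw [h0, zero_comp] at hg
  exact hw (zero_of_comp_mono _ hg.symm)

/-- A quasi-coherent module embeds into a quasi-coherent injective module. -/
theorem exists_mono_injective [F.IsQuasicoherent] :
    ∃ (E : X.Modules) (g : F ⟶ E), Mono g ∧ Injective E ∧ E.IsQuasicoherent := by
  classical
  obtain ⟨s, hs, hmax⟩ := exists_maximal_family F
  haveI : Mono (famDesc F s) := hs
  choose E m hEinj hEqc hm using fun i : s => exists_mono_image F i.1.1 i.1.2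
  haveI : ∀ i, Mono (image.ι i.1.2 ≫ m i) := hm
  let e : (∐ fun i : s => image i.1.2) ⟶ ∐ E := Limits.Sigma.map fun i => image.ι i.1.2 ≫ m i
  haveI : Mono e := inferInstance
  haveI : Injective (∐ E) := injective_sigma _ hEinj
  let g := Injective.factorThru e (famDesc F s)
  refine ⟨∐ E, g, ?_, inferInstance, H10Coh.isQuasicoherent_coproduct E hEqc⟩
  refine Preadditive.mono_of_isZero_kernel _ ?_
  by_contra hK
  obtain ⟨U, w, hw⟩ := exists_hom_ne_zero _ hK
  let a : Idx F := ⟨U, w ≫ kernel.ι g⟩
  let f := image.ι a.2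
  have hfg : f ≫ g = 0 := by
    rw [← cancel_epi (factorThruImage a.2), comp_zero, ← Category.assoc, image.fac, Category.assoc,
      kernel.condition, comp_zero]
  have hf0 : f ≠ 0 := fun h => hw (zero_of_comp_mono (kernel.ι g)
    ((image.fac a.2).symm.trans (by rw [show image.ι a.2 = 0 from h, comp_zero])))
  have ha : a ∉ s := fun ha => by
    have h1 : Sigma.ι (fun i : s => image i.1.2) ⟨a, ha⟩ ≫ famDesc F s = f := by simp [famDesc, f]
    have h2 : Sigma.ι (fun i : s => image i.1.2) ⟨a, ha⟩ ≫ e = f ≫ g := by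
      rw [← h1, Category.assoc, Injective.comp_factorThru]
    rw [hfg, Limits.Sigma.ι_map] at h2
    haveI : Mono (Sigma.ι E ⟨a, ha⟩) := inferInstance
    have h3 : Mono ((image.ι a.2 ≫ m ⟨a, ha⟩) ≫ Sigma.ι E ⟨a, ha⟩) := @mono_comp _ _ _ _ _ _ (hm ⟨a, ha⟩) _ _
    haveI : Mono (0 : image a.2 ⟶ ∐ E) := h2 ▸ h3
    exact hf0 ((IsZero.of_mono_zero (image a.2) (∐ E)).eq_of_src _ _)
  refine ha (hmax (show Mono (famDesc F (insert a s)) from ?_) (Set.subset_insert a s) (Set.mem_insert a s))
  let r : (∐ fun i : ↥(insert a s) => image i.1.2) ⟶ image a.2 ⊞ ∐ fun i : s => image i.1.2 :=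
    Sigma.desc fun i => if h : i.1 = a then eqToHom (by rw [h]) ≫ biprod.inl
      else Sigma.ι (fun i : s => image i.1.2) ⟨i.1, i.2.resolve_left h⟩ ≫ biprod.inr
  haveI : IsSplitMono r := ⟨⟨⟨biprod.desc (Sigma.ι (fun i : ↥(insert a s) => image i.1.2) ⟨a, Set.mem_insert a s⟩)
    (famIncl F (Set.subset_insert a s)), Sigma.hom_ext _ _ fun i => by
      by_cases h : i.1 = a
      · obtain ⟨i, hi⟩ := i; subst h; simp [r]
      · simp [r, h, famIncl]⟩⟩⟩
  have hr : r ≫ biprod.desc f (famDesc F s) = famDesc F (insert a s) := Sigma.hom_ext _ _ fun i => by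
    by_cases h : i.1 = a
    · obtain ⟨i, hi⟩ := i; subst h; simp [r, famDesc, f]
    · simp [r, h, famDesc]
  haveI : Mono (biprod.desc f (famDesc F s)) := by
    refine Preadditive.mono_of_cancel_zero _ fun {P} t ht => ?_
    rw [biprod.desc_eq, Preadditive.comp_add] at ht
    have h1 : (t ≫ biprod.snd) ≫ e = 0 := by
      have := congrArg (· ≫ g) ht
      simp only [Preadditive.add_comp, Category.assoc, hfg, Limits.comp_zero, zero_add, zero_comp,
        Injective.comp_factorThru, g] at this
      simpa [Category.assoc] using this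
    have h2 : t ≫ biprod.snd = 0 := zero_of_comp_mono _ h1
    have h3 : t ≫ biprod.fst = 0 := by
      rw [← Category.assoc t biprod.snd, h2, zero_comp, add_zero, ← Category.assoc] at ht
      exact zero_of_comp_mono _ ht
    exact biprod.hom_ext _ _ (by rw [h3, zero_comp]) (by rw [h2, zero_comp])
  rw [← hr]
  exact mono_comp _ _

end Family

end Groth.Agent.H10Inj
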