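import Groth.Agent.H10Inj.Sections
import Groth.Agent.H06Mod.StalkExact
import Groth.Agent.H06Mod.StalkFinite
import Mathlib.AlgebraicGeometry.Noetherian

/-!
# Stalks of injective modules on locally Noetherian schemes are injective
-/

set_option autoImplicit false
set_option backward.isDefEq.respectTransparency false
set_option linter.style.haveILetI false

universe u

open CategoryTheory CategoryTheory.Limits AlgebraicGeometry TopologicalSpace Opposite

namespace Groth.Agent.H10Inj

open Groth.Agent.H06Mod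

variable {X : Scheme.{u}}

theorem germ_smul' (M : X.Modules) {U : X.Opens} {x : X} (hx : x ∈ U) (r : Γ(X, U)) (m : Γ(M, U)) :
    M.presheaf.germ U x hx (r • m) = X.presheaf.germ U x hx r • M.presheaf.germ U x hx m :=
  H06Mod.germ_smul M U hx r m

/-- Stalks of injective modules satisfy Baer's criterion. -/
theorem injective_stalk [IsLocallyNoetherian X] (I : X.Modules) [Injective I] (x : X) :
    Module.Injective (X.presheaf.stalk x) (I.presheaf.stalk x) := by
  classical
  refine Module.Baer.injective fun J φ => ?_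
  obtain ⟨n, b, hb⟩ := Submodule.fg_iff_exists_fin_generating_family.1 (IsNoetherian.noetherian J)
  have hbJ : ∀ i, b i ∈ J := fun i => hb ▸ Submodule.subset_span (Set.mem_range_self i)
  choose Va hVa a ha using fun i => X.presheaf.exists_germ_eq (b i)
  choose Vs hVs s hs using fun i => I.presheaf.exists_germ_eq (φ ⟨b i, hbJ i⟩)
  let V : X.Opens := ⟨⋂ i, ((Va i : Set X) ∩ Vs i), isOpen_iInter_of_finite fun i => (Va i).2.inter (Vs i).2⟩
  have hxV : x ∈ V := Set.mem_iInter.2 fun i => ⟨hVa i, hVs i⟩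
  obtain ⟨U, hU, hxU, hUV⟩ := exists_isAffineOpen_mem_and_subset (x := x) (U := V) hxV
  have hUa : ∀ i, U ≤ Va i := fun i y hy => (Set.mem_iInter.1 (hUV hy) i).1
  have hUs : ∀ i, U ≤ Vs i := fun i y hy => (Set.mem_iInter.1 (hUV hy) i).2
  haveI : IsNoetherianRing Γ(X, U) := IsLocallyNoetherian.component_noetherian ⟨U, hU⟩
  let a' : Fin n → Γ(X, U) := fun i => X.presheaf.map (homOfLE (hUa i)).op (a i)
  let s' : Fin n → Γ(I, U) := fun i => I.presheaf.map (homOfLE (hUs i)).op (s i)
  have ha' : ∀ i, X.presheaf.germ U x hxU (a' i) = b i := fun i =>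
    (TopCat.Presheaf.germ_res_apply X.presheaf (homOfLE (hUa i)) x hxU (a i)).trans (ha i)
  have hs' : ∀ i, I.presheaf.germ U x hxU (s' i) = φ ⟨b i, hbJ i⟩ := fun i =>
    (TopCat.Presheaf.germ_res_apply I.presheaf (homOfLE (hUs i)) x hxU (s i)).trans (hs i)
  let d : (Fin n → Γ(X, U)) →ₗ[Γ(X, U)] Γ(X, U) := Fintype.linearCombination Γ(X, U) a'
  obtain ⟨m, k, hk⟩ := Submodule.fg_iff_exists_fin_generating_family.1
    (IsNoetherian.noetherian (LinearMap.ker d))
  have hkd : ∀ l, ∑ i, k l i * a' i = 0 := fun l => by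
    have : k l ∈ LinearMap.ker d := hk ▸ Submodule.subset_span (Set.mem_range_self l)
    simpa [d, Fintype.linearCombination_apply, smul_eq_mul] using this
  -- the relations die near `x`
  have hrel : ∀ l, I.presheaf.germ U x hxU (∑ i, k l i • s' i) = I.presheaf.germ U x hxU 0 := fun l => by
    have h0 : (∑ i, X.presheaf.germ U x hxU (k l i) • (⟨b i, hbJ i⟩ : J)) = 0 := by
      refine Subtype.ext ?_
      rw [AddSubmonoidClass.coe_finsetSum, ZeroMemClass.coe_zero]
      simp only [SetLike.val_smul, smul_eq_mul, ← ha', ← map_mul, ← map_sum, hkd l, map_zero]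
    rw [map_zero, map_sum]
    simp only [germ_smul', hs']
    rw [← φ.map_zero, ← h0, map_sum]
    simp only [map_smul]
  choose W hxW i₁ i₂ hW using fun l => TopCat.Presheaf.germ_eq I.presheaf x hxU hxU _ _ (hrel l)
  let W₀ : X.Opens := ⟨(U : Set X) ∩ ⋂ l, (W l : Set X), U.2.inter (isOpen_iInter_of_finite fun l => (W l).2)⟩
  obtain ⟨f, hfW, hxf⟩ := hU.exists_basicOpen_le (V := W₀) ⟨x, hxU, Set.mem_iInter.2 hxW⟩ hxU
  let ρ : Γ(X, U) →+* Γ(X, X.basicOpen f) := (X.presheaf.map (homOfLE (X.basicOpen_le f)).op).hom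
  let σ : Γ(I, U) →+ Γ(I, X.basicOpen f) := (I.presheaf.map (homOfLE (X.basicOpen_le f)).op).hom
  have hσ : ∀ (r : Γ(X, U)) (t : Γ(I, U)), σ (r • t) = ρ r • σ t := fun r t => Scheme.Modules.map_smul ..
  have hrel' : ∀ l, ∑ i, ρ (k l i) • σ (s' i) = 0 := fun l => by
    simp only [← hσ, ← map_sum]
    have hle : X.basicOpen f ≤ W l := fun y hy => Set.mem_iInter.1 (hfW hy).2 l
    have h1 := congrArg (I.presheaf.map (homOfLE hle).op) (hW l)
    rw [← ConcreteCategory.comp_apply, ← ConcreteCategory.comp_apply, ← Functor.map_comp, ← Functor.map_comp,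
      map_zero] at h1
    exact h1
  -- the hom on the ideal generated over the basic open
  let A := Γ(X, X.basicOpen f)
  let d' : (Fin n → A) →ₗ[A] A := Fintype.linearCombination A fun i => ρ (a' i)
  let g' : (Fin n → A) →ₗ[A] Γ(I, X.basicOpen f) := Fintype.linearCombination A fun i => σ (s' i)
  have hloc : IsLocalization.Away f A := hU.isLocalization_basicOpen f
  have halg : ∀ r, algebraMap Γ(X, U) A r = ρ r := fun r => rfl
  have hker : LinearMap.ker d' ≤ LinearMap.ker g' := by
    intro c hc
    obtain ⟨⟨q, hq⟩, hint⟩ := IsLocalization.exist_integer_multiples_of_finite (Submonoid.powers f) c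
    choose p hp using hint
    have hu : IsUnit (ρ q) := halg q ▸ IsLocalization.map_units A (⟨q, hq⟩ : Submonoid.powers f)
    have hp' : ∀ i, ρ (p i) = ρ q * c i := fun i => by
      rw [← halg, hp i, Algebra.smul_def, halg]
    have h0 : ρ (∑ i, p i * a' i) = 0 := by
      rw [LinearMap.mem_ker, Fintype.linearCombination_apply] at hc
      simp only [smul_eq_mul] at hc
      simp only [map_sum, map_mul, hp', mul_assoc, ← Finset.mul_sum, hc, mul_zero]
    obtain ⟨⟨q', hq'⟩, hq'0⟩ := (IsLocalization.map_eq_zero_iff (Submonoid.powers f) A _).1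
      ((halg _).trans h0)
    have hmem : (fun i => q' * p i) ∈ LinearMap.ker d := by
      rw [LinearMap.mem_ker, Fintype.linearCombination_apply]
      simpa [smul_eq_mul, mul_assoc, ← Finset.mul_sum] using hq'0
    rw [← hk, Submodule.mem_span_range_iff_exists_fun] at hmem
    obtain ⟨e, he⟩ := hmem
    have he' : ∀ i, q' * p i = ∑ l, e l * k l i := fun i => by
      rw [← congrFun he i]; simp [Finset.sum_apply]
    have hu' : IsUnit (ρ q') := halg q' ▸ IsLocalization.map_units A (⟨q', hq'⟩ : Submonoid.powers f)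
    have hu'' : IsUnit (ρ q' * ρ q) := hu'.mul hu
    rw [LinearMap.mem_ker, ← hu''.smul_eq_zero]
    calc (ρ q' * ρ q) • g' c = ∑ i, ρ (q' * p i) • σ (s' i) := by
          simp [g', Fintype.linearCombination_apply, Finset.smul_sum, smul_smul, hp', mul_assoc]
      _ = ∑ l, ρ (e l) • ∑ i, ρ (k l i) • σ (s' i) := by
          simp only [he', map_sum, map_mul, Finset.sum_smul, Finset.smul_sum, smul_smul]
          rw [Finset.sum_comm]
      _ = 0 := by simp [hrel']
  let q : LinearMap.range d' →ₗ[A] Γ(I, X.basicOpen f) :=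
    (Submodule.liftQ _ g' hker).comp d'.quotKerEquivRange.symm.toLinearMap
  haveI := injective_sections I (hU.basicOpen f)
  obtain ⟨G, hG⟩ := Module.Baer.of_injective (Q := Γ(I, X.basicOpen f)) inferInstance (LinearMap.range d') q
  let v : I.presheaf.stalk x := I.presheaf.germ (X.basicOpen f) x hxf (G 1)
  refine ⟨LinearMap.toSpanSingleton _ _ v, fun y hy => ?_⟩
  have key : ∀ i, b i • v = φ ⟨b i, hbJ i⟩ := fun i => by
    have h1 : ρ (a' i) • G 1 = σ (s' i) := by
      have hd : d' (Pi.single i 1) = ρ (a' i) := by simp [d', Fintype.linearCombination_apply_single]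
      rw [← map_smul, smul_eq_mul, mul_one, hG _ ⟨_, hd⟩]
      have : q ⟨d' (Pi.single i 1), _, rfl⟩ = g' (Pi.single i 1) := by
        show Submodule.liftQ _ g' hker (d'.quotKerEquivRange.symm _) = _
        rw [LinearMap.quotKerEquivRange_symm_apply_image]
        rfl
      simp only [hd] at this
      exact this.trans (by simp [g', Fintype.linearCombination_apply_single])
    have h2 := congrArg (I.presheaf.germ (X.basicOpen f) x hxf) h1
    rw [germ_smul'] at h2
    rw [← hs' i, ← ha' i]
    refine Eq.trans ?_ (h2.trans (TopCat.Presheaf.germ_res_apply I.presheaf _ x hxf (s' i)))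
    exact congrArg (· • v) (TopCat.Presheaf.germ_res_apply X.presheaf _ x hxf (a' i)).symm
  show y • v = φ ⟨y, hy⟩
  have hy' : y ∈ Submodule.span (X.presheaf.stalk x) (Set.range b) := hb.symm ▸ hy
  obtain ⟨c, hc⟩ := (Submodule.mem_span_range_iff_exists_fun _).1 hy'
  have hyeq : (⟨y, hy⟩ : J) = ∑ i, c i • ⟨b i, hbJ i⟩ := Subtype.ext (by simp [← hc])
  rw [hyeq, map_sum, ← hc, Finset.sum_smul]
  refine Finset.sum_congr rfl fun i _ => ?_
  rw [map_smul, smul_assoc, key]

end Groth.Agent.H10Inj
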