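import Groth.Agent.H10Inj.TildeInjective
import Groth.Agent.H10Inj.StalkInjective
import Mathlib.RingTheory.Localization.BaseChange

/-!
# Quasi-coherent injective modules on locally Noetherian schemes
-/

set_option autoImplicit false
set_option backward.isDefEq.respectTransparency false
set_option linter.style.haveILetI false

universe u

open CategoryTheory CategoryTheory.Limits AlgebraicGeometry TopologicalSpace Opposite

namespace Groth.Agent.H10Inj

open Groth.Agent.H06Mod Groth.Agent.H16Derived.KFlat TensorProduct

variable {X Y : Scheme.{u}}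

/-- Injectivity of stalks passes to restrictions along open immersions. -/
theorem injective_stalk_restrict (f : Y ⟶ X) [IsOpenImmersion f] (K : X.Modules) (z : Y)
    (h : Module.Injective (X.presheaf.stalk (f z)) (K.presheaf.stalk (f z))) :
    Module.Injective (Y.presheaf.stalk z) ((K.restrict f).presheaf.stalk z) := by
  let σ : X.presheaf.stalk (f z) ≃+* Y.presheaf.stalk z :=
    RingEquiv.ofBijective (f.stalkMap z).hom (ConcreteCategory.bijective_of_isIso (f.stalkMap z))
  let E : (K.restrict f).presheaf.stalk z ≃+ K.presheaf.stalk (f z) :=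
    ((Scheme.Modules.restrictStalkNatIso f z).app K).addCommGroupIsoToAddEquiv
  refine injective_of_semilinear σ.symm E (fun a v => ?_) h
  obtain ⟨W, hzW, r, m, rfl, rfl⟩ := exists_germ_pair (K.restrict f) z a v
  have hg : ∀ m' : Γ(K.restrict f, W), E ((K.restrict f).presheaf.germ W z hzW m') =
      K.presheaf.germ (f ''ᵁ W) (f z) ⟨z, hzW, rfl⟩ m' :=
    fun m' => congr($(Scheme.Modules.germ_restrictStalkNatIso_hom_app f z K (U := W) hzW) m')
  rw [← germ_smul, hg, hg]
  let mm : Γ(K, f ''ᵁ W) := m
  rw [show (r • m : Γ(K.restrict f, W)) = ((f.appIso W).inv r • mm : Γ(K, f ''ᵁ W)) from rfl, germ_smul]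
  congr 1
  refine σ.injective ?_
  rw [σ.apply_symm_apply]
  show f.stalkMap z (X.presheaf.germ (f ''ᵁ W) (f z) ⟨z, hzW, rfl⟩ ((f.appIso W).inv r)) = _
  rw [Scheme.Hom.germ_stalkMap_apply]
  have h1 := congr($(f.appIso_inv_app W) r)
  rw [ConcreteCategory.comp_apply] at h1
  rw [h1, TopCat.Presheaf.germ_res_apply]

/-- Injectivity of stalks is invariant under isomorphism. -/
theorem injective_stalk_of_iso {F G : X.Modules} (e : F ≅ G) (x : X)
    (h : Module.Injective (X.presheaf.stalk x) (G.presheaf.stalk x)) :
    Module.Injective (X.presheaf.stalk x) (F.presheaf.stalk x) := by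
  let S := DerSch.stalkFunctor X x
  exact injective_of_semilinear (RingEquiv.refl _) (S.mapIso e).toLinearEquiv.toAddEquiv
    (fun r m => (S.mapIso e).toLinearEquiv.map_smul r m) h

/-- A module over a Noetherian ring is injective if the stalks of its sheaf are. -/
theorem injective_of_tilde_stalks {R : CommRingCat.{u}} [IsNoetherianRing R] (M : ModuleCat.{u} R)
    (h : ∀ p : (Spec R : Scheme.{u}), Module.Injective ((Spec R).presheaf.stalk p) ((tilde M).presheaf.stalk p)) :
    Module.Injective R M := by
  refine injective_of_localized fun q => ?_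
  let p : (Spec R : Scheme.{u}) := q
  let A := (Spec R).presheaf.stalk p
  let N := (tilde M).presheaf.stalk p
  letI : Algebra R A := TildeStalk.algebra p
  letI : Module R N := Module.compHom _ (TildeStalk.toRing p)
  haveI : IsScalarTower R A N := .of_algebraMap_smul fun _ _ => rfl
  haveI : IsLocalization.AtPrime A q.asIdeal := StructureSheaf.IsLocalization.to_stalk R q
  haveI : Module.Flat R A := IsLocalization.flat A q.asIdeal.primeCompl
  let ε : M →ₗ[R] N :=
    { toFun := TildeStalk.toStalkAdd M p, map_add' := map_add _, map_smul' := TildeStalk.toStalkAdd_smul M p }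
  refine ⟨N, inferInstance, inferInstance, ε, ?_, injective_of_flat (A := A) (h p)⟩
  rw [isLocalizedModule_iff_isBaseChange q.asIdeal.primeCompl A]
  have hb := TildeStalk.stalkLinMap_bijective M p
  refine IsBaseChange.of_equiv (LinearEquiv.ofBijective (TildeStalk.stalkLinMap M p) hb) fun m => ?_
  show TildeStalk.stalkLinMap M p (1 ⊗ₜ m) = _
  rw [TildeStalk.stalkLinMap_tmul, one_smul]
  rfl

/-- A quasi-coherent module with injective stalks is injective. -/
theorem injective_of_stalks [IsLocallyNoetherian X] (F : X.Modules) [F.IsQuasicoherent]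
    (h : ∀ x : X, Module.Injective (X.presheaf.stalk x) (F.presheaf.stalk x)) : Injective F := by
  refine injective_of_locally F fun x => ?_
  obtain ⟨U, hU, hxU, -⟩ := exists_isAffineOpen_mem_and_subset (x := x) (U := (⊤ : X.Opens)) trivial
  refine ⟨U, hxU, ?_⟩
  haveI : IsNoetherianRing Γ(X, U) := IsLocallyNoetherian.component_noetherian ⟨U, hU⟩
  let G := F.restrict hU.fromSpec
  haveI : G.IsQuasicoherent := Scheme.Modules.isQuasicoherent_restrictFunctor hU.fromSpec F
  let M := (moduleSpecΓFunctor (R := Γ(X, U))).obj G
  haveI : IsIso G.fromTildeΓ := Scheme.Modules.isIso_fromTildeΓ_of_isQuasicoherent (R := Γ(X, U)) G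
  let e : tilde M ≅ G := asIso G.fromTildeΓ
  haveI : Module.Injective Γ(X, U) M := injective_of_tilde_stalks M fun p =>
    injective_stalk_of_iso e p (injective_stalk_restrict hU.fromSpec F p (h _))
  haveI : Injective (tilde M) := injective_tilde M
  haveI : Injective G := Injective.of_iso e inferInstance
  haveI := ((restrictEquiv hU.isoSpec).map_injective_iff G).2 inferInstance
  exact Injective.of_iso ((Scheme.Modules.restrictFunctorComp hU.isoSpec.hom hU.fromSpec).symm.app F ≪≫
    (Scheme.Modules.restrictFunctorCongr hU.isoSpec_hom_fromSpec).app F) this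

end Groth.Agent.H10Inj
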