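import Groth.Agent.H10Inj.Local
import Groth.Agent.H06Mod.StalkExact

/-!
# Extensions by zero of structure sheaves of affine Noetherian opens are Noetherian objects
-/

set_option autoImplicit false
set_option backward.isDefEq.respectTransparency false
set_option linter.style.haveILetI false

universe u

open CategoryTheory CategoryTheory.Limits AlgebraicGeometry TopologicalSpace Opposite

namespace Groth.Agent.H10Inj

open Groth.Agent.H06Mod Groth.Agent.H16Derived.QCohD Groth.Agent.H16Derived.KFlat.Stalk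

/-- An increasing sequence of families of ideals indexed by the primes of a Noetherian ring, each
family being locally increasing at generic points, is eventually constant. -/
theorem exists_stationary {A : Type u} [CommRing A] [IsNoetherianRing A]
    (J : ℕ → PrimeSpectrum A → Ideal A) (hmono : ∀ p, Monotone fun n => J n p)
    (hopen : ∀ n p a, a ∈ J n p → ∃ V : Opens (PrimeSpectrum A), p ∈ V ∧ ∀ p' ∈ V, a ∈ J n p') :
    ∃ n, ∀ m, n ≤ m → ∀ p, J m p = J n p := by
  suffices h : ∀ I : Ideal A, ∃ n, ∀ m, n ≤ m → ∀ p : PrimeSpectrum A, I ≤ p.asIdeal → J m p = J n p by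
    obtain ⟨n, hn⟩ := h ⊥
    exact ⟨n, fun m hm p => hn m hm p bot_le⟩
  intro I
  induction I using IsNoetherian.induction (R := A) (M := A) with
  | hgt I ih =>
    have hjoin : ∀ n₁ n₂ m, max n₁ n₂ ≤ m → ∀ (p : PrimeSpectrum A),
        (∀ m, n₁ ≤ m → J m p = J n₁ p) → J m p = J (max n₁ n₂) p := by
      intro n₁ n₂ m hm p h
      rw [h m ((le_max_left _ _).trans hm), h _ (le_max_left _ _)]
    rcases eq_or_ne I ⊤ with rfl | hI
    · exact ⟨0, fun m _ p hp => absurd (top_le_iff.1 hp) p.2.ne_top⟩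
    by_cases hprime : Ideal.IsPrime I
    · let η : PrimeSpectrum A := ⟨I, hprime⟩
      obtain ⟨n₀, hn₀⟩ := monotone_stabilizes_iff_noetherian.2 (inferInstance : IsNoetherian A A)
        ⟨fun n => J n η, hmono η⟩
      obtain ⟨t, ht⟩ := IsNoetherian.noetherian (J n₀ η)
      have hex : ∀ a : t, ∃ V : Opens (PrimeSpectrum A), η ∈ V ∧ ∀ p' ∈ V, (a : A) ∈ J n₀ p' :=
        fun a => hopen n₀ η a (ht ▸ Submodule.subset_span a.2)
      choose V hV hVmem using hex
      let W : Set (PrimeSpectrum A) := ⋂ a : t, (V a : Set (PrimeSpectrum A))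
      have hWo : IsOpen W := isOpen_iInter_of_finite fun a => (V a).2
      obtain ⟨_, ⟨s, rfl⟩, hsη, hsW⟩ := PrimeSpectrum.isTopologicalBasis_basic_opens.exists_subset_of_mem_open
        (show η ∈ W from Set.mem_iInter.2 hV) hWo
      have hsI : s ∉ I := hsη
      have hlt : I < I ⊔ Ideal.span {s} := lt_of_le_of_ne le_sup_left fun e =>
        hsI (e ▸ (le_sup_right : Ideal.span {s} ≤ I ⊔ Ideal.span {s}) (Ideal.mem_span_singleton_self s))
      obtain ⟨n₁, hn₁⟩ := ih _ hlt
      refine ⟨max n₁ n₀, fun m hm p hp => ?_⟩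
      by_cases hs : s ∈ p.asIdeal
      · exact hjoin n₁ n₀ m hm p fun m hm => hn₁ m hm p (sup_le hp ((Ideal.span_singleton_le_iff_mem _).2 hs))
      · have hpW : p ∈ W := hsW hs
        have hup : J n₀ η ≤ J n₀ p := by
          rw [← ht, Submodule.span_le]
          exact fun a ha => hVmem ⟨a, ha⟩ p (Set.mem_iInter.1 hpW ⟨a, ha⟩)
        have hsp : η ⤳ p := (PrimeSpectrum.le_iff_specializes η p).1 hp
        have key : ∀ k, n₀ ≤ k → J k p = J n₀ p := fun k hk => le_antisymm (fun a ha => by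
          obtain ⟨U, hpU, hU⟩ := hopen k p a ha
          have he : J n₀ η = J k η := hn₀ k hk
          exact hup (he.symm ▸ hU η (hsp.mem_open U.2 hpU))) (hmono p hk)
        rw [key m ((le_max_right _ _).trans hm), key _ (le_max_right _ _)]
    · obtain ⟨a, b, hab, ha, hb⟩ : ∃ a b, a * b ∈ I ∧ a ∉ I ∧ b ∉ I := by
        by_contra h
        push Not at h
        exact hprime ⟨hI, fun {a b} hab => or_iff_not_imp_left.2 fun ha => h a b hab ha⟩
      have hlt : ∀ s, s ∉ I → I < I ⊔ Ideal.span {s} := fun s hs => lt_of_le_of_ne le_sup_left fun e =>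
        hs (e ▸ (le_sup_right : Ideal.span {s} ≤ I ⊔ Ideal.span {s}) (Ideal.mem_span_singleton_self s))
      obtain ⟨n₁, hn₁⟩ := ih _ (hlt a ha)
      obtain ⟨n₂, hn₂⟩ := ih _ (hlt b hb)
      refine ⟨max n₁ n₂, fun m hm p hp => ?_⟩
      rcases p.2.mem_or_mem (hp hab) with h | h
      · exact hjoin n₁ n₂ m hm p fun m hm => hn₁ m hm p (sup_le hp ((Ideal.span_singleton_le_iff_mem _).2 h))
      · rw [max_comm] at hm ⊢
        exact hjoin n₂ n₁ m hm p fun m hm => hn₂ m hm p (sup_le hp ((Ideal.span_singleton_le_iff_mem _).2 h))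

variable {U : Scheme.{u}}

/-- The germ of `1` in the stalk of the structure module. -/
noncomputable def oneGerm (x : U) : (Coh.structureModule U).presheaf.stalk x :=
  (Coh.structureModule U).presheaf.germ (⊤ : U.Opens) x trivial (1 : Γ(U, ⊤))

theorem germ_eq_smul_oneGerm (x : U) (V : U.Opens) (hx : x ∈ V) (a : Γ(U, V)) :
    (Coh.structureModule U).presheaf.germ V x hx a = U.presheaf.germ V x hx a • oneGerm x := by
  rw [oneGerm, ← TopCat.Presheaf.germ_res_apply (Coh.structureModule U).presheaf (homOfLE le_top : V ⟶ ⊤) x hx,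
    ← germ_smul]
  refine congrArg _ ?_
  show a = a * U.presheaf.map (homOfLE le_top : V ⟶ ⊤).op 1
  rw [map_one, mul_one]

theorem exists_smul_oneGerm (x : U) (t : (Coh.structureModule U).presheaf.stalk x) :
    ∃ r : U.presheaf.stalk x, r • oneGerm x = t := by
  obtain ⟨V, hx, a, rfl⟩ := (Coh.structureModule U).presheaf.exists_germ_eq t
  exact ⟨_, (germ_eq_smul_oneGerm x V hx a).symm⟩

/-- Sub-`O`-modules of the structure sheaf of a Noetherian affine scheme satisfy the ascending chain
condition, stated for the images in the stalks. -/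
theorem exists_range_eq [IsAffine U] [IsLocallyNoetherian U] (G : ℕ → U.Modules)
    (φ : ∀ n, G n ⟶ Coh.structureModule U)
    (hφ : ∀ n m, n ≤ m → ∀ x, LinearMap.range (stalkLin (φ n) x) ≤ LinearMap.range (stalkLin (φ m) x)) :
    ∃ n, ∀ m, n ≤ m → ∀ x, LinearMap.range (stalkLin (φ m) x) = LinearMap.range (stalkLin (φ n) x) := by
  let hU := isAffineOpen_top U
  let A := Γ(U, ⊤)
  have : IsNoetherianRing A := IsLocallyNoetherian.component_noetherian ⟨⊤, hU⟩
  let pt : PrimeSpectrum A → U := fun p => hU.fromSpec p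
  let Q : ℕ → ∀ x : U, Ideal (U.presheaf.stalk x) := fun n x =>
    (LinearMap.range (stalkLin (φ n) x)).comap (LinearMap.toSpanSingleton _ _ (oneGerm x))
  have hQ : ∀ n x r, r ∈ Q n x ↔ r • oneGerm x ∈ LinearMap.range (stalkLin (φ n) x) := fun _ _ _ => Iff.rfl
  let J : ℕ → PrimeSpectrum A → Ideal A := fun n p =>
    (Q n (pt p)).comap (U.presheaf.germ ⊤ (pt p) trivial).hom
  obtain ⟨n, hn⟩ := exists_stationary J
    (fun p n m h => Ideal.comap_mono (Submodule.comap_mono (hφ n m h (pt p)))) (fun n p a ha => by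
      obtain ⟨t, ht⟩ := ha
      obtain ⟨V, hV, s, rfl⟩ := (G n).presheaf.exists_germ_eq t
      rw [stalkLin_germ, LinearMap.toSpanSingleton_apply, ← germ_eq_smul_oneGerm] at ht
      have hT : pt p ∈ (⊤ : U.Opens) := trivial
      obtain ⟨W, hW, iV, iT, hW'⟩ := TopCat.Presheaf.germ_eq (Coh.structureModule U).presheaf (pt p) hV hT _ _ ht
      refine ⟨⟨pt ⁻¹' W, W.2.preimage hU.fromSpec.continuous⟩, hW, fun p' hp' => ?_⟩
      refine ⟨(G n).presheaf.germ V (pt p') (iV.le hp') s, ?_⟩
      rw [stalkLin_germ, LinearMap.toSpanSingleton_apply, ← germ_eq_smul_oneGerm,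
        ← TopCat.Presheaf.germ_res_apply (Coh.structureModule U).presheaf iV (pt p') hp',
        ← TopCat.Presheaf.germ_res_apply (Coh.structureModule U).presheaf iT (pt p') hp']
      exact congrArg _ hW')
  refine ⟨n, fun m hm x => ?_⟩
  obtain ⟨p, rfl⟩ : ∃ p, pt p = x := ⟨hU.primeIdealOf ⟨x, trivial⟩, hU.fromSpec_primeIdealOf ⟨x, trivial⟩⟩
  have hQeq : Q m (pt p) = Q n (pt p) := by
    let := TopCat.Presheaf.algebra_section_stalk U.presheaf (⟨pt p, trivial⟩ : (⊤ : U.Opens))
    have := hU.isLocalization_stalk ⟨pt p, trivial⟩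
    let M := (hU.primeIdealOf ⟨pt p, trivial⟩).asIdeal.primeCompl
    rw [← IsLocalization.map_under M (U.presheaf.stalk (pt p)) (Q m (pt p)),
      ← IsLocalization.map_under M (U.presheaf.stalk (pt p)) (Q n (pt p))]
    exact congrArg (Ideal.map _) (hn m hm p)
  ext t
  obtain ⟨r, rfl⟩ := exists_smul_oneGerm (pt p) t
  rw [← hQ, ← hQ, hQeq]

variable {X : Scheme.{u}} (j : U ⟶ X) [IsOpenImmersion j]

/-- Stalks of an extension by zero vanish outside the open. -/
theorem isZero_stalk_extZero (M : U.Modules) (x : X) (hx : x ∉ Set.range j) :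
    IsZero ((DerSch.stalkFunctor X x).obj ((CxOX.extZero j).obj M)) := by
  let N := ((CxOX.extZero j).obj M).presheaf.stalk x
  have h : ∀ (φ : (CxOX.extZero j).obj M ⟶ sky x N), φ = 0 := fun φ => by
    apply ((CxOX.extZeroAdj j).homEquiv _ _).injective
    refine Scheme.Modules.hom_ext _ _ fun V => AddCommGrpCat.hom_ext (AddMonoidHom.ext fun a => ?_)
    refine skyEval_ext x N fun hV => (hx ?_).elim
    obtain ⟨y, -, rfl⟩ := hV
    exact ⟨y, rfl⟩
  refine @ModuleCat.isZero_of_subsingleton _ _ _ ⟨fun a b => ?_⟩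
  have h0 := h (homOfStalk (x := x) (N := N) (F := (CxOX.extZero j).obj M) LinearMap.id)
  have key : ∀ c : N, c = stalkOfHom (0 : (CxOX.extZero j).obj M ⟶ sky x N) c := fun c => by
    rw [← h0, stalkOfHom_homOfStalk]; rfl
  obtain ⟨W, hW, a', ha⟩ := ((CxOX.extZero j).obj M).presheaf.exists_germ_eq a
  obtain ⟨V, hV, b', hb⟩ := ((CxOX.extZero j).obj M).presheaf.exists_germ_eq b
  refine (key a).trans (Eq.trans ?_ (key b).symm)
  rw [← ha, ← hb, stalkOfHom_germ, stalkOfHom_germ]
  rfl

theorem isIso_extZero_unit' : IsIso (CxOX.extZeroAdj j).unit :=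
  ((Adjunction.Triple.mk (CxOX.extZeroAdj j)
    (Scheme.Modules.restrictAdjunction j)).isIso_unit_iff_isIso_counit).2 inferInstance

theorem isIso_stalk_of_restrict' {M N : X.Modules} (φ : M ⟶ N) (y : U)
    [IsIso ((DerSch.stalkFunctor U y).map ((Scheme.Modules.restrictFunctor j).map φ))] :
    IsIso ((DerSch.stalkFunctor X (j y)).map φ) := by
  haveI : IsIso ((DerSch.stalkFunctor U y ⋙ forget₂ (ModuleCat.{u} (U.presheaf.stalk y)) AddCommGrpCat.{u}).map
      ((Scheme.Modules.restrictFunctor j).map φ)) := by rw [Functor.comp_map]; infer_instance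
  have h1 : IsIso ((Scheme.Modules.restrictFunctor j ⋙ Scheme.Modules.toPresheaf _ ⋙
      TopCat.Presheaf.stalkFunctor _ y).map φ) :=
    (NatIso.isIso_map_iff (stalkAbIso y) ((Scheme.Modules.restrictFunctor j).map φ)).1 this
  have h2 := (NatIso.isIso_map_iff (Scheme.Modules.restrictStalkNatIso j y) φ).1 h1
  haveI : IsIso ((DerSch.stalkFunctor X (j y) ⋙
      forget₂ (ModuleCat.{u} (X.presheaf.stalk (j y))) AddCommGrpCat.{u}).map φ) :=
    (NatIso.isIso_map_iff (stalkAbIso (j y)) φ).2 h2
  haveI : IsIso ((forget₂ (ModuleCat.{u} (X.presheaf.stalk (j y))) AddCommGrpCat.{u}).map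
      ((DerSch.stalkFunctor X (j y)).map φ)) := this
  exact isIso_of_reflects_iso _ (forget₂ (ModuleCat.{u} (X.presheaf.stalk (j y))) AddCommGrpCat.{u})

/-- `j_! O_U` is a Noetherian object. -/
theorem isNoetherianObject_extZeroUnit [IsAffine U] [IsLocallyNoetherian U] :
    IsNoetherianObject (CxOX.extZeroUnit j) := by
  rw [isNoetherianObject_iff_monotone_chain_condition]
  intro c
  let r := Scheme.Modules.restrictFunctor j
  have := isIso_extZero_unit' j
  have hmu : Mono (inv ((CxOX.extZeroAdj j).unit.app (Coh.structureModule U))) := inferInstance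
  let φ : ∀ n, r.obj (c n : X.Modules) ⟶ Coh.structureModule U := fun n =>
    r.map (c n).arrow ≫ inv ((CxOX.extZeroAdj j).unit.app (Coh.structureModule U))
  have hfac : ∀ n m (h : n ≤ m), r.map (Subobject.ofLE _ _ (c.monotone h)) ≫ φ m = φ n := fun n m h => by
    rw [← Category.assoc, ← r.map_comp, Subobject.ofLE_arrow]
  have hcomp : ∀ n m (h : n ≤ m) (y : U) t,
      stalkLin (φ n) y t = stalkLin (φ m) y (stalkLin (r.map (Subobject.ofLE _ _ (c.monotone h))) y t) := by
    intro n m h y t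
    obtain ⟨V, hV, s, rfl⟩ := (r.obj (c n : X.Modules)).presheaf.exists_germ_eq t
    rw [stalkLin_germ, stalkLin_germ, stalkLin_germ]
    exact congrArg _ (congr($((congrArg (fun ψ => Scheme.Modules.Hom.app ψ V) (hfac n m h)).symm) s))
  obtain ⟨n, hn⟩ := exists_range_eq (fun n => r.obj (c n : X.Modules)) φ fun n m h y => by
    rintro _ ⟨t, rfl⟩
    exact ⟨_, (hcomp n m h y t).symm⟩
  refine ⟨n, fun m hm => ?_⟩
  let w := Subobject.ofLE _ _ (c.monotone hm)
  suffices IsIso w from le_antisymm (c.monotone hm) (Subobject.le_of_comm (inv w) (by simp [w]))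
  refine isIso_of_stalk w fun x => ?_
  let S := DerSch.stalkFunctor X x
  haveI : Mono (S.map w) := inferInstance
  by_cases hx : x ∈ Set.range j
  · obtain ⟨y, rfl⟩ := hx
    let Sy := DerSch.stalkFunctor U y
    haveI : Mono (Sy.map (r.map w)) := inferInstance
    haveI : Mono (φ m) := mono_comp _ _
    have hinj : Function.Injective (stalkLin (φ m) y) := (ModuleCat.mono_iff_injective (Sy.map (φ m))).1 inferInstance
    haveI : Epi (Sy.map (r.map w)) := by
      rw [ModuleCat.epi_iff_surjective]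
      intro t
      obtain ⟨t', ht'⟩ : stalkLin (φ m) y t ∈ LinearMap.range (stalkLin (φ n) y) := hn m hm y ▸ ⟨t, rfl⟩
      exact ⟨t', hinj ((hcomp n m hm y t').symm.trans ht')⟩
    haveI := isIso_of_mono_of_epi (Sy.map (r.map w))
    exact isIso_stalk_of_restrict' j w y
  · have hz := fun k => (isZero_stalk_extZero j (Coh.structureModule U) x hx).of_mono (S.map (c k).arrow)
    exact isIso_of_source_target_iso_zero _ (hz n).isoZero (hz m).isoZero

end Groth.Agent.H10Inj
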