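import Groth.Agent.H29RR.FiniteGen
import Groth.Agent.H13Desc.FTOpen
import Groth.Agent.H11Ample.Counit
import Groth.Agent.H29Ref.HomSections
import Groth.Agent.H10Coh.QcqsPush
import Groth.Agent.H8Props.FunDescent.Stalk

/-!
# Global generation of a module over an open subscheme, through stalks
-/

set_option autoImplicit false
set_option linter.style.haveILetI false
set_option backward.isDefEq.respectTransparency false

universe u

open CategoryTheory CategoryTheory.Limits AlgebraicGeometry TopologicalSpace Opposite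

namespace Groth.Agent.H10Inj.GGOn

variable {X : Scheme.{u}}

/-- The germs of the sections over `V` span the stalks at the points of `V`. -/
def SpansOn (F : X.Modules) (V : X.Opens) : Prop :=
  ∀ (x : X) (hx : x ∈ V), Submodule.span (X.presheaf.stalk x)
    (Set.range fun t : Γ(F, V) => F.presheaf.germ V x hx t) = ⊤

/-- Stalkwise generation by global sections gives global generation. -/
theorem isGloballyGenerated_of_spansAt (F : X.Modules) (h : ∀ x, H29RR.SpansAt F x) :
    Curv2.IsGloballyGenerated F := by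
  classical
  refine H11Ample.isGloballyGenerated_of_locally F (id : Γ(F, ⊤) → Γ(F, ⊤)) fun W t x hx => ?_
  have hmem : F.presheaf.germ W x hx t ∈ Submodule.span (X.presheaf.stalk x)
      (Set.range fun g : Γ(F, ⊤) => F.presheaf.germ ⊤ x trivial g) := (h x).symm ▸ Submodule.mem_top
  obtain ⟨s, hs, hmem⟩ := Submodule.mem_span_finite_of_mem_span hmem
  choose g hg using fun v : s => hs v.2
  let a : Fin s.card → Γ(F, W) := fun j =>
    F.presheaf.map (homOfLE (le_top : W ≤ ⊤)).op (g (s.equivFin.symm j))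
  have hrange : Submodule.span (X.presheaf.stalk x) (s : Set (F.presheaf.stalk x)) ≤
      Submodule.span (X.presheaf.stalk x) (Set.range fun j => F.presheaf.germ W x hx (a j)) := by
    refine Submodule.span_mono fun v hv => ⟨s.equivFin ⟨v, hv⟩, ?_⟩
    simp only [a, TopCat.Presheaf.germ_res_apply, Equiv.symm_apply_apply]
    exact hg ⟨v, hv⟩
  obtain ⟨V, hxV, hVW, r, hr⟩ := H13Desc.exists_nhd_mem_span F a t x hx (hrange hmem)
  refine ⟨V, hVW, hxV, ?_⟩
  rw [hr]
  refine Submodule.sum_mem _ fun j _ => Submodule.smul_mem _ _ (Submodule.subset_span ⟨g (s.equivFin.symm j), ?_⟩)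
  change F.presheaf.map _ (g _) = F.presheaf.map _ (F.presheaf.map _ (g _))
  rw [← ConcreteCategory.comp_apply, ← F.presheaf.map_comp]
  rfl

variable (V : X.Opens) (F : X.Modules) (y : ↥(V : Scheme.{u}))

/-- The identification of the stalks of a restriction. -/
noncomputable def rst : (F.restrict V.ι).presheaf.stalk y →+ F.presheaf.stalk (V.ι y) :=
  ((Scheme.Modules.restrictStalkNatIso V.ι y).hom.app F).hom

theorem rst_bijective : Function.Bijective (rst V F y) :=
  ConcreteCategory.bijective_of_isIso ((Scheme.Modules.restrictStalkNatIso V.ι y).hom.app F)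

theorem restrictStalk_germ (W : (V : Scheme.{u}).Opens) (hy : y ∈ W) (m : Γ(F, V.ι ''ᵁ W)) :
    rst V F y
        ((F.restrict V.ι).presheaf.germ W y hy m) =
      F.presheaf.germ (V.ι ''ᵁ W) (V.ι y) ⟨y, hy, rfl⟩ m :=
  congr($(Scheme.Modules.germ_restrictStalkNatIso_hom_app V.ι y F (U := W) hy) m)

theorem restrictStalk_smul (c : (V : Scheme.{u}).presheaf.stalk y) (v : (F.restrict V.ι).presheaf.stalk y) :
    ∃ c' : X.presheaf.stalk (V.ι y), rst V F y (c • v) =
      c' • rst V F y v := by
  obtain ⟨W, hy, r, m, rfl, rfl⟩ := H06Mod.exists_germ_pair (F.restrict V.ι) y c v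
  refine ⟨X.presheaf.germ (V.ι ''ᵁ W) (V.ι y) ⟨y, hy, rfl⟩ ((V.ι.appIso W).inv r), ?_⟩
  rw [← H06Mod.germ_smul]
  erw [restrictStalk_germ, restrictStalk_germ]
  rw [← H06Mod.germ_smul]
  rfl

theorem restrictStalk_smul_inv (c' : X.presheaf.stalk (V.ι y)) (v : (F.restrict V.ι).presheaf.stalk y) :
    ∃ c : (V : Scheme.{u}).presheaf.stalk y, rst V F y (c • v) =
      c' • rst V F y v := by
  obtain ⟨O, hO, r, rfl⟩ := X.presheaf.exists_germ_eq c'
  obtain ⟨W, hy, m, rfl⟩ := (F.restrict V.ι).presheaf.exists_germ_eq v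
  let D : (V : Scheme.{u}).Opens := V.ι ⁻¹ᵁ O ⊓ W
  have hD : y ∈ D := ⟨hO, hy⟩
  have hle : V.ι ''ᵁ D ≤ O := by
    rintro _ ⟨z, hz, rfl⟩; exact hz.1
  let r₁ : Γ((V : Scheme.{u}), D) := (V.ι.appIso D).hom (X.presheaf.map (homOfLE hle).op r)
  refine ⟨(V : Scheme.{u}).presheaf.germ D y hD r₁, ?_⟩
  rw [← TopCat.Presheaf.germ_res_apply (F.restrict V.ι).presheaf (homOfLE (inf_le_right : D ≤ W)) y hD m,
    ← H06Mod.germ_smul]
  erw [restrictStalk_germ, restrictStalk_germ]
  rw [← TopCat.Presheaf.germ_res_apply X.presheaf (homOfLE hle) (V.ι y) ⟨y, hD, rfl⟩ r,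
    ← H06Mod.germ_smul]
  change F.presheaf.germ _ _ _ (((V.ι.appIso D).inv r₁) • _) = _
  congr 2
  exact congr($((V.ι.appIso D).hom_inv_id) (X.presheaf.map (homOfLE hle).op r))

theorem spansAt_restrict_iff :
    H29RR.SpansAt (F.restrict V.ι) y ↔ Submodule.span (X.presheaf.stalk (V.ι y))
      (Set.range fun t : Γ(F, V) => F.presheaf.germ V (V.ι y) y.2 t) = ⊤ := by
  let φ := rst V F y
  have hinj : Function.Injective φ := (rst_bijective V F y).1
  constructor
  · intro h
    rw [eq_top_iff]
    rintro w -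
    obtain ⟨v, rfl⟩ := (rst_bijective V F y).2 w
    have hv : v ∈ Submodule.span ((V : Scheme.{u}).presheaf.stalk y)
        (Set.range fun g : Γ(F.restrict V.ι, ⊤) => (F.restrict V.ι).presheaf.germ ⊤ y trivial g) :=
      (h : _ = ⊤).symm ▸ Submodule.mem_top
    induction hv using Submodule.span_induction with
    | mem z hz =>
      obtain ⟨g, rfl⟩ := hz
      refine Submodule.subset_span ⟨F.presheaf.map (eqToHom V.ι_image_top.symm).op g, ?_⟩
      exact (TopCat.Presheaf.germ_res_apply F.presheaf _ _ _ _).trans (restrictStalk_germ V F y ⊤ trivial g).symm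
    | zero => rw [map_zero]; exact zero_mem _
    | add a b _ _ ha hb => rw [map_add]; exact add_mem ha hb
    | smul c a _ ha =>
      obtain ⟨c', hc'⟩ := restrictStalk_smul V F y c a
      exact hc' ▸ Submodule.smul_mem _ _ ha
  · intro h
    rw [H29RR.SpansAt, eq_top_iff]
    rintro v -
    have hv : φ v ∈ Submodule.span (X.presheaf.stalk (V.ι y))
      (Set.range fun t : Γ(F, V) => F.presheaf.germ V (V.ι y) y.2 t) := h.symm ▸ Submodule.mem_top
    suffices key : ∀ w, w ∈ Submodule.span (X.presheaf.stalk (V.ι y))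
        (Set.range fun t : Γ(F, V) => F.presheaf.germ V (V.ι y) y.2 t) →
        ∃ v' ∈ Submodule.span ((V : Scheme.{u}).presheaf.stalk y)
          (Set.range fun g : Γ(F.restrict V.ι, ⊤) => (F.restrict V.ι).presheaf.germ ⊤ y trivial g), φ v' = w by
      obtain ⟨v', hv', he⟩ := key _ hv
      exact hinj he ▸ hv'
    intro w hw
    induction hw using Submodule.span_induction with
    | mem z hz =>
      obtain ⟨t, rfl⟩ := hz
      refine ⟨_, Submodule.subset_span ⟨F.presheaf.map (eqToHom V.ι_image_top).op t, rfl⟩, ?_⟩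
      exact (restrictStalk_germ V F y ⊤ trivial _).trans (TopCat.Presheaf.germ_res_apply F.presheaf _ _ _ _)
    | zero => exact ⟨0, zero_mem _, map_zero _⟩
    | add a b _ _ ha hb =>
      obtain ⟨a', ha', rfl⟩ := ha
      obtain ⟨b', hb', rfl⟩ := hb
      exact ⟨a' + b', add_mem ha' hb', map_add _ _ _⟩
    | smul c' a _ ha =>
      obtain ⟨a', ha', rfl⟩ := ha
      obtain ⟨c, hc⟩ := restrictStalk_smul_inv V F y c' a'
      exact ⟨c • a', Submodule.smul_mem _ _ ha', hc⟩

/-- Global generation of a restriction, through stalks. -/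
theorem isGloballyGenerated_restrict_iff :
    Curv2.IsGloballyGenerated (F.restrict V.ι) ↔ SpansOn F V := by
  constructor
  · intro h x hx
    exact (spansAt_restrict_iff V F ⟨x, hx⟩).1 (H29RR.spansAt_of_globallyGenerated h _)
  · intro h
    exact isGloballyGenerated_of_spansAt _ fun y => (spansAt_restrict_iff V F y).2 (h y.1 y.2)

end Groth.Agent.H10Inj.GGOn
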