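import Groth.Agent.H10Coh.Proper2
import Groth.Agent.H10Coh.Bounded

/-!
# The long exact sequence of cohomology with values in modules over the base ring
-/

set_option autoImplicit false
set_option linter.style.haveILetI false
set_option backward.isDefEq.respectTransparency false

universe u

open CategoryTheory CategoryTheory.Limits AlgebraicGeometry Opposite TopologicalSpace Abelian

namespace Groth.Agent.H10Inj.HHSeq

attribute [local instance 10000] H10Coh.hasSheafifyAb H10Coh.hasWeakSheafifyAb H10Coh.hasExtAb H10Coh.enoughInjAb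

variable (A : Type u) [CommRing A] {X : Scheme.{u}} [X.Over (Spec (CommRingCat.of A))]

/-- The long exact sequence of `A`-modules. -/
theorem exists_les (S : ShortComplex X.Modules) (hS : S.ShortExact) :
    ∃ (f : ∀ n, Coh.HH X S.X₁ n →ₗ[A] Coh.HH X S.X₂ n) (g : ∀ n, Coh.HH X S.X₂ n →ₗ[A] Coh.HH X S.X₃ n)
      (δ : ∀ n, Coh.HH X S.X₃ n →ₗ[A] Coh.HH X S.X₁ (n + 1)),
      Function.Injective (f 0) ∧ (∀ n, Function.Exact (f n) (g n)) ∧
        (∀ n, Function.Exact (g n) (δ n)) ∧ ∀ n, Function.Exact (δ n) (f (n + 1)) := by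
  let σ := H10Coh.actSeq (H10Coh.globA (A := A) (X := X)) S
  have hS' := H10Coh.shortExact_sh hS
  haveI := hS'.mono_f
  letI := fun (M : X.Modules) (n : ℕ) => (H10Coh.actM (H10Coh.globA (A := A) (X := X)) M).mod n ⊤
  let e : ∀ (M : X.Modules) (n : ℕ), Coh.HH X M n ≃ₗ[A] H10Coh.HnM M n ⊤ := fun M n =>
    { H10Coh.HHEquiv M n with map_smul' := H10Coh.HHEquiv_smul' M n }
  let f₀ : ∀ n, H10Coh.HnM S.X₁ n ⊤ →ₗ[A] H10Coh.HnM S.X₂ n ⊤ := fun n => H10Coh.ActSh.map σ.comm₁₂ n ⊤
  let g₀ : ∀ n, H10Coh.HnM S.X₂ n ⊤ →ₗ[A] H10Coh.HnM S.X₃ n ⊤ := fun n => H10Coh.ActSh.map σ.comm₂₃ n ⊤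
  let δ₀ : ∀ n, H10Coh.HnM S.X₃ n ⊤ →ₗ[A] H10Coh.HnM S.X₁ (n + 1) ⊤ := fun n => σ.delta hS' n ⊤
  have hfg : ∀ n, Function.Exact (f₀ n) (g₀ n) := fun n x => by
    refine ⟨fun hx => Ext.covariant_sequence_exact₂ _ hS' x hx, ?_⟩
    rintro ⟨x, rfl⟩
    show (x.comp (Ext.mk₀ (S.map (H10Coh.shF X)).f) (add_zero n)).comp
      (Ext.mk₀ (S.map (H10Coh.shF X)).g) (add_zero n) = 0
    rw [Ext.comp_assoc_of_second_deg_zero, Ext.mk₀_comp_mk₀, (S.map (H10Coh.shF X)).zero, Ext.mk₀_zero,
      Ext.comp_zero]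
  have hgd : ∀ n, Function.Exact (g₀ n) (δ₀ n) := fun n x => by
    refine ⟨fun hx => Ext.covariant_sequence_exact₃ _ hS' x rfl hx, ?_⟩
    rintro ⟨x, rfl⟩
    show (x.comp (Ext.mk₀ (S.map (H10Coh.shF X)).g) (add_zero n)).comp hS'.extClass rfl = 0
    rw [Ext.comp_assoc_of_second_deg_zero, hS'.comp_extClass, Ext.comp_zero]
  have hdf : ∀ n, Function.Exact (δ₀ n) (f₀ (n + 1)) := fun n x => by
    refine ⟨fun hx => Ext.covariant_sequence_exact₁ _ hS' x hx rfl, ?_⟩
    rintro ⟨x, rfl⟩
    show (x.comp hS'.extClass rfl).comp (Ext.mk₀ (S.map (H10Coh.shF X)).f) (add_zero (n + 1)) = 0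
    rw [Ext.comp_assoc_of_third_deg_zero, hS'.extClass_comp, Ext.comp_zero]
  have hf0 : Function.Injective (f₀ 0) := Ext.postcomp_mk₀_injective_of_mono _ (S.map (H10Coh.shF X)).f
  refine ⟨fun n => (e S.X₂ n).symm.toLinearMap ∘ₗ f₀ n ∘ₗ (e S.X₁ n).toLinearMap,
    fun n => (e S.X₃ n).symm.toLinearMap ∘ₗ g₀ n ∘ₗ (e S.X₂ n).toLinearMap,
    fun n => (e S.X₁ (n + 1)).symm.toLinearMap ∘ₗ δ₀ n ∘ₗ (e S.X₃ n).toLinearMap,
    fun a b h => (e S.X₁ 0).injective (hf0 ((e S.X₂ 0).symm.injective h)),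
    fun n => ?_, fun n => ?_, fun n => ?_⟩
  · exact Function.Exact.of_ladder_linearEquiv_of_exact (e₁ := (e S.X₁ n).symm) (e₂ := (e S.X₂ n).symm)
      (e₃ := (e S.X₃ n).symm) (by ext; simp) (by ext; simp) (hfg n)
  · exact Function.Exact.of_ladder_linearEquiv_of_exact (e₁ := (e S.X₂ n).symm) (e₂ := (e S.X₃ n).symm)
      (e₃ := (e S.X₁ (n + 1)).symm) (by ext; simp) (by ext; simp) (hgd n)
  · exact Function.Exact.of_ladder_linearEquiv_of_exact (e₁ := (e S.X₃ n).symm) (e₂ := (e S.X₁ (n + 1)).symm)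
      (e₃ := (e S.X₂ (n + 1)).symm) (by ext; simp) (by ext; simp) (hdf n)

section Length

variable {A}
variable {M N P : Type u} [AddCommGroup M] [AddCommGroup N] [AddCommGroup P] [Module A M] [Module A N] [Module A P]

/-- The length as a natural number. -/
noncomputable def len (A : Type u) [CommRing A] (M : Type u) [AddCommGroup M] [Module A M] : ℕ :=
  (Module.length A M).toNat

theorem len_add (g : N →ₗ[A] P) [IsArtinian A N] [IsNoetherian A N] :
    len A N = len A (LinearMap.ker g) + len A (LinearMap.range g) := by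
  have hk : Module.length A (LinearMap.ker g) ≠ ⊤ := Module.length_ne_top
  haveI : IsArtinian A (LinearMap.range g) := isArtinian_range g
  haveI : IsNoetherian A (LinearMap.range g) := isNoetherian_range g
  have hr : Module.length A (LinearMap.range g) ≠ ⊤ := Module.length_ne_top
  rw [len, Module.length_eq_add_of_exact (LinearMap.ker g).subtype g.rangeRestrict
    (Submodule.injective_subtype _) g.surjective_rangeRestrict
    (fun x => by simp [LinearMap.rangeRestrict, LinearMap.codRestrict_apply, Subtype.ext_iff])]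
  exact ENat.toNat_add hk hr

theorem len_le (g : N →ₗ[A] P) [IsArtinian A N] [IsNoetherian A N] [IsArtinian A P] [IsNoetherian A P] :
    len A (LinearMap.range g) ≤ len A P :=
  ENat.toNat_le_toNat (Module.length_le_of_injective _ (Submodule.injective_subtype _)) Module.length_ne_top

theorem len_mid_le {f : M →ₗ[A] N} {g : N →ₗ[A] P} (h : Function.Exact f g) [IsArtinian A M] [IsNoetherian A M]
    [IsArtinian A N] [IsNoetherian A N] [IsArtinian A P] [IsNoetherian A P] :
    len A N ≤ len A M + len A P := by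
  rw [len_add g, LinearMap.exact_iff.1 h]
  exact Nat.add_le_add (by have := len_add f; omega) (len_le g)

theorem len_le_of_injective {f : M →ₗ[A] N} (h : Function.Injective f) [IsArtinian A N] [IsNoetherian A N] :
    len A M ≤ len A N :=
  ENat.toNat_le_toNat (Module.length_le_of_injective f h) Module.length_ne_top

theorem len_eq_zero [Subsingleton M] : len A M = 0 := by
  rw [len, Module.length_eq_zero]; rfl

theorem len_eq_finrank {k : Type u} [Field k] {V : Type u} [AddCommGroup V] [Module k V] [Module.Finite k V] :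
    len k V = Module.finrank k V := by
  rw [len, Module.length_eq_finrank]; rfl

end Length

end Groth.Agent.H10Inj.HHSeq
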