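import Groth.Agent.H11Ample.Extend
import Groth.Agent.H10Coh.Local
import Groth.Agent.H10Coh.TwistExact
import Groth.Agent.H8Props.FinLocFree.Sheaf
import Groth.Agent.H8Props.FlatLocus.Sections
import Groth.Agent.H11Ample.Twist
import Groth.Agent.H10Coh.AmpleVanishing
import Groth.Agent.H10Coh.TensorBasics
import Mathlib.RingTheory.Flat.EquationalCriterion

/-!
# Flatness from the sections of twists

If the sections over `Z` of all high twists `F ⊗ L^n` are flat over a ring, then so are the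
sections of `F` over `Z ∩ X_s`, `s` a global section of `L`.
-/

set_option autoImplicit false
set_option linter.style.haveILetI false
set_option backward.isDefEq.respectTransparency false

noncomputable section

universe u

open CategoryTheory CategoryTheory.Limits AlgebraicGeometry Opposite TopologicalSpace
open Groth.Agent.H11Tilde Groth.Agent.H11Ample
open scoped TensorProduct

namespace Groth.Agent.H10Inj.FlatTwist

variable {X : Scheme.{u}} (F L : X.Modules)

/-- The iterated twists. -/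
def twN : ℕ → X.Modules
  | 0 => F
  | n + 1 => CohB1.tensorMod (twN n) L

theorem isQCoh_twN (hF : Coh.IsQCoh F) (hL : PicF.IsInvertible L) : ∀ n, Coh.IsQCoh (twN F L n)
  | 0 => hF
  | n + 1 => H11Ample.isQCoh_tensor (isQCoh_twN hF hL n) hL

theorem nonempty_twN_iso : ∀ n, Nonempty (twN F L n ≅ CohB1.tensorMod F (CohB1.tensorPow L n))
  | 0 => ⟨(H10Coh.Tw.leftUnitIso F).symm ≪≫ H10Coh.Tw.commIso _ _⟩
  | n + 1 => by
    obtain ⟨e⟩ := nonempty_twN_iso n
    exact ⟨PicGrp.tensorModIso e (Iso.refl L) ≪≫ H10Coh.Tw.assoc _ _ _⟩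

variable {F L}

/-- `m ↦ m ⊗ e^n`. -/
def ev {U : X.Opens} (e : Γ(L, U)) : ∀ n, Γ(F, U) →+ Γ(twN F L n, U)
  | 0 => AddMonoidHom.id _
  | n + 1 =>
    { toFun := fun m => tm (ev e n m) e
      map_zero' := by rw [map_zero]; exact tm_zero_left _
      map_add' := fun a b => by rw [map_add]; exact tm_add_left _ _ _ }

theorem ev_succ {U : X.Opens} (e : Γ(L, U)) (n : ℕ) (m : Γ(F, U)) : ev e (n + 1) m = tm (ev e n m) e := rfl

theorem ev_smul {U : X.Opens} (e : Γ(L, U)) (r : Γ(X, U)) :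
    ∀ (n : ℕ) (m : Γ(F, U)), ev e n (r • m) = r • ev e n m
  | 0, _ => rfl
  | n + 1, m => by rw [ev_succ, ev_smul e r n]; exact tm_smul_left _ _ _

theorem ev_smul_gen {U : X.Opens} (e : Γ(L, U)) (c : Γ(X, U)) :
    ∀ (n : ℕ) (m : Γ(F, U)), ev (c • e) n m = ev e n (c ^ n • m)
  | 0, m => (one_smul Γ(X, U) m).symm.trans (congrArg (· • m) (pow_zero c).symm)
  | n + 1, m => by
    rw [ev_succ, ev_smul_gen e c n, ev_succ, tm_smul_right, ← tm_smul_left, ← ev_smul, smul_smul, ← pow_succ']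

theorem ev_res {U V : X.Opens} (h : V ≤ U) (e : Γ(L, U)) :
    ∀ (n : ℕ) (m : Γ(F, U)), (twN F L n).presheaf.map (homOfLE h).op (ev e n m) =
      ev (L.presheaf.map (homOfLE h).op e) n (F.presheaf.map (homOfLE h).op m)
  | 0, _ => rfl
  | n + 1, m => (tm_res h _ _).trans (congrArg (tm · _) (ev_res h e n m))

theorem ev_bijective {U : X.Opens} {e : Γ(L, U)} (he : IsGen L e) :
    ∀ n, Function.Bijective (ev (F := F) e n)
  | 0 => Function.bijective_id
  | n + 1 => by
    have h := bijective_tm (F := twN F L n) he (le_refl U)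
    have : L.presheaf.map (homOfLE (le_refl U)).op e = e := H10Coh.mres_self _ _ _
    rw [this] at h
    exact h.comp (ev_bijective he n)

/-- Multiplication by a section of `L`. -/
def mulS {U : X.Opens} (e : Γ(L, U)) (n : ℕ) : ∀ N, Γ(twN F L n, U) →+ Γ(twN F L (n + N), U)
  | 0 => AddMonoidHom.id _
  | N + 1 =>
    { toFun := fun t => tm (mulS e n N t) e
      map_zero' := by rw [map_zero]; exact tm_zero_left _
      map_add' := fun a b => by rw [map_add]; exact tm_add_left _ _ _ }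

theorem mulS_succ {U : X.Opens} (e : Γ(L, U)) (n N : ℕ) (t : Γ(twN F L n, U)) :
    mulS e n (N + 1) t = tm (mulS e n N t) e := rfl

theorem mulS_smul {U : X.Opens} (e : Γ(L, U)) (r : Γ(X, U)) (n : ℕ) :
    ∀ (N : ℕ) (t : Γ(twN F L n, U)), mulS e n N (r • t) = r • mulS e n N t
  | 0, _ => rfl
  | N + 1, t => by rw [mulS_succ, mulS_smul e r n N]; exact tm_smul_left _ _ _

theorem mulS_smul_gen {U : X.Opens} (e : Γ(L, U)) (c : Γ(X, U)) (n : ℕ) :
    ∀ (N : ℕ) (t : Γ(twN F L n, U)), mulS (c • e) n N t = mulS e n N (c ^ N • t)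
  | 0, t => (one_smul Γ(X, U) t).symm.trans (congrArg (· • t) (pow_zero c).symm)
  | N + 1, t => by
    rw [mulS_succ, mulS_smul_gen e c n N, mulS_succ, tm_smul_right, ← tm_smul_left, ← mulS_smul, smul_smul,
      ← pow_succ']

theorem mulS_res {U V : X.Opens} (h : V ≤ U) (e : Γ(L, U)) (n : ℕ) :
    ∀ (N : ℕ) (t : Γ(twN F L n, U)), (twN F L (n + N)).presheaf.map (homOfLE h).op (mulS e n N t) =
      mulS (L.presheaf.map (homOfLE h).op e) n N ((twN F L n).presheaf.map (homOfLE h).op t)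
  | 0, _ => rfl
  | N + 1, t => (tm_res h _ _).trans (congrArg (tm · _) (mulS_res h e n N t))

theorem mulS_ev {U : X.Opens} (e : Γ(L, U)) (n : ℕ) :
    ∀ (N : ℕ) (m : Γ(F, U)), mulS e n N (ev e n m) = ev e (n + N) m
  | 0, _ => rfl
  | N + 1, m => congrArg (tm · e) (mulS_ev e n N m)

variable (F) in
/-- A section vanishing where `s` generates is killed by a power of `s`. -/
theorem exists_mulS_eq_zero [QuasiSeparatedSpace X] (hF : Coh.IsQCoh F) (hL : PicF.IsInvertible L)
    {Z : X.Opens} (hZ : IsCompact (Z : Set X)) (s : Γ(L, ⊤)) (n : ℕ) (t : Γ(twN F L n, Z))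
    (ht : (twN F L n).presheaf.map (homOfLE (inf_le_left : Z ⊓ gen L s ≤ Z)).op t = 0) :
    ∃ N₀ : ℕ, ∀ N, N₀ ≤ N → mulS (L.presheaf.map (homOfLE (le_top : Z ≤ ⊤)).op s) n N t = 0 := by
  classical
  haveI : (twN F L n).IsQuasicoherent := isQCoh_twN F L hF hL n
  have hex : ∀ x : X, ∃ (W : X.Opens) (e : Γ(L, W)), x ∈ W ∧ IsAffineOpen W ∧ IsGen L e := fun x => by
    obtain ⟨W, e, hx, he⟩ := exists_gen hL x
    obtain ⟨U, hU, hxU, hUW⟩ := exists_isAffineOpen_mem_and_subset (U := W) hx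
    exact ⟨U, _, hxU, hU, he.res (show U ≤ W from hUW)⟩
  choose W e hxW hW he using hex
  obtain ⟨T, hT⟩ := hZ.elim_finite_subcover (fun x => (W x : Set X)) (fun x => (W x).isOpen)
    fun x _ => Set.mem_iUnion.2 ⟨x, hxW x⟩
  have hloc : ∀ x : X, ∃ m : ℕ, ∀ N, m ≤ N →
      (twN F L (n + N)).presheaf.map (homOfLE (inf_le_left : Z ⊓ W x ≤ Z)).op
        (mulS (L.presheaf.map (homOfLE (le_top : Z ≤ ⊤)).op s) n N t) = 0 := fun x => by
    let B := Z ⊓ W x
    have hB : IsCompact (B : Set X) :=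
      QuasiSeparatedSpace.inter_isCompact Z.1 (W x).1 Z.2 hZ (W x).2 (hW x).isCompact
    have heB := (he x).res (inf_le_right : B ≤ W x)
    obtain ⟨c, hc⟩ := exists_coeff heB (L.presheaf.map (homOfLE (le_top : B ≤ ⊤)).op s)
    have hD : gen L s ⊓ B = X.basicOpen c := gen_inf_eq_basicOpen heB s c hc
    let z := (twN F L n).presheaf.map (homOfLE (inf_le_left : B ≤ Z)).op t
    have hz : (twN F L n).presheaf.map (homOfLE (X.basicOpen_le c)).op z = 0 := by
      have hle : X.basicOpen c ≤ Z ⊓ gen L s :=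
        hD.ge.trans (le_inf (inf_le_right.trans inf_le_left) inf_le_left)
      have := congrArg ((twN F L n).presheaf.map (homOfLE hle).op) ht
      rw [map_zero, H10Coh.mres_mres] at this
      rwa [H10Coh.mres_mres]
    obtain ⟨m, hm⟩ := H10Coh.exists_pow_smul_eq_zero_of_isCompact (twN F L n) hB c z hz
    refine ⟨m, fun N hN => ?_⟩
    rw [mulS_res, H10Coh.mres_mres, hc, mulS_smul_gen]
    obtain ⟨l, rfl⟩ := Nat.exists_eq_add_of_le hN
    have h0 : c ^ (m + l) • z = 0 := by rw [add_comm m l, pow_add, mul_smul, hm, smul_zero]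
    exact (congrArg _ h0).trans (map_zero _)
  choose m hm using hloc
  refine ⟨T.sup m, fun N hN => eq_of_locally _ _ fun y hy => ?_⟩
  obtain ⟨x, hx, hyx⟩ := Set.mem_iUnion₂.1 (hT hy)
  exact ⟨Z ⊓ W x, inf_le_left, ⟨hy, hyx⟩,
    (hm x N ((Finset.le_sup hx).trans hN)).trans (map_zero _).symm⟩

variable (F) in
/-- Sections where `s` generates extend after multiplication by a power of `s`. -/
theorem exists_ev_extend [QuasiSeparatedSpace X] (hF : Coh.IsQCoh F) (hL : PicF.IsInvertible L)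
    {Z : X.Opens} (hZ : IsCompact (Z : Set X)) (s : Γ(L, ⊤)) (m : Γ(F, Z ⊓ gen L s)) :
    ∃ N₀ : ℕ, ∀ N, N₀ ≤ N → ∃ S : Γ(twN F L N, Z),
      (twN F L N).presheaf.map (homOfLE (inf_le_left : Z ⊓ gen L s ≤ Z)).op S =
        ev (L.presheaf.map (homOfLE (le_top : Z ⊓ gen L s ≤ ⊤)).op s) N m := by
  classical
  haveI : F.IsQuasicoherent := hF
  let G := Z ⊓ gen L s
  let sG := L.presheaf.map (homOfLE (le_top : G ≤ ⊤)).op s
  have hex : ∀ x : X, x ∈ Z → ∃ (W : X.Opens) (e : Γ(L, W)), x ∈ W ∧ W ≤ Z ∧ IsAffineOpen W ∧ IsGen L e :=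
    fun x hxZ => by
      obtain ⟨W, e, hx, he⟩ := exists_gen hL x
      obtain ⟨U, hU, hxU, hUW⟩ := exists_isAffineOpen_mem_and_subset (U := W ⊓ Z) ⟨hx, hxZ⟩
      exact ⟨U, _, hxU, fun y hy => (hUW hy).2, hU, he.res (show U ≤ W from fun y hy => (hUW hy).1)⟩
  choose W e hxW hWZ hW he using hex
  obtain ⟨T, hT⟩ := hZ.elim_finite_subcover (fun x : Z => (W x.1 x.2 : Set X)) (fun x => (W x.1 x.2).isOpen)
    fun x hx => Set.mem_iUnion.2 ⟨⟨x, hx⟩, hxW x hx⟩
  choose c hc using fun x : Z =>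
    exists_coeff (he x.1 x.2) (L.presheaf.map (homOfLE (le_top : W x.1 x.2 ≤ ⊤)).op s)
  have hD : ∀ x : Z, gen L s ⊓ W x.1 x.2 = X.basicOpen (c x) := fun x =>
    gen_inf_eq_basicOpen (he x.1 x.2) s (c x) (hc x)
  have hDG : ∀ x : Z, X.basicOpen (c x) ≤ G := fun x =>
    (hD x).ge.trans (le_inf (inf_le_right.trans (hWZ _ _)) inf_le_left)
  choose p u hu using fun x : Z =>
    H10Coh.exists_pow_smul_eq_res F (hW x.1 x.2) (c x) (F.presheaf.map (homOfLE (hDG x)).op m)
  let P := T.sup p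
  -- the local candidates
  let w : ∀ x : Z, Γ(twN F L P, W x.1 x.2) := fun x => ev (e x.1 x.2) P (c x ^ (P - p x) • u x)
  have hw : ∀ x ∈ T, (twN F L P).presheaf.map (homOfLE (X.basicOpen_le (c x))).op (w x) =
      (twN F L P).presheaf.map (homOfLE (hDG x)).op (ev sG P m) := fun x hx => by
    have h1 : L.presheaf.map (homOfLE (hDG x)).op sG =
        X.presheaf.map (homOfLE (X.basicOpen_le (c x))).op (c x) •
          L.presheaf.map (homOfLE (X.basicOpen_le (c x))).op (e x.1 x.2) := by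
      rw [← Scheme.Modules.map_smul, ← hc x, H10Coh.mres_mres, H10Coh.mres_mres]
    rw [ev_res, ev_res, h1, ev_smul_gen, Scheme.Modules.map_smul, hu x, smul_smul, map_pow, map_pow,
      ← pow_add, Nat.sub_add_cancel (Finset.le_sup hx)]
  have hdiff : ∀ xy : Z × Z, ∃ d : ℕ, xy.1 ∈ T → xy.2 ∈ T → ∀ N, d ≤ N →
      (twN F L (P + N)).presheaf.map (homOfLE (inf_le_left : W xy.1.1 xy.1.2 ⊓ W xy.2.1 xy.2.2 ≤ _)).op
          (mulS (L.presheaf.map (homOfLE le_top).op s) P N (w xy.1)) =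
        (twN F L (P + N)).presheaf.map (homOfLE (inf_le_right : W xy.1.1 xy.1.2 ⊓ W xy.2.1 xy.2.2 ≤ _)).op
          (mulS (L.presheaf.map (homOfLE le_top).op s) P N (w xy.2)) := by
    rintro ⟨x, y⟩
    by_cases hxy : x ∈ T ∧ y ∈ T
    · let B := W x.1 x.2 ⊓ W y.1 y.2
      have hB : IsCompact (B : Set X) := QuasiSeparatedSpace.inter_isCompact _ _ (W x.1 x.2).2
        (hW x.1 x.2).isCompact (W y.1 y.2).2 (hW y.1 y.2).isCompact
      let z := (twN F L P).presheaf.map (homOfLE (inf_le_left : B ≤ W x.1 x.2)).op (w x) -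
        (twN F L P).presheaf.map (homOfLE (inf_le_right : B ≤ W y.1 y.2)).op (w y)
      have hz : (twN F L P).presheaf.map (homOfLE (inf_le_left : B ⊓ gen L s ≤ B)).op z = 0 := by
        have hx' : B ⊓ gen L s ≤ X.basicOpen (c x) :=
          le_trans (le_inf inf_le_right (inf_le_left.trans inf_le_left)) (hD x).le
        have hy' : B ⊓ gen L s ≤ X.basicOpen (c y) :=
          le_trans (le_inf inf_le_right (inf_le_left.trans inf_le_right)) (hD y).le
        have h1 := congrArg ((twN F L P).presheaf.map (homOfLE hx').op) (hw x hxy.1)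
        have h2 := congrArg ((twN F L P).presheaf.map (homOfLE hy').op) (hw y hxy.2)
        rw [H10Coh.mres_mres, H10Coh.mres_mres] at h1 h2
        rw [map_sub, sub_eq_zero, H10Coh.mres_mres, H10Coh.mres_mres, h1, h2]
      obtain ⟨d, hd⟩ := exists_mulS_eq_zero F hF hL hB s P z hz
      refine ⟨d, fun _ _ N hN => ?_⟩
      have := hd N hN
      rw [map_sub, sub_eq_zero] at this
      rw [mulS_res, mulS_res, H10Coh.mres_mres, H10Coh.mres_mres]
      exact this
    · exact ⟨0, fun hx hy => absurd ⟨hx, hy⟩ hxy⟩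
  choose d hd using hdiff
  refine ⟨P + (T ×ˢ T).sup d, fun N hN => ?_⟩
  obtain ⟨l, rfl⟩ := Nat.exists_eq_add_of_le (le_trans le_self_add hN)
  have hl : (T ×ˢ T).sup d ≤ l := by omega
  let FR := twN F L (P + l)
  obtain ⟨S, hS, -⟩ := TopCat.Sheaf.existsUnique_gluing' ⟨FR.presheaf, FR.isSheaf⟩
    (fun x : T => W x.1.1 x.1.2) Z (fun x => homOfLE (hWZ _ _))
    (fun y hy => by
      obtain ⟨x, hx, hyx⟩ := Set.mem_iUnion₂.1 (hT hy)
      exact Opens.mem_iSup.2 ⟨⟨x, hx⟩, hyx⟩)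
    (fun x : T => mulS (L.presheaf.map (homOfLE le_top).op s) P l (w x.1))
    (fun x y => hd (x.1, y.1) x.2 y.2 l ((Finset.le_sup (Finset.mk_mem_product x.2 y.2)).trans hl))
  refine ⟨S, eq_of_locally _ _ fun y hy => ?_⟩
  obtain ⟨x, hx, hyx⟩ := Set.mem_iUnion₂.1 (hT hy.1)
  have hyD : y ∈ X.basicOpen (c x) := (hD x).le ⟨hy.2, hyx⟩
  refine ⟨X.basicOpen (c x), hDG x, hyD, ?_⟩
  have h := congrArg (FR.presheaf.map (homOfLE (X.basicOpen_le (c x))).op) (hS ⟨x, hx⟩)
  change FR.presheaf.map _ (FR.presheaf.map (homOfLE (hWZ x.1 x.2)).op S) = _ at h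
  rw [H10Coh.mres_mres, mulS_res, hw x hx] at h
  rw [H10Coh.mres_mres, h, ← mulS_ev, mulS_res, H10Coh.mres_mres, H10Coh.mres_mres]

variable (F) in
/-- Flatness of the sections of high twists gives flatness where `s` generates. -/
theorem flat_sections_gen [QuasiSeparatedSpace X] (hF : Coh.IsQCoh F) (hL : PicF.IsInvertible L)
    {Z : X.Opens} (hZ : IsCompact (Z : Set X)) (s : Γ(L, ⊤)) {A : Type u} [CommRing A] (φ : A →+* Γ(X, Z))
    (n₀ : ℕ) (hflat : ∀ n, n₀ ≤ n →
      letI := Module.compHom Γ(twN F L n, Z) φ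
      Module.Flat A Γ(twN F L n, Z)) :
    letI := Module.compHom Γ(F, Z ⊓ gen L s)
      ((X.presheaf.map (homOfLE (inf_le_left : Z ⊓ gen L s ≤ Z)).op).hom.comp φ)
    Module.Flat A Γ(F, Z ⊓ gen L s) := by
  classical
  let G := Z ⊓ gen L s
  let ρ : Γ(X, Z) →+* Γ(X, G) := (X.presheaf.map (homOfLE (inf_le_left : G ≤ Z)).op).hom
  letI := Module.compHom Γ(F, G) (ρ.comp φ)
  rw [Module.Flat.iff_forall_isTrivialRelation]
  intro l a x hx
  let sG := L.presheaf.map (homOfLE (le_top : G ≤ ⊤)).op s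
  let sZ := L.presheaf.map (homOfLE (le_top : Z ≤ ⊤)).op s
  have hsG : IsGen L sG := by
    have h := (isGen_gen (L := L) s).res (inf_le_right : G ≤ gen L s)
    rwa [H10Coh.mres_mres] at h
  choose N hN using fun i => exists_ev_extend F hF hL hZ s (x i)
  let P := max n₀ (Finset.univ.sup N)
  choose S hS using fun i => hN i P ((Finset.le_sup (Finset.mem_univ i)).trans (le_max_right _ _))
  let z := ∑ i, φ (a i) • S i
  have hz : (twN F L P).presheaf.map (homOfLE (inf_le_left : G ≤ Z)).op z = 0 := by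
    rw [map_sum]
    refine (Finset.sum_congr rfl fun i _ => ?_).trans ((map_sum (ev (F := F) sG P) _ _).symm.trans
      ((congrArg (ev (F := F) sG P) (show ∑ i, ρ (φ (a i)) • x i = 0 from hx)).trans (map_zero _)))
    rw [Scheme.Modules.map_smul, hS i, ev_smul]
  obtain ⟨d, hd⟩ := exists_mulS_eq_zero F hF hL hZ s P z hz
  let Q := P + d
  letI := Module.compHom Γ(twN F L Q, Z) φ
  haveI : Module.Flat A Γ(twN F L Q, Z) := hflat Q (le_trans (le_max_left _ _) le_self_add)
  have hrel : ∑ i, a i • mulS sZ P d (S i) = 0 := by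
    refine Eq.trans ?_ (hd d le_rfl)
    rw [map_sum]
    refine Finset.sum_congr rfl fun i _ => ?_
    exact (mulS_smul sZ (φ (a i)) P d (S i)).symm
  obtain ⟨k, b, y, hy, hb⟩ := Module.Flat.isTrivialRelation_of_sum_smul_eq_zero hrel
  choose y' hy' using fun j => (ev_bijective (F := F) hsG Q).2
    ((twN F L Q).presheaf.map (homOfLE (inf_le_left : G ≤ Z)).op (y j))
  refine ⟨k, b, y', fun i => (ev_bijective (F := F) hsG Q).1 ?_, hb⟩
  have h := congrArg ((twN F L Q).presheaf.map (homOfLE (inf_le_left : G ≤ Z)).op) (hy i)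
  rw [mulS_res, H10Coh.mres_mres, hS i, mulS_ev, map_sum] at h
  rw [h, map_sum]
  refine Finset.sum_congr rfl fun j _ => ?_
  show (twN F L Q).presheaf.map _ (φ (b i j) • y j) = ev sG Q (ρ (φ (b i j)) • y' j)
  rw [Scheme.Modules.map_smul, ev_smul, hy' j]

/-- Twisting by an invertible module preserves flatness over a base. -/
theorem isFlatOver_tensor {S : Scheme.{u}} (f : X ⟶ S) (hF : FlatMod.IsFlatOver f F) (hL : PicF.IsInvertible L) :
    FlatMod.IsFlatOver f (CohB1.tensorMod F L) := fun x => by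
  obtain ⟨V, e, hx, he⟩ := exists_gen hL x
  let O := X.presheaf.stalk x
  let eL : O ≃ₗ[O] L.presheaf.stalk x := LinearEquiv.ofBijective (LinearMap.toSpanSingleton O _ _) (he x hx)
  let η : F.presheaf.stalk x ≃ₗ[O] (CohB1.tensorMod F L).presheaf.stalk x :=
    (TensorProduct.rid O (F.presheaf.stalk x)).symm ≪≫ₗ TensorProduct.congr (LinearEquiv.refl O _) eL ≪≫ₗ
      H16Derived.KFlat.Stalk.stalkEquiv F L x
  letI := FlatMod.moduleStalkOver f F x
  letI := FlatMod.moduleStalkOver f (CohB1.tensorMod F L) x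
  haveI : Module.Flat (S.presheaf.stalk (f.base x)) (F.presheaf.stalk x) := hF x
  let η' : F.presheaf.stalk x ≃ₗ[S.presheaf.stalk (f.base x)] (CohB1.tensorMod F L).presheaf.stalk x :=
    { η with map_smul' := fun r a => η.map_smul _ _ }
  exact Module.Flat.of_linearEquiv η'.symm

end Groth.Agent.H10Inj.FlatTwist
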