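import Groth.Agent.H10Inj.Noetherian

/-!
# Coproducts of injective modules on locally Noetherian schemes
-/

set_option autoImplicit false
set_option backward.isDefEq.respectTransparency false
set_option linter.style.haveILetI false

universe u

open CategoryTheory CategoryTheory.Limits AlgebraicGeometry TopologicalSpace Opposite

namespace Groth.Agent.H10Inj

open Groth.Agent.H06Mod Groth.Agent.H16Derived.QCohD Groth.Agent.H16Derived.KFlat.Stalk

variable {X : Scheme.{u}}

/-- The morphism out of the structure module with a given global section as image of `1`. -/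
noncomputable def homOfTop (M : X.Modules) (s : Γ(M, ⊤)) : Coh.structureModule X ⟶ M :=
  (SheafOfModules.unitHomEquiv M).symm
    (PresheafOfModules.sectionsMk (fun V => M.presheaf.map (homOfLE (le_top : V.unop ≤ ⊤)).op s)
      (fun _ _ f => by
        show (M.presheaf.map _ ≫ M.presheaf.map f) s = _
        rw [← Functor.map_comp]
        rfl))

theorem homOfTop_app (M : X.Modules) (s : Γ(M, ⊤)) :
    (homOfTop M s).app ⊤ (1 : Γ(X, ⊤)) = s := by
  refine (show _ = (SheafOfModules.unitHomEquiv M (homOfTop M s)).val (op ⊤) from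
    (SheafOfModules.unitHomEquiv_apply_coe M (homOfTop M s) (op ⊤)).symm).trans ?_
  rw [homOfTop, Equiv.apply_symm_apply]
  show (M.presheaf.map (𝟙 _)) s = s
  rw [CategoryTheory.Functor.map_id]
  rfl

theorem homOfTop_comp {M N : X.Modules} (φ : M ⟶ N) (s : Γ(M, ⊤)) :
    homOfTop M s ≫ φ = homOfTop N (φ.app ⊤ s) := by
  refine Scheme.Modules.hom_ext _ _ fun W => AddCommGrpCat.hom_ext (AddMonoidHom.ext fun r => ?_)
  refine (app_unit (homOfTop M s ≫ φ) W r).trans (Eq.trans ?_ (app_unit (homOfTop N (φ.app ⊤ s)) W r).symm)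
  rw [homOfTop_app]
  congr 2
  exact congrArg (φ.app ⊤) (homOfTop_app M s)

theorem homOfTop_zero (M : X.Modules) : homOfTop M 0 = 0 := by
  refine Scheme.Modules.hom_ext _ _ fun W => AddCommGrpCat.hom_ext (AddMonoidHom.ext fun r => ?_)
  refine (app_unit (homOfTop M 0) W r).trans ?_
  rw [homOfTop_app, map_zero, smul_zero]
  rfl

/-- Noetherian objects detect isomorphisms of modules on a locally Noetherian scheme. -/
theorem isDetecting_noetherian [IsLocallyNoetherian X] :
    (isNoetherianObject (C := X.Modules)).IsDetecting := by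
  intro A B p hp
  refine isIso_of_stalk p fun x => ?_
  have hex : ∀ (M : X.Modules) (t : M.presheaf.stalk x), ∃ (W : X.Opens) (_ : IsAffineOpen W)
      (hx : x ∈ W.ι ''ᵁ ⊤) (s : Γ(M, W.ι ''ᵁ ⊤)), M.presheaf.germ _ x hx s = t := by
    intro M t
    obtain ⟨V, hxV, s, rfl⟩ := M.presheaf.exists_germ_eq t
    obtain ⟨W, hW, hxW, hWV⟩ := exists_isAffineOpen_mem_and_subset (x := x) (U := V) hxV
    have hle : W.ι ''ᵁ ⊤ ≤ V := W.ι_image_top.le.trans hWV
    exact ⟨W, hW, W.ι_image_top.ge hxW, M.presheaf.map (homOfLE hle).op s,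
      TopCat.Presheaf.germ_res_apply M.presheaf (homOfLE hle) x _ s⟩
  have hnoeth : ∀ W : X.Opens, IsAffineOpen W →
      isNoetherianObject (CxOX.extZeroUnit W.ι) := fun W hW => by
    haveI : IsAffine (W : Scheme.{u}) := hW
    haveI : IsLocallyNoetherian (W : Scheme.{u}) := isLocallyNoetherian_of_isOpenImmersion W.ι
    haveI := isNoetherianObject_extZeroUnit W.ι
    exact isNoetherianObject.prop_of_is _
  let S := DerSch.stalkFunctor X x
  have : Epi (S.map p) := by
    rw [ModuleCat.epi_iff_surjective]
    intro t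
    obtain ⟨W, hW, hx, s, rfl⟩ := hex B t
    let r := Scheme.Modules.restrictFunctor W.ι
    let adj := CxOX.extZeroAdj W.ι
    obtain ⟨a, ha, -⟩ := hp _ (hnoeth W hW) ((adj.homEquiv _ _).symm (homOfTop (r.obj B) s))
    let u : Γ(A, W.ι ''ᵁ ⊤) := (adj.homEquiv _ _ a).app (⊤ : (W : Scheme.{u}).Opens) (1 : Γ(W, ⊤))
    have hu : p.app (W.ι ''ᵁ ⊤) u = s := by
      have h1 : adj.homEquiv _ _ a ≫ r.map p = homOfTop (r.obj B) s := by
        rw [← Adjunction.homEquiv_naturality_right, ha, Equiv.apply_symm_apply]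
      exact (congr($(congrArg (fun φ => Scheme.Modules.Hom.app φ (⊤ : (W : Scheme.{u}).Opens)) h1) (1 : Γ(W, ⊤)))).trans
        (homOfTop_app (r.obj B) s)
    exact ⟨A.presheaf.germ _ x hx u, (stalkLin_germ p x _ hx u).trans (congrArg _ hu)⟩
  have : Mono (S.map p) := by
    rw [ModuleCat.mono_iff_injective, injective_iff_map_eq_zero]
    intro (t : A.presheaf.stalk x) ht
    obtain ⟨V, hxV, s₀, hs₀⟩ := A.presheaf.exists_germ_eq t
    have h0 : B.presheaf.germ V x hxV (p.app V s₀) = B.presheaf.germ V x hxV 0 := by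
      rw [map_zero]
      exact (stalkLin_germ p x V hxV s₀).symm.trans ((congrArg (stalkLin p x) hs₀).trans ht)
    obtain ⟨V', hxV', i, i', hV'⟩ := TopCat.Presheaf.germ_eq B.presheaf x hxV hxV _ _ h0
    obtain ⟨W, hW, hxW, hWV⟩ := exists_isAffineOpen_mem_and_subset (x := x) (U := V') hxV'
    have hle : W.ι ''ᵁ ⊤ ≤ V := W.ι_image_top.le.trans (hWV.trans i.le)
    let s : Γ(A, W.ι ''ᵁ ⊤) := A.presheaf.map (homOfLE hle).op s₀
    have hps : p.app (W.ι ''ᵁ ⊤) s = 0 := by
      have hle' : W.ι ''ᵁ ⊤ ≤ V' := W.ι_image_top.le.trans hWV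
      have hnat := congr($(p.mapPresheaf.naturality (homOfLE hle).op) s₀)
      refine hnat.trans ?_
      show B.presheaf.map (homOfLE hle).op (p.app V s₀) = 0
      rw [show (homOfLE hle).op = i.op ≫ (homOfLE hle').op from rfl, Functor.map_comp]
      show B.presheaf.map (homOfLE hle').op (B.presheaf.map i.op (p.app V s₀)) = 0
      rw [hV', map_zero, map_zero]
    let r := Scheme.Modules.restrictFunctor W.ι
    let adj := CxOX.extZeroAdj W.ι
    let h := (adj.homEquiv _ _).symm (homOfTop (r.obj A) s)
    obtain ⟨z, -, huniq⟩ := hp _ (hnoeth W hW) 0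
    have hh : h ≫ p = 0 := by
      rw [← Adjunction.homEquiv_naturality_right_symm, homOfTop_comp,
        show (r.map p).app ⊤ s = 0 from hps, homOfTop_zero]
      exact (Adjunction.homEquiv_counit _ _ _ _).trans (by rw [Functor.map_zero, zero_comp])
    have h2 : h = 0 := (huniq h hh).trans (huniq 0 zero_comp).symm
    have h3 : homOfTop (r.obj A) s = 0 := by
      apply (adj.homEquiv _ _).symm.injective
      refine h2.trans ?_
      exact ((Adjunction.homEquiv_counit _ _ _ _).trans (by rw [Functor.map_zero, zero_comp])).symm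
    have h4 : s = 0 := (homOfTop_app (r.obj A) s).symm.trans
      (congr($(congrArg (fun φ => Scheme.Modules.Hom.app φ (⊤ : (W : Scheme.{u}).Opens)) h3) (1 : Γ(W, ⊤))))
    have hxtop : x ∈ W.ι ''ᵁ ⊤ := W.ι_image_top.ge hxW
    rw [← hs₀, ← TopCat.Presheaf.germ_res_apply A.presheaf (homOfLE hle) x hxtop s₀,
      show A.presheaf.map (homOfLE hle).op s₀ = 0 from h4]
    exact map_zero (A.presheaf.germ (W.ι ''ᵁ ⊤) x hxtop).hom
  exact isIso_of_mono_of_epi _

section Coproduct

variable {ι : Type u} (I : ι → X.Modules)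

open scoped Classical in
/-- The projection of the coproduct to the finite partial sum. -/
noncomputable def partialProj (K : Finset ι) : ∐ I ⟶ ∐ I :=
  Sigma.desc fun i => if i ∈ K then Sigma.ι I i else 0

open scoped Classical in
/-- The projection of the coproduct to one summand. -/
noncomputable def sigmaProj (i : ι) : ∐ I ⟶ I i :=
  Sigma.desc fun j => if h : j = i then eqToHom (congrArg I h) else 0

theorem partialProj_eq_sum (K : Finset ι) : partialProj I K = ∑ i ∈ K, sigmaProj I i ≫ Sigma.ι I i := by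
  classical
  refine Sigma.hom_ext _ _ fun j => ?_
  rw [partialProj, Sigma.ι_desc, Preadditive.comp_sum]
  simp only [sigmaProj, Sigma.ι_desc_assoc]
  by_cases hj : j ∈ K
  · rw [if_pos hj, Finset.sum_eq_single j]
    · simp
    · intro b _ hb
      simp [dif_neg (Ne.symm hb)]
    · exact fun h => absurd hj h
  · rw [if_neg hj, Finset.sum_eq_zero]
    intro b hb
    have : j ≠ b := fun h => hj (h ▸ hb)
    simp [dif_neg this]

theorem ι_partialProj (K : Finset ι) {i : ι} (hi : i ∈ K) : Sigma.ι I i ≫ partialProj I K = Sigma.ι I i := by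
  classical
  rw [partialProj, Sigma.ι_desc, if_pos hi]

theorem partialProj_comp {K L : Finset ι} (h : K ⊆ L) : partialProj I K ≫ partialProj I L = partialProj I K := by
  classical
  refine Sigma.hom_ext _ _ fun j => ?_
  rw [← Category.assoc, partialProj, Sigma.ι_desc]
  by_cases hj : j ∈ K
  · rw [if_pos hj, ι_partialProj I L (h hj)]
  · rw [if_neg hj, zero_comp]

theorem stalk_fixed_mono (x : X) {K L : Finset ι} (h : K ⊆ L) {v : (∐ I).presheaf.stalk x}
    (hv : (DerSch.stalkFunctor X x).map (partialProj I K) v = v) :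
    (DerSch.stalkFunctor X x).map (partialProj I L) v = v := by
  have := congr($(congrArg (DerSch.stalkFunctor X x).map (partialProj_comp I h)) v)
  rw [Functor.map_comp, ModuleCat.comp_apply, hv] at this
  exact this

/-- Every germ of a coproduct lives in a finite partial sum. -/
theorem exists_stalk_fixed (x : X) (v : (∐ I).presheaf.stalk x) :
    ∃ K : Finset ι, (DerSch.stalkFunctor X x).map (partialProj I K) v = v := by
  classical
  let S := DerSch.stalkFunctor X x
  let P : Submodule (X.presheaf.stalk x) (S.obj (∐ I)) :=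
    { carrier := {v | ∃ K : Finset ι, S.map (partialProj I K) v = v}
      zero_mem' := ⟨∅, map_zero _⟩
      add_mem' := by
        rintro a b ⟨K, hK⟩ ⟨L, hL⟩
        refine ⟨K ∪ L, ?_⟩
        rw [map_add, stalk_fixed_mono I x Finset.subset_union_left hK,
          stalk_fixed_mono I x Finset.subset_union_right hL]
      smul_mem' := by
        rintro r a ⟨K, hK⟩
        exact ⟨K, (map_smul (S.map (partialProj I K)).hom r a).trans (congrArg (r • ·) hK)⟩ }
  suffices h : ModuleCat.ofHom P.mkQ = 0 by
    exact (Submodule.Quotient.mk_eq_zero P).1 (congr($h v))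
  refine (isColimitOfPreserves S (colimit.isColimit (Discrete.functor I))).hom_ext fun ⟨i⟩ => ?_
  ext a
  show P.mkQ (S.map (Sigma.ι I i) a) = 0
  refine (Submodule.Quotient.mk_eq_zero P).2 ⟨{i}, ?_⟩
  rw [← ModuleCat.comp_apply, ← Functor.map_comp, ι_partialProj I {i} (Finset.mem_singleton_self i)]

/-- A map from a Noetherian object into a coproduct lands in a finite partial sum. -/
theorem exists_partialProj {S : X.Modules} [IsNoetherianObject S] (g : S ⟶ ∐ I) :
    ∃ K : Finset ι, g ≫ partialProj I K = g := by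
  classical
  let k : Finset ι → Subobject S := fun K => kernelSubobject (g ≫ (𝟙 (∐ I) - partialProj I K))
  have hmono : ∀ K L : Finset ι, K ⊆ L → k K ≤ k L := fun K L h => by
    refine le_kernelSubobject _ _ ?_
    have e : (𝟙 (∐ I) - partialProj I K) ≫ (𝟙 (∐ I) - partialProj I L) = 𝟙 (∐ I) - partialProj I L := by
      simp only [Preadditive.sub_comp, Preadditive.comp_sub, Category.id_comp, Category.comp_id,
        partialProj_comp I h]
      abel
    rw [← e, ← Category.assoc g, ← Category.assoc, kernelSubobject_arrow_comp, zero_comp]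
  obtain ⟨_, ⟨K, rfl⟩, hK⟩ := (wellFounded_gt (α := Subobject S)).has_min (Set.range k) ⟨_, ∅, rfl⟩
  have hmax : ∀ L, k L ≤ k K := fun L => by
    have h1 := hmono K (K ∪ L) Finset.subset_union_left
    rw [eq_of_le_of_not_lt h1 (hK _ ⟨_, rfl⟩)]
    exact hmono L _ Finset.subset_union_right
  refine ⟨K, ?_⟩
  suffices IsIso (k K).arrow by
    have h := kernelSubobject_arrow_comp (g ≫ (𝟙 (∐ I) - partialProj I K))
    rw [← cancel_epi (k K).arrow]
    rw [Preadditive.comp_sub, Category.comp_id, Preadditive.comp_sub, sub_eq_zero] at h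
    exact h.symm
  refine isIso_of_stalk _ fun x => ?_
  let Sx := DerSch.stalkFunctor X x
  haveI : Mono (Sx.map (k K).arrow) := inferInstance
  haveI : Epi (Sx.map (k K).arrow) := by
    rw [ModuleCat.epi_iff_surjective]
    intro t
    obtain ⟨L, hL⟩ := exists_stalk_fixed I x (Sx.map g t)
    let f := g ≫ (𝟙 (∐ I) - partialProj I L)
    have hft : Sx.map f t = 0 := by
      simp only [f, Preadditive.comp_sub, Category.comp_id, Functor.map_sub, Functor.map_comp]
      show Sx.map g t - Sx.map (partialProj I L) (Sx.map g t) = 0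
      rw [sub_eq_zero]; exact hL.symm
    have hex : (ShortComplex.mk (k L).arrow f (kernelSubobject_arrow_comp f)).Exact := by
      refine ShortComplex.exact_of_f_is_kernel _ ?_
      exact IsKernel.isoKernel _ _ (kernelIsKernel f) (kernelSubobjectIso f) (by simp [k, f])
    obtain ⟨t', ht'⟩ := (ShortComplex.moduleCat_exact_iff _).1 (hex.map Sx) t hft
    refine ⟨Sx.map (Subobject.ofLE _ _ (hmax L)) t', ?_⟩
    rw [← ModuleCat.comp_apply, ← Functor.map_comp, Subobject.ofLE_arrow]
    exact ht'
  exact isIso_of_mono_of_epi _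

/-- On a locally Noetherian scheme coproducts of injective modules are injective. -/
theorem injective_sigma [IsLocallyNoetherian X] (hI : ∀ i, Injective (I i)) : Injective (∐ I) := by
  refine injective_of_detecting.{u} isDetecting_noetherian (∐ I) fun S Z i _ hZ g => ?_
  haveI : IsNoetherianObject Z := ObjectProperty.is_of_prop _ hZ
  haveI := isNoetherianObject_of_mono i
  obtain ⟨K, hK⟩ := exists_partialProj I g
  refine ⟨∑ j ∈ K, Injective.factorThru (g ≫ sigmaProj I j) i ≫ Sigma.ι I j, ?_⟩
  conv_rhs => rw [← hK, partialProj_eq_sum, Preadditive.comp_sum]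
  rw [Preadditive.comp_sum]
  refine Finset.sum_congr rfl fun j _ => ?_
  rw [← Category.assoc, Injective.comp_factorThru, Category.assoc]

end Coproduct

end Groth.Agent.H10Inj
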