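import Groth.Agent.H10Inj.Indecomposable

/-!
# Decomposition of injective modules on locally Noetherian schemes
-/

set_option autoImplicit false
set_option backward.isDefEq.respectTransparency false
set_option linter.style.haveILetI false

universe u

open CategoryTheory CategoryTheory.Limits AlgebraicGeometry TopologicalSpace Opposite InjHull

namespace Groth.Agent.H10Inj

open Groth.Agent.H06Mod Groth.Agent.H16Derived.KFlat.Stalk

variable {X : Scheme.{u}}

/-- A map into a skyscraper vanishes if it vanishes at the point. -/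
theorem eq_zero_of_stalk {x : X} {N : Type u} [AddCommGroup N] [Module (X.presheaf.stalk x) N] {F : X.Modules}
    (φ : F ⟶ sky x N) (h : ∀ v, stalkOfHom φ v = 0) : φ = 0 :=
  Scheme.Modules.hom_ext _ _ fun U => AddCommGrpCat.hom_ext (AddMonoidHom.ext fun a =>
    skyEval_ext (x := x) (N := N) (g' := 0) fun hx =>
      ((stalkOfHom_germ φ U hx a).symm.trans (h _)).trans (map_zero _).symm)

/-- A nontrivial skyscraper is not zero. -/
theorem not_isZero_sky (x : X) (E : Type u) [AddCommGroup E] [Module (X.presheaf.stalk x) E] [Nontrivial E] :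
    ¬ IsZero (sky x E) := fun hZ => by
  obtain ⟨v, hv⟩ := exists_ne (0 : E)
  have h := congr($(congrArg (fun φ => Scheme.Modules.Hom.app φ (⊤ : X.Opens)) (hZ.eq_of_src (𝟙 _) 0))
    ((fun _ => v) : Γ(sky x E, ⊤)))
  exact hv (congrArg (skyEval x E ⊤ trivial) h)

/-- A skyscraper of an indecomposable module is indecomposable. -/
theorem isZero_or_isZero_sky (x : X) (E : Type u) [AddCommGroup E] [Module (X.presheaf.stalk x) E]
    (hE : IsIndecomposable (X.presheaf.stalk x) E) (A B : X.Modules) (e : sky x E ≅ A ⊞ B) :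
    IsZero A ∨ IsZero B := by
  let S := DerSch.stalkFunctor X x
  let a : A ⟶ sky x E := biprod.inl ≫ e.inv
  let b : B ⟶ sky x E := biprod.inr ≫ e.inv
  let π : sky x E ⟶ sky x E := e.hom ≫ biprod.fst ≫ a
  have hπ : π ≫ π = π := by simp [π, a]
  -- the endomorphism of `E` induced by the projection
  let endo : (sky x E ⟶ sky x E) → (E →ₗ[X.presheaf.stalk x] E) := fun f =>
    { toFun := fun v => stalkOfHom f ((sky x E).presheaf.germ ⊤ x trivial ((fun _ => v) : Γ(sky x E, ⊤)))
      map_add' := fun v w => by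
        rw [show ((fun _ => v + w) : Γ(sky x E, ⊤)) = ((fun _ => v) : Γ(sky x E, ⊤)) + (fun _ => w) from rfl,
          map_add, map_add]
      map_smul' := fun r v => by
        obtain ⟨O, hxO, r, rfl⟩ := X.presheaf.exists_germ_eq r
        rw [RingHom.id_apply, ← TopCat.Presheaf.germ_res_apply (sky x E).presheaf (homOfLE le_top) x hxO,
          ← TopCat.Presheaf.germ_res_apply (sky x E).presheaf (homOfLE (le_top : O ≤ ⊤)) x hxO
            ((fun _ => v) : Γ(sky x E, ⊤)), ← stalkOfHom_smul, ← germ_smul']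
        refine congrArg (fun w => stalkOfHom f ((sky x E).presheaf.germ O x hxO w)) ?_
        exact skyEval_ext (x := x) (N := E) fun hx => rfl }
  have hendo : ∀ (f : sky x E ⟶ sky x E) (U : X.Opens) (hx : x ∈ U) (w : Γ(sky x E, U)),
      skyEval x E U hx (f.app U w) = endo f (skyEval x E U hx w) := fun f U hx w => by
    rw [← stalkOfHom_germ f U hx w]
    show _ = stalkOfHom f ((sky x E).presheaf.germ ⊤ x trivial ((fun _ => skyEval x E U hx w) : Γ(sky x E, ⊤)))
    rw [← TopCat.Presheaf.germ_res_apply (sky x E).presheaf (homOfLE (le_top : U ≤ ⊤)) x hx]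
    exact congrArg (fun w' => stalkOfHom f ((sky x E).presheaf.germ U x hx w'))
      (skyEval_ext (x := x) (N := E) fun _ => rfl)
  let P := endo π
  have hP : ∀ v, P (P v) = P v := fun v => by
    have h1 := hendo π ⊤ trivial ((fun _ => v) : Γ(sky x E, ⊤))
    have h2 := hendo π ⊤ trivial (π.app ⊤ ((fun _ => v) : Γ(sky x E, ⊤)))
    rw [h1] at h2
    refine h2.symm.trans ((congrArg (skyEval x E ⊤ trivial)
      (congr($(congrArg (fun φ => Scheme.Modules.Hom.app φ (⊤ : X.Opens)) hπ) ((fun _ => v) : Γ(sky x E, ⊤))))).trans h1)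
  have hc : IsCompl (LinearMap.range P) (LinearMap.ker P) :=
    LinearMap.IsProj.isCompl ⟨fun v => LinearMap.mem_range_self _ v, fun v ⟨w, hw⟩ => hw ▸ hP w⟩
  rcases hE.2 _ _ hc with h | h
  · left
    have h0 : π = 0 := eq_zero_of_stalk π fun v => by
      obtain ⟨U, hx, w, rfl⟩ := (sky x E).presheaf.exists_germ_eq v
      rw [stalkOfHom_germ, hendo]
      exact LinearMap.congr_fun (LinearMap.range_eq_bot.1 h) _
    refine (IsZero.iff_id_eq_zero A).2 ?_
    have := congrArg (fun φ => a ≫ φ ≫ e.hom ≫ biprod.fst) h0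
    simpa [π, a] using this
  · right
    have h0 : π = 𝟙 (sky x E) := Scheme.Modules.hom_ext _ _ fun U => AddCommGrpCat.hom_ext
      (AddMonoidHom.ext fun w => skyEval_ext (x := x) (N := E) fun hx => by
        rw [show skyEval x E U hx (π.app U w) = P (skyEval x E U hx w) from hendo π U hx w]
        show P _ = skyEval x E U hx w
        have hinj := LinearMap.ker_eq_bot.1 h
        exact hinj (hP _))
    refine (IsZero.iff_id_eq_zero B).2 ?_
    have := congrArg (fun φ => b ≫ φ ≫ e.hom ≫ biprod.snd) h0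
    simpa [π, a, b] using this.symm

section Family

variable [IsLocallyNoetherian X] (F : X.Modules) {T : Type u} (J : T → X.Modules) (a : ∀ i, J i ⟶ F)

/-- The map from the coproduct of a family over `F`. -/
noncomputable def subDesc (s : Set T) : (∐ fun i : s => J i.1) ⟶ F :=
  Sigma.desc fun i => a i.1

theorem exists_maximal_subDesc (P : T → Prop) :
    ∃ s : Set T, Maximal (fun s => (∀ i ∈ s, P i) ∧ Mono (subDesc F J a s)) s := by
  classical
  refine zorn_subset {s | (∀ i ∈ s, P i) ∧ Mono (subDesc F J a s)} fun C hC hchain => ?_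
  refine ⟨⋃₀ C, ⟨fun i ⟨c, hc, hic⟩ => (hC hc).1 i hic, ?_⟩, fun s hs => Set.subset_sUnion_of_mem hs⟩
  refine Preadditive.mono_of_isZero_kernel _ ?_
  by_contra hK
  obtain ⟨U, w, hw⟩ := exists_hom_ne_zero _ hK
  haveI : IsNoetherianRing Γ(X, U.1) := IsLocallyNoetherian.component_noetherian U
  haveI := isNoetherianObject_extZeroUnit U.2.fromSpec
  let g := w ≫ kernel.ι (subDesc F J a (⋃₀ C))
  obtain ⟨K, hKg⟩ := exists_partialProj _ g
  by_cases hne : C = ∅
  · have : IsZero (∐ fun i : ↥(⋃₀ C) => J i.1) := (IsZero.iff_id_eq_zero _).2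
      (Sigma.hom_ext _ _ fun i => by obtain ⟨c, hc, -⟩ := i.2; rw [hne] at hc; exact hc.elim)
    exact hK (IsZero.of_mono (kernel.ι (subDesc F J a (⋃₀ C))) this)
  obtain ⟨c₀, hc₀⟩ := Set.nonempty_iff_ne_empty.2 hne
  have hfin : (Subtype.val '' (K : Set ↥(⋃₀ C))) ⊆ ⋃₀ C := by rintro _ ⟨i, -, rfl⟩; exact i.2
  obtain ⟨c, hc, hKc⟩ := hchain.directedOn.exists_mem_subset_of_finite_of_subset_sUnion ⟨c₀, hc₀⟩
    (K.finite_toSet.image _) hfin
  let incl : (∐ fun i : c => J i.1) ⟶ ∐ fun i : ↥(⋃₀ C) => J i.1 :=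
    Sigma.desc fun i => Sigma.ι (fun i : ↥(⋃₀ C) => J i.1) ⟨i.1, Set.subset_sUnion_of_mem hc i.2⟩
  have hincl : incl ≫ subDesc F J a (⋃₀ C) = subDesc F J a c :=
    Sigma.hom_ext _ _ fun i => by simp [incl, subDesc]
  let q : (∐ fun i : ↥(⋃₀ C) => J i.1) ⟶ ∐ fun i : c => J i.1 :=
    Sigma.desc fun i => if h : i.1 ∈ c then Sigma.ι (fun i : c => J i.1) ⟨i.1, h⟩ else 0
  have hq : partialProj _ K ≫ q ≫ incl = partialProj (fun i : ↥(⋃₀ C) => J i.1) K :=
    Sigma.hom_ext _ _ fun i => by
      by_cases hi : i ∈ K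
      · rw [← Category.assoc, ι_partialProj _ _ hi]
        simp [q, incl, dif_pos (hKc ⟨i, hi, rfl⟩)]
      · simp [partialProj, hi]
  have hg : (g ≫ q) ≫ incl = g := by
    conv_rhs => rw [← hKg, ← hq]
    rw [← Category.assoc g (partialProj _ K), hKg, Category.assoc]
  haveI : Mono (subDesc F J a c) := (hC hc).2
  have h0 : g ≫ q = 0 := by
    rw [← cancel_mono (subDesc F J a c), zero_comp, ← hincl, ← Category.assoc, hg, Category.assoc,
      kernel.condition, comp_zero]
  rw [h0, zero_comp] at hg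
  exact hw (zero_of_comp_mono _ hg.symm)

end Family

/-- Injective modules on locally Noetherian schemes decompose into indecomposable ones. -/
theorem exists_decomposition' [IsLocallyNoetherian X] (I : X.Modules) [Injective I] :
    ∃ (ι : Type u) (J : ι → X.Modules), (∀ i, Injective (J i)) ∧ (∀ i, ¬ IsZero (J i)) ∧
      (∀ i (A B : X.Modules), Nonempty (J i ≅ A ⊞ B) → IsZero A ∨ IsZero B) ∧ Nonempty (I ≅ ∐ J) := by
  classical
  have := H10Coh.small_subobject I
  let T := Shrink.{u} (Subobject I)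
  let sub : T → Subobject I := fun i => (equivShrink _).symm i
  let J : T → X.Modules := fun i => (sub i : X.Modules)
  let P : T → Prop := fun i => Injective (J i) ∧ ¬ IsZero (J i) ∧
    ∀ A B : X.Modules, Nonempty (J i ≅ A ⊞ B) → IsZero A ∨ IsZero B
  obtain ⟨s, ⟨hsP, hs⟩, hmax⟩ := exists_maximal_subDesc I J (fun i => (sub i).arrow) P
  let d := subDesc I J (fun i => (sub i).arrow) s
  haveI : Mono d := hs
  haveI : Injective (∐ fun i : s => J i.1) := injective_sigma _ fun i => (hsP i.1 i.2).1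
  let r : I ⟶ ∐ fun i : s => J i.1 := Injective.factorThru (𝟙 _) d
  have hr : d ≫ r = 𝟙 _ := Injective.comp_factorThru _ _
  have hK : IsZero (kernel r) := by
    by_contra hK
    -- the kernel is a direct summand of `I`
    let p : I ⟶ kernel r := kernel.lift r (𝟙 I - r ≫ d) (by simp [hr])
    have hp : kernel.ι r ≫ p = 𝟙 _ := by
      rw [← cancel_mono (kernel.ι r)]; simp [p]
    haveI : Injective (kernel r) := ⟨fun {A B} g m _ => ⟨Injective.factorThru (g ≫ kernel.ι r) m ≫ p, by
      rw [← Category.assoc, Injective.comp_factorThru, Category.assoc, hp, Category.comp_id]⟩⟩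
    obtain ⟨x, E, _, _, φ, hφ, hE, hEinj⟩ := exists_mono_sky (kernel r) hK
    haveI := hEinj
    haveI := hE.1
    let φ' := φ ≫ kernel.ι r
    haveI : Mono φ' := mono_comp _ _
    let i₀ : T := equivShrink _ (Subobject.mk φ')
    have hsub : sub i₀ = Subobject.mk φ' := (equivShrink _).symm_apply_apply _
    let e₀ : J i₀ ≅ sky x E := eqToIso (congrArg (fun S : Subobject I => (S : X.Modules)) hsub) ≪≫
      Subobject.underlyingIso φ'
    have harr : (sub i₀).arrow = e₀.hom ≫ φ' := by
      have : ∀ (S : Subobject I) (h : S = Subobject.mk φ'), S.arrow =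
          (eqToIso (congrArg (fun S : Subobject I => (S : X.Modules)) h) ≪≫ Subobject.underlyingIso φ').hom ≫ φ' := by
        rintro _ rfl; simp
      exact this _ hsub
    have hfr : (sub i₀).arrow ≫ r = 0 := by simp [harr, φ']
    have hP : P i₀ := ⟨Injective.of_iso e₀.symm (injective_sky x E),
      fun hz => not_isZero_sky x E (hz.of_iso e₀.symm),
      fun A B ⟨e⟩ => isZero_or_isZero_sky x E hE A B (e₀.symm ≪≫ e)⟩
    have hi₀ : i₀ ∉ s := fun h => by
      have h1 : Sigma.ι (fun i : s => J i.1) ⟨i₀, h⟩ ≫ d = (sub i₀).arrow := by simp [d, subDesc]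
      have h2 : Sigma.ι (fun i : s => J i.1) ⟨i₀, h⟩ = 0 := by
        rw [← Category.comp_id (Sigma.ι (fun i : s => J i.1) ⟨i₀, h⟩), ← hr, ← Category.assoc, h1, hfr]
      haveI : Mono (0 : J i₀ ⟶ I) := by
        have h3 : (sub i₀).arrow = 0 := h1.symm.trans (by rw [h2, zero_comp])
        exact h3 ▸ (inferInstance : Mono (sub i₀).arrow)
      exact hP.2.1 (IsZero.of_mono_zero (J i₀) I)
    refine hi₀ (hmax (show (∀ i ∈ insert i₀ s, P i) ∧ Mono (subDesc I J (fun i => (sub i).arrow) (insert i₀ s)) from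
      ⟨fun i hi => hi.elim (fun h => h ▸ hP) (hsP i), ?_⟩) (Set.subset_insert i₀ s) (Set.mem_insert i₀ s))
    let incl : (∐ fun i : s => J i.1) ⟶ ∐ fun i : ↥(insert i₀ s) => J i.1 :=
      Sigma.desc fun i => Sigma.ι (fun i : ↥(insert i₀ s) => J i.1) ⟨i.1, Set.mem_insert_of_mem _ i.2⟩
    let q : (∐ fun i : ↥(insert i₀ s) => J i.1) ⟶ J i₀ ⊞ ∐ fun i : s => J i.1 :=
      Sigma.desc fun i => if h : i.1 = i₀ then eqToHom (by rw [h]) ≫ biprod.inl
        else Sigma.ι (fun i : s => J i.1) ⟨i.1, i.2.resolve_left h⟩ ≫ biprod.inr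
    haveI : IsSplitMono q := ⟨⟨⟨biprod.desc
      (Sigma.ι (fun i : ↥(insert i₀ s) => J i.1) ⟨i₀, Set.mem_insert i₀ s⟩) incl,
      Sigma.hom_ext _ _ fun i => by
        by_cases h : i.1 = i₀
        · obtain ⟨i, hi⟩ := i; subst h; simp [q]
        · simp [q, h, incl]⟩⟩⟩
    have hq : q ≫ biprod.desc (sub i₀).arrow d = subDesc I J (fun i => (sub i).arrow) (insert i₀ s) :=
      Sigma.hom_ext _ _ fun i => by
        by_cases h : i.1 = i₀
        · obtain ⟨i, hi⟩ := i; subst h; simp [q, subDesc]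
        · simp [q, h, subDesc, d]
    haveI : Mono (biprod.desc (sub i₀).arrow d) := by
      refine Preadditive.mono_of_cancel_zero _ fun {Z} t ht => ?_
      rw [biprod.desc_eq, Preadditive.comp_add] at ht
      have h1 : t ≫ biprod.snd = 0 := by
        have := congrArg (· ≫ r) ht
        simp only [Preadditive.add_comp, Category.assoc, hfr, hr, Limits.comp_zero, zero_add, zero_comp,
          Category.comp_id] at this
        exact this
      have h3 : t ≫ biprod.fst = 0 := by
        rw [← Category.assoc t biprod.snd, h1, zero_comp, add_zero, ← Category.assoc] at ht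
        exact zero_of_comp_mono _ ht
      exact biprod.hom_ext _ _ (by rw [h3, zero_comp]) (by rw [h1, zero_comp])
    rw [← hq]
    exact mono_comp _ _
  haveI : IsIso d := by
    haveI : Mono r := Preadditive.mono_of_isZero_kernel _ hK
    have hrd : r ≫ d = 𝟙 I := (cancel_mono r).1 (by rw [Category.assoc, hr, Category.comp_id, Category.id_comp])
    exact ⟨r, hr, hrd⟩
  exact ⟨s, fun i => J i.1, fun i => (hsP i.1 i.2).1, fun i => (hsP i.1 i.2).2.1,
    fun i => (hsP i.1 i.2).2.2, ⟨(asIso d).symm⟩⟩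

end Groth.Agent.H10Inj
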