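import Groth.Agent.H10Inj.Embed
import Groth.Agent.H10Inj.StalkInjective
import Groth.Agent.H10Coh.SheafHom.Adj
import Groth.Agent.H10Coh.DerivedShift
import Groth.Agent.H10Coh.OpenSpec
import Groth.Agent.H10Coh.CohLocal
import Groth.Agent.H29Ref.DenseExt

/-!
# Injectivity of quasi-coherent modules and vanishing of sheaf Ext
-/

set_option autoImplicit false
set_option backward.isDefEq.respectTransparency false
set_option linter.style.haveILetI false

universe u

open CategoryTheory CategoryTheory.Limits AlgebraicGeometry TopologicalSpace Opposite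

namespace Groth.Agent.H10Inj

open Groth.Agent.H06Mod Groth.Agent.H29Ref Groth.Agent.H16Derived.KFlat.Stalk

variable {X : Scheme.{u}}

/-- Post-composition on the sheaf Hom of families of stalk maps. -/
noncomputable def postMap (G : X.Modules) {E Q : X.Modules} (π : E ⟶ Q) :
    RefHull.homSh G E ⟶ RefHull.homSh G Q :=
  H10Coh.SheafHom.curry (H10Coh.SheafHom.uncurry (𝟙 (RefHull.homSh G E)) ≫ π)

theorem postMap_apply (G : X.Modules) {E Q : X.Modules} (π : E ⟶ Q) (V : X.Opens)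
    (f : Γ(RefHull.homSh G E, V)) (y : V) (m : Γ(G, V)) :
    ((postMap G π).app V f).1 y (G.presheaf.germ V y.1 y.2 m) =
      stalkLin π y.1 (f.1 y (G.presheaf.germ V y.1 y.2 m)) := by
  rw [postMap, H10Coh.SheafHom.curry_app, H10Coh.SheafHom.curryFun_apply, pair_germ, RefHull.stalkMapₗ_germ,
    ← germ_toLin f m y, stalkLin_germ, Scheme.Modules.Hom.comp_app, ConcreteCategory.comp_apply,
    H10Coh.SheafHom.uncurry_tensorSect]
  rfl

theorem epi_postMap (G : X.Modules) [DCoh.HasSheafHom G] {E Q : X.Modules} (π : E ⟶ Q)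
    (h : Epi ((DCoh.sheafHom G).map π)) : Epi (postMap G π) := by
  let adj := DCoh.sheafHomAdj G
  have e : postMap G π = (H10Coh.SheafHom.homShIso G E).inv ≫ (DCoh.sheafHom G).map π ≫
      (H10Coh.SheafHom.homShIso G Q).hom := by
    have h1 : (H10Coh.SheafHom.homShIso G E).inv =
        adj.homEquiv _ _ (H10Coh.SheafHom.uncurry (𝟙 (RefHull.homSh G E))) := rfl
    have h2 : (H10Coh.SheafHom.homShIso G Q).hom =
        H10Coh.SheafHom.curry ((adj.homEquiv _ _).symm (𝟙 ((DCoh.sheafHom G).obj Q))) := rfl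
    rw [h1, h2, ← Category.assoc, ← H10Coh.SheafHom.curry_natural, ← Adjunction.homEquiv_naturality_right,
      ← Adjunction.homEquiv_naturality_left_symm, Category.comp_id, Equiv.symm_apply_apply]
    rfl
  haveI := h
  rw [e]
  infer_instance

/-- Elements of a stalk killed by an ideal come from homomorphisms out of a coherent module. -/
theorem exists_coh_hom [IsLocallyNoetherian X] (Q : X.Modules) (x : X) (b : Ideal (X.presheaf.stalk x))
    (q : Q.presheaf.stalk x) (hq : ∀ a ∈ b, a • q = 0) :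
    ∃ (G : X.Modules) (U : X.Opens) (hx : x ∈ U) (m : Γ(G, U)) (f : Γ(RefHull.homSh G Q, U)), Coh.IsCoh G ∧
      (∀ a ∈ b, a • G.presheaf.germ U x hx m = 0) ∧ f.1 ⟨x, hx⟩ (G.presheaf.germ U x hx m) = q := by
  classical
  obtain ⟨W₀, hxW₀, n₀, hn₀⟩ := Q.presheaf.exists_germ_eq q
  obtain ⟨U₀, hU₀, hxU₀, hUW⟩ := exists_isAffineOpen_mem_and_subset (x := x) (U := W₀) hxW₀
  haveI : IsNoetherianRing Γ(X, U₀) := IsLocallyNoetherian.component_noetherian ⟨U₀, hU₀⟩
  let n₁ : Γ(Q, U₀) := Q.presheaf.map (homOfLE hUW).op n₀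
  have hn₁ : Q.presheaf.germ U₀ x hxU₀ n₁ = q :=
    (TopCat.Presheaf.germ_res_apply Q.presheaf _ x hxU₀ n₀).trans hn₀
  let I₀ : Ideal Γ(X, U₀) := b.comap (X.presheaf.germ U₀ x hxU₀).hom
  obtain ⟨k, g, hg⟩ := Submodule.fg_iff_exists_fin_generating_family.1 (IsNoetherian.noetherian I₀)
  have hg0 : ∀ i, Q.presheaf.germ U₀ x hxU₀ (g i • n₁) = Q.presheaf.germ U₀ x hxU₀ 0 := fun i => by
    rw [germ_smul', hn₁, map_zero]
    exact hq _ (show g i ∈ I₀ from hg ▸ Submodule.subset_span (Set.mem_range_self i))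
  choose W hxW i₁ i₂ hW using fun i => TopCat.Presheaf.germ_eq Q.presheaf x hxU₀ hxU₀ _ _ (hg0 i)
  let W' : X.Opens := ⟨(U₀ : Set X) ∩ ⋂ i, (W i : Set X), U₀.2.inter (isOpen_iInter_of_finite fun i => (W i).2)⟩
  obtain ⟨c, hcW, hxc⟩ := hU₀.exists_basicOpen_le (V := W') ⟨x, hxU₀, Set.mem_iInter.2 hxW⟩ hxU₀
  let U := X.basicOpen c
  have hU : IsAffineOpen U := hU₀.basicOpen c
  haveI : IsNoetherianRing Γ(X, U) := IsLocallyNoetherian.component_noetherian ⟨U, hU⟩
  have hle : U ≤ U₀ := X.basicOpen_le c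
  let n : Γ(Q, U) := Q.presheaf.map (homOfLE hle).op n₁
  have hn : Q.presheaf.germ U x hxc n = q := (TopCat.Presheaf.germ_res_apply Q.presheaf _ x hxc n₁).trans hn₁
  let ρ : Γ(X, U₀) →+* Γ(X, U) := (X.presheaf.map (homOfLE hle).op).hom
  have hρn : ∀ a ∈ I₀, ρ a • n = 0 := by
    intro a ha
    rw [← hg] at ha
    induction ha using Submodule.span_induction with
    | mem a ha =>
      obtain ⟨i, rfl⟩ := ha
      have hleW : U ≤ W i := fun y hy => Set.mem_iInter.1 (hcW hy).2 i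
      have h1 := congrArg (Q.presheaf.map (homOfLE hleW).op) (hW i)
      rw [← ConcreteCategory.comp_apply, ← ConcreteCategory.comp_apply, ← Functor.map_comp, ← Functor.map_comp,
        map_zero] at h1
      exact (Scheme.Modules.map_smul Q (homOfLE hle) (g i) n₁).symm.trans h1
    | zero => rw [map_zero, zero_smul]
    | add a a' _ _ ha ha' => rw [map_add, add_smul, ha, ha', add_zero]
    | smul a a' _ ha' => rw [smul_eq_mul, map_mul, mul_smul, ha', smul_zero]
  let I : Ideal Γ(X, U) := b.comap (X.presheaf.germ U x hxc).hom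
  have hIn : ∀ a ∈ I, a • n = 0 := by
    intro a ha
    have hloc : IsLocalization.Away c Γ(X, U) := hU₀.isLocalization_basicOpen c
    obtain ⟨⟨a₀, s, hs⟩, has⟩ := IsLocalization.surj (Submonoid.powers c) a
    have hsu : IsUnit (ρ s) := IsLocalization.map_units Γ(X, U) (⟨s, hs⟩ : Submonoid.powers c)
    have has' : a * ρ s = ρ a₀ := has
    have ha₀ : a₀ ∈ I₀ := by
      show X.presheaf.germ U₀ x hxU₀ a₀ ∈ b
      rw [← TopCat.Presheaf.germ_res_apply X.presheaf (homOfLE hle) x hxc a₀]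
      show X.presheaf.germ U x hxc (ρ a₀) ∈ b
      rw [← has', map_mul]
      exact b.mul_mem_right _ ha
    refine hsu.smul_eq_zero.1 ?_
    rw [smul_smul, mul_comm, has']
    exact hρn a₀ ha₀
  -- the coherent extension of the quotient
  let N : ModuleCat.{u} Γ(X, U) := ModuleCat.of Γ(X, U) (Γ(X, U) ⧸ I)
  haveI : Module.Finite Γ(X, U) N := inferInstanceAs (Module.Finite Γ(X, U) (Γ(X, U) ⧸ I))
  obtain ⟨G, hG, ⟨θ⟩, -⟩ := exists_coh_extension U ((tilde N).restrict hU.isoSpec.hom)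
    (H10Coh.isCoh_restrict _ _ (H10Coh.isCoh_tilde N))
  let θ' : G.restrict hU.fromSpec ≅ tilde N :=
    ((Scheme.Modules.restrictFunctorCongr (show hU.fromSpec = hU.isoSpec.inv ≫ U.ι from rfl)).app G) ≪≫
      (Scheme.Modules.restrictFunctorComp hU.isoSpec.inv U.ι).app G ≪≫
      (Scheme.Modules.restrictFunctor hU.isoSpec.inv).mapIso θ ≪≫
      ((Scheme.Modules.restrictFunctorComp hU.isoSpec.inv hU.isoSpec.hom).symm ≪≫
        Scheme.Modules.restrictFunctorCongr hU.isoSpec.inv_hom_id ≪≫ Scheme.Modules.restrictFunctorId).app _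
  let e : N ≃ₗ[Γ(X, U)] Γ(G, U) :=
    (((tilde.toTildeΓNatIso (R := Γ(X, U))).app N ≪≫
      (moduleSpecΓFunctor (R := Γ(X, U))).mapIso θ'.symm).toLinearEquiv).trans (gammaEquiv G hU)
  let ψ : Γ(G, U) →ₗ[Γ(X, U)] Γ(Q, U) :=
    (Submodule.liftQ I (LinearMap.toSpanSingleton Γ(X, U) Γ(Q, U) n) fun a ha => hIn a ha) ∘ₗ
      e.symm.toLinearMap
  obtain ⟨f, hf⟩ := (bijective_toLinₗ G Q hG.1 hU).2 ψ
  let m : Γ(G, U) := e (Submodule.Quotient.mk 1)
  refine ⟨G, U, hxc, m, f, hG, fun a ha => ?_, ?_⟩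
  · letI := TopCat.Presheaf.algebra_section_stalk X.presheaf (⟨x, hxc⟩ : U)
    haveI := hU.isLocalization_stalk ⟨x, hxc⟩
    obtain ⟨⟨a₁, s⟩, has⟩ := IsLocalization.surj (hU.primeIdealOf ⟨x, hxc⟩).asIdeal.primeCompl a
    have has' : a * X.presheaf.germ U x hxc (s : Γ(X, U)) = X.presheaf.germ U x hxc a₁ := has
    have hsu : IsUnit (X.presheaf.germ U x hxc (s : Γ(X, U))) := IsLocalization.map_units (X.presheaf.stalk x) s
    have ha₁ : a₁ ∈ I := by
      show X.presheaf.germ U x hxc a₁ ∈ b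
      rw [← has']
      exact b.mul_mem_right _ ha
    refine hsu.smul_eq_zero.1 ?_
    rw [smul_smul, mul_comm, has', ← germ_smul', ← map_smul]
    show G.presheaf.germ U x hxc (e (a₁ • Submodule.Quotient.mk 1)) = 0
    rw [← Submodule.Quotient.mk_smul, smul_eq_mul, mul_one,
      (Submodule.Quotient.mk_eq_zero I).2 ha₁, map_zero, map_zero]
  · rw [← germ_toLin f m ⟨x, hxc⟩, show toLin f = ψ from hf]
    show Q.presheaf.germ U x hxc (ψ m) = q
    refine Eq.trans (congrArg (Q.presheaf.germ U x hxc) ?_) hn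
    refine (congrArg (Submodule.liftQ I (LinearMap.toSpanSingleton Γ(X, U) Γ(Q, U) n) fun a ha => hIn a ha)
      (e.symm_apply_apply (Submodule.Quotient.mk 1))).trans ?_
    exact one_smul _ n

attribute [local instance 10000] H10Coh.hasSheafifyAb H10Coh.hasWeakSheafifyAb H10Coh.hasExtAb H10Coh.enoughInjAb

/-- A quasi-coherent module is injective if the first sheaf Ext from coherent modules into it vanishes. -/
theorem injective_of_ext_one [IsLocallyNoetherian X] [HasInjectiveResolutions X.Modules] (F : X.Modules)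
    [F.IsQuasicoherent]
    (h : ∀ (G : X.Modules) [DCoh.HasSheafHom G] [(DCoh.sheafHom G).Additive],
      Coh.IsCoh G → IsZero (((DCoh.sheafHom G).rightDerived 1).obj F)) : Injective F := by
  refine injective_of_stalks F fun x => Module.Baer.injective fun b φ => ?_
  obtain ⟨E, i, hi, hE, -⟩ := exists_mono_injective F
  haveI := hi
  haveI := hE
  let π := cokernel.π i
  let S := ShortComplex.mk i π (cokernel.condition i)
  have hS : S.ShortExact := ShortComplex.ShortExact.mk' (ShortComplex.exact_cokernel i) hi inferInstance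
  have hsx : ∀ (a : X.presheaf.stalk x) (v : E.presheaf.stalk x), stalkLin π x (a • v) = a • stalkLin π x v :=
    fun a v => (stalkLin π x).map_smul a v
  haveI := injective_stalk E x
  obtain ⟨e₀', he₀⟩ := Module.Baer.of_injective (Q := E.presheaf.stalk x) inferInstance b
    ((stalkLin i x) ∘ₗ φ)
  let e₀ := e₀' 1
  have he₀a : ∀ (a : X.presheaf.stalk x) (ha : a ∈ b), a • e₀ = stalkLin i x (φ ⟨a, ha⟩) := fun a ha => by
    rw [show a • e₀ = e₀' (a • 1) from (map_smul e₀' a 1).symm, smul_eq_mul, mul_one]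
    exact he₀ a ha
  have hπi : ∀ v, stalkLin π x (stalkLin i x v) = 0 := fun v => stalk_exact S hS x |>.apply_apply_eq_zero v
  obtain ⟨G, U, hxU, m, f, hG, hkill, hfm⟩ := exists_coh_hom (cokernel i) x b (stalkLin π x e₀)
    fun a ha => by rw [← hsx, he₀a a ha]; exact hπi _
  haveI := H10Coh.SheafHom.hasSheafHom G
  haveI : (DCoh.sheafHom G).Additive := (DCoh.sheafHomAdj G).right_adjoint_additive
  haveI : (DCoh.sheafHom G).IsRightAdjoint := ⟨_, ⟨DCoh.sheafHomAdj G⟩⟩
  obtain ⟨iso⟩ := H10Coh.nonempty_rightDerived_one (F := DCoh.sheafHom G) hS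
    (fun k hk => by
      obtain ⟨k, rfl⟩ : ∃ j, k = j + 1 := ⟨k - 1, by omega⟩
      exact Functor.isZero_rightDerived_obj_injective_succ _ _ _)
  haveI : Epi ((DCoh.sheafHom G).map π) := Preadditive.epi_of_isZero_cokernel _ ((h G hG).of_iso iso.symm)
  haveI : Epi (postMap G π) := epi_postMap G π inferInstance
  obtain ⟨w, hw⟩ : ∃ w, stalkLin (postMap G π) x w = (RefHull.homSh G (cokernel i)).presheaf.germ U x hxU f :=
    (ModuleCat.epi_iff_surjective ((DerSch.stalkFunctor X x).map (postMap G π))).1 inferInstance _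
  obtain ⟨V, hxV, f', rfl⟩ := (RefHull.homSh G E).presheaf.exists_germ_eq w
  rw [stalkLin_germ] at hw
  obtain ⟨O, hxO, j₁, j₂, hO⟩ := TopCat.Presheaf.germ_eq _ x hxV hxU _ _ hw
  let ε := G.presheaf.germ U x hxU m
  let e₁ : E.presheaf.stalk x := f'.1 ⟨x, hxV⟩ ε
  have hπe : stalkLin π x e₁ = stalkLin π x e₀ := by
    rw [← hfm]
    have h1 := congrArg (fun F : Γ(RefHull.homSh G (cokernel i), O) => F.1 ⟨x, hxO⟩ ε) hO
    refine Eq.trans ?_ (Eq.trans h1 rfl)
    obtain ⟨V', hV', m', hm'⟩ := G.presheaf.exists_germ_eq ε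
    show stalkLin π x (f'.1 ⟨x, hxV⟩ ε) = ((postMap G π).app V f').1 ⟨x, hxV⟩ ε
    rw [← hm', ← TopCat.Presheaf.germ_res_apply G.presheaf (homOfLE (inf_le_left : V' ⊓ V ≤ V')) x ⟨hV', hxV⟩ m']
    have h2 := postMap_apply G π (V' ⊓ V) ((RefHull.homSh G E).presheaf.map (homOfLE inf_le_right).op f')
      ⟨x, ⟨hV', hxV⟩⟩ (G.presheaf.map (homOfLE (inf_le_left : V' ⊓ V ≤ V')).op m')
    rw [H11Tilde.app_map_apply (postMap G π) inf_le_right f', res_apply, res_apply] at h2
    exact h2.symm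
  obtain ⟨v, hv⟩ := (stalk_exact S hS x (e₀ - e₁)).1 (by rw [map_sub, hπe, sub_self])
  refine ⟨LinearMap.toSpanSingleton _ _ v, fun a ha => ?_⟩
  refine stalk_injective S hS x ?_
  rw [LinearMap.toSpanSingleton_apply, map_smul, show stalkLin S.f x v = e₀ - e₁ from hv, smul_sub,
    he₀a a ha, sub_eq_self]
  rw [← map_smul, hkill a ha, map_zero]

end Groth.Agent.H10Inj
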