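import Groth.Agent.H10Inj.Coproduct
import Groth.Agent.H16Derived.KFlat.FlatCover

/-!
# Covers by extensions by zero of structure sheaves
-/

set_option autoImplicit false
set_option backward.isDefEq.respectTransparency false
set_option linter.style.haveILetI false

universe u

open CategoryTheory CategoryTheory.Limits AlgebraicGeometry TopologicalSpace Opposite

namespace Groth.Agent.H10Inj

open Groth.Agent.H16Derived.KFlat.Stalk Groth.Agent.H16Derived.QCohD Groth.Agent.H06Mod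

variable {X : Scheme.{u}}

/-- A map out of the structure module is determined by the image of `1`. -/
theorem eq_homOfTop {M : X.Modules} (φ : Coh.structureModule X ⟶ M) :
    φ = homOfTop M (φ.app ⊤ (1 : Γ(X, ⊤))) := by
  refine Scheme.Modules.hom_ext _ _ fun W => AddCommGrpCat.hom_ext (AddMonoidHom.ext fun r => ?_)
  refine (app_unit φ W r).trans (Eq.trans ?_ (app_unit (homOfTop M (φ.app ⊤ (1 : Γ(X, ⊤)))) W r).symm)
  rw [homOfTop_app]

/-- The map out of `j_! O_U` with given section as image of `1`. -/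
noncomputable def homOfSection (U : X.Opens) {M : X.Modules} (s : Γ(M, U.ι ''ᵁ ⊤)) :
    CxOX.extZeroUnit U.ι ⟶ M :=
  ((CxOX.extZeroAdj U.ι).homEquiv _ _).symm (homOfTop ((Scheme.Modules.restrictFunctor U.ι).obj M) s)

theorem homOfSection_comp (U : X.Opens) {M N : X.Modules} (s : Γ(M, U.ι ''ᵁ ⊤)) (φ : M ⟶ N) :
    homOfSection U s ≫ φ = homOfSection U (φ.app _ s) := by
  rw [homOfSection, ← Adjunction.homEquiv_naturality_right_symm, homOfTop_comp]
  rfl

/-- `j_! O_U` is flat. -/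
theorem isFlat_extZeroUnit (U : X.Opens) : FlatMod.IsFlat (CxOX.extZeroUnit U.ι) := by
  let G := gen (U.ι ''ᵁ ⊤)
  let η := (CxOX.extZeroAdj U.ι).unit.app (Coh.structureModule (U : Scheme.{u}))
  let a : G ⟶ CxOX.extZeroUnit U.ι :=
    (genEquiv (U.ι ''ᵁ ⊤) (CxOX.extZeroUnit U.ι)).symm (η.app ⊤ (1 : Γ(U, ⊤)))
  let b : CxOX.extZeroUnit U.ι ⟶ G := homOfSection U (genSect (U.ι ''ᵁ ⊤))
  refine isFlat_of_retract b a ?_ (isFlat_gen _)
  rw [homOfSection_comp, homOfSection, Equiv.symm_apply_eq]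
  refine Eq.trans ?_ (((CxOX.extZeroAdj U.ι).homEquiv_unit (f := 𝟙 (CxOX.extZeroUnit U.ι))).trans
    ((congrArg (η ≫ ·) ((Scheme.Modules.restrictFunctor U.ι).map_id _)).trans (Category.comp_id η))).symm
  refine Eq.trans ?_ (eq_homOfTop η).symm
  exact congrArg (homOfTop _) ((genEquiv_eq _ a).symm.trans (Equiv.apply_symm_apply _ _))

/-- Every module is a quotient of a sum of extensions by zero of structure sheaves. -/
theorem exists_epi_extZeroUnit (F : X.Modules) :
    ∃ (ι : Type u) (U : ι → X.Opens) (p : (∐ fun i => CxOX.extZeroUnit (U i).ι) ⟶ F),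
      Epi p ∧ FlatMod.IsFlat (∐ fun i => CxOX.extZeroUnit (U i).ι) := by
  refine ⟨Σ U : X.Opens, Γ(F, U.ι ''ᵁ ⊤), fun p => p.1, Sigma.desc fun p => homOfSection p.1 p.2, ?_,
    isFlat_sigma _ fun p => isFlat_extZeroUnit p.1⟩
  refine Preadditive.epi_of_cancel_zero _ fun {Z} q hq => Scheme.Modules.hom_ext _ _ fun W =>
    AddCommGrpCat.hom_ext (AddMonoidHom.ext fun s => ?_)
  have hW : W ≤ W.ι ''ᵁ ⊤ := W.ι_image_top.ge
  have hW' : W.ι ''ᵁ ⊤ ≤ W := W.ι_image_top.le
  let s' : Γ(F, W.ι ''ᵁ ⊤) := F.presheaf.map (homOfLE hW').op s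
  have h1 := congrArg (fun f => Sigma.ι (fun p : Σ U : X.Opens, Γ(F, U.ι ''ᵁ ⊤) => CxOX.extZeroUnit p.1.ι) ⟨W, s'⟩ ≫ f) hq
  simp only [Sigma.ι_desc_assoc, comp_zero] at h1
  rw [homOfSection_comp, homOfSection, Equiv.symm_apply_eq, Adjunction.homEquiv_unit, Functor.map_zero,
    comp_zero] at h1
  have h2 : q.app _ s' = 0 := (homOfTop_app ((Scheme.Modules.restrictFunctor W.ι).obj Z) _).symm.trans
    (congr($(congrArg (fun φ => Scheme.Modules.Hom.app φ (⊤ : (W : Scheme.{u}).Opens)) h1) (1 : Γ(W, ⊤))))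
  show q.app W s = 0
  have h3 : F.presheaf.map (homOfLE hW).op s' = s := by
    show (F.presheaf.map _ ≫ F.presheaf.map _) s = s
    rw [← Functor.map_comp, Subsingleton.elim (_ ≫ _) (𝟙 (op W)), CategoryTheory.Functor.map_id]
    rfl
  rw [← h3]
  refine (congr($(q.mapPresheaf.naturality (homOfLE hW).op) s')).trans ?_
  show Z.presheaf.map (homOfLE hW).op (q.app _ s') = 0
  rw [h2, map_zero]

end Groth.Agent.H10Inj
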