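import Groth.Agent.S9521
import Groth.Agent.LeadAff.Chevalley

/-!
# Coherent modules on an integral scheme near the generic point; finite surjective morphisms
-/

set_option autoImplicit false
set_option linter.style.haveILetI false
set_option linter.unusedSectionVars false
set_option backward.isDefEq.respectTransparency false

universe u

open CategoryTheory CategoryTheory.Limits AlgebraicGeometry TopologicalSpace Opposite
open scoped ZeroObject

namespace Groth.Agent.H10Inj.GenericFree

/-- The stalk map of a morphism invertible near a point is bijective. -/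
theorem isIso_stalk {X : Scheme.{u}} (W : X.Opens) {M N : X.Modules} (φ : M ⟶ N)
    [IsIso ((Scheme.Modules.restrictFunctor W.ι).map φ)] (x : X) (hx : x ∈ W) :
    IsIso ((TopCat.Presheaf.stalkFunctor AddCommGrpCat.{u} x).map φ.mapPresheaf) := by
  have h1 : IsIso ((Scheme.Modules.restrictFunctor W.ι ⋙ Scheme.Modules.toPresheaf _ ⋙
      TopCat.Presheaf.stalkFunctor _ (⟨x, hx⟩ : W)).map φ) := by
    rw [Functor.comp_map]; infer_instance
  exact (NatIso.isIso_map_iff (Scheme.Modules.restrictStalkNatIso W.ι (⟨x, hx⟩ : W)) φ).1 h1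

/-- Shrinking the open keeps restricted maps invertible. -/
theorem isIso_restrict_le {X : Scheme.{u}} [IsNoetherian X] {U W : X.Opens} (h : U ≤ W) {M N : X.Modules}
    (φ : M ⟶ N) [IsIso ((Scheme.Modules.restrictFunctor W.ι).map φ)] :
    IsIso ((Scheme.Modules.restrictFunctor U.ι).map φ) := by
  let R := Scheme.Modules.restrictFunctor W.ι
  haveI : PreservesFiniteLimits R := inferInstance
  have hsub : (↑W : Set X)ᶜ ⊆ (↑U : Set X)ᶜ := Set.compl_subset_compl.2 h
  exact S9521.isIso_restrict U φ
    (((S13987.isZero_restrict_iff W _).1 ((isZero_kernel_of_mono (R.map φ)).of_iso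
      (PreservesKernel.iso R φ))).trans hsub)
    (((S13987.isZero_restrict_iff W _).1 ((isZero_cokernel_of_epi (R.map φ)).of_iso
      (PreservesCokernel.iso R φ))).trans hsub)

variable {Y : Scheme.{u}} [IsIntegral Y] [IsNoetherian Y]

theorem killed_genericPoint (G : Y.Modules) :
    ∀ a ∈ IsLocalRing.maximalIdeal (Y.presheaf.stalk (genericPoint Y)),
      ∀ m : ↑(G.presheaf.stalk (genericPoint Y)), a • m = 0 := by
  intro a ha m
  have hfield : IsField (Y.presheaf.stalk (genericPoint Y)) := Field.toIsField Y.functionField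
  rw [(IsLocalRing.isField_iff_maximalIdeal_eq.1 hfield), Ideal.mem_bot] at ha
  rw [ha, zero_smul]

/-- A coherent module is free near the generic point. -/
theorem exists_generic_free (G : Y.Modules) (hG : Coh.IsCoh G) :
    ∃ (n : ℕ) (U : Y.Opens), genericPoint Y ∈ U ∧
      (genericPoint Y ∈ CohB1.support G → 0 < n) ∧
      Nonempty ((Scheme.Modules.restrictFunctor U.ι).obj (⨁ fun _ : Fin n => Coh.structureModule Y) ≅
        (Scheme.Modules.restrictFunctor U.ι).obj G) := by
  by_cases hsupp : genericPoint Y ∈ CohB1.support G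
  swap
  · let U : Y.Opens := ⟨(CohB1.support G)ᶜ, (H10Coh.isClosed_support G hG.2).isOpen_compl⟩
    refine ⟨0, U, hsupp, fun h => absurd h hsupp, ⟨?_⟩⟩
    have hz : IsZero (⨁ fun _ : Fin 0 => Coh.structureModule Y) :=
      (IsZero.iff_id_eq_zero _).2 (biproduct.hom_ext _ _ fun k => k.elim0)
    exact ((Scheme.Modules.restrictFunctor U.ι).map_isZero hz).iso
      ((S13987.isZero_restrict_iff U G).2 (subset_of_eq (compl_compl _).symm))
  obtain ⟨W, hW, hηW, -⟩ :=
    exists_isAffineOpen_mem_and_subset (U := (⊤ : Y.Opens)) (x := genericPoint Y) trivial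
  have hkill := LeadDev.killedAt_of_stalk hW hηW hG.1 (killed_genericPoint G)
  obtain ⟨r, e, hr, hspan, hind, hkilled, -⟩ :=
    LeadDev.exists_basis_at (𝟙 Y) (ξ := genericPoint Y) rfl hW hηW G hG hsupp hkill
  obtain ⟨hAr, ψ, hψinj, hψsurj⟩ :=
    LeadDev.exists_psi (𝟙 Y) (ξ := genericPoint Y) rfl hW G e hspan hind hkilled
  obtain ⟨H, a, b, hH, hbm, haW, -, hsb⟩ :=
    LeadDev.exists_model (𝟙 Y) (ξ := genericPoint Y) rfl hW hηW G hG r hAr ψ hψinj hψsurj
  haveI := hbm
  let D := CohB1.support (cokernel b)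
  have hD : IsClosed D := H10Coh.isClosed_support _ (H10Coh.isCoh_cokernel b hH.1 hG).2
  let U : Y.Opens := W ⊓ ⟨Dᶜ, hD.isOpen_compl⟩
  refine ⟨r, U, ⟨hηW, LeadDev.notMem_support_cokernel b hH.1 hG.1 hW hηW hsb⟩, fun _ => hr, ?_⟩
  have ha : IsIso ((Scheme.Modules.restrictFunctor U.ι).map a) := by
    refine S9521.isIso_restrict U a (fun x hx hxU => ?_) (fun x hx hxU => ?_)
    · refine LeadDev.notMem_support_of_smul hW hxU.1 _ (H10Coh.isCoh_kernel a hH hAr.1).1
        (fun s => ⟨1, LeadDev.unitAt_one hxU.1, ?_⟩) hx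
      rw [one_smul]
      refine H10Coh.injective_app_of_mono' (kernel.ι a) W (haW.1 ?_)
      exact (congr($(congr(Scheme.Modules.Hom.app $(kernel.condition a) W)) s)).trans
        ((congrArg (a.app W) (map_zero _)).trans (map_zero _)).symm
    · exact LeadDev.notMem_support_cokernel a hH.1 hAr.1 hW hxU.1
        (fun y => ⟨1, (haW.2 y).choose, LeadDev.unitAt_one hxU.1, by rw [(haW.2 y).choose_spec, one_smul]⟩) hx
  have hb : IsIso ((Scheme.Modules.restrictFunctor U.ι).map b) :=
    S9521.isIso_restrict U b (S9521.support_of_isZero (isZero_kernel_of_mono b) _) fun x hx hxU => hxU.2 hx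
  exact ⟨(Scheme.Modules.restrictFunctor U.ι).mapIso (biproduct.mapIso fun _ =>
      ((Scheme.Modules.pushforwardId Y).app (Coh.structureModule Y)).symm) ≪≫
    (asIso ((Scheme.Modules.restrictFunctor U.ι).map a)).symm ≪≫
    asIso ((Scheme.Modules.restrictFunctor U.ι).map b)⟩

variable {X : Scheme.{u}} [IsIntegral X] [IsNoetherian X] (f : X ⟶ Y) [IsFinite f] [Surjective f]

theorem map_genericPoint : f (genericPoint X) = genericPoint Y := by
  obtain ⟨x, hx⟩ := f.surjective (genericPoint Y)
  have h1 : f (genericPoint X) ⤳ genericPoint Y := hx ▸ (genericPoint_specializes x).map f.continuous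
  exact (h1.antisymm (genericPoint_specializes _)).eq

theorem mem_support_push_structure :
    genericPoint Y ∈ CohB1.support ((Coh.push f).obj (Coh.structureModule X)) := by
  intro hs
  haveI : Subsingleton (((Coh.push f).obj (Coh.structureModule X)).presheaf.stalk (genericPoint Y)) := hs
  obtain ⟨W, hW, hξW, -⟩ :=
    exists_isAffineOpen_mem_and_subset (U := (⊤ : Y.Opens)) (x := genericPoint Y) trivial
  obtain ⟨c, hc, hc0⟩ := H17.AssPts.exists_smul_eq_zero_of_germ ((Coh.push f).obj (Coh.structureModule X))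
    (H10Coh.isCoh_push_of_isFinite f _ (LeadAff.isCoh_structureModule X)).1 hW hξW
    (s := (show Γ((Coh.push f).obj (Coh.structureModule X), W) from (1 : Γ(X, f ⁻¹ᵁ W)))) (Subsingleton.elim _ _)
  have h1 : f.app W c = 0 := (mul_one _).symm.trans hc0
  have h2 : genericPoint X ∈ f ⁻¹ᵁ Y.basicOpen c := by
    show f _ ∈ Y.basicOpen c; rw [map_genericPoint f]; exact hc
  rw [Scheme.preimage_basicOpen, h1, Scheme.basicOpen_zero] at h2
  exact h2

end Groth.Agent.H10Inj.GenericFree
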