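import Groth.Agent.H16Derived.KFlat.FlatCover
import Groth.Agent.H16Derived.KFlat.StalkTensor
import Groth.Prelude.Def_DCoh4

/-!
# Sheaf Hom into an injective module is flasque
-/

set_option autoImplicit false
set_option backward.isDefEq.respectTransparency false
set_option linter.style.haveILetI false

universe u

open CategoryTheory CategoryTheory.Limits AlgebraicGeometry TopologicalSpace Opposite

namespace Groth.Agent.H10Inj

open Groth.Agent.H06Mod Groth.Agent.H16Derived.KFlat.Stalk

variable {X : Scheme.{u}}

/-- The inclusion `gen U ⟶ gen V`. -/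
noncomputable def genIncl {U V : X.Opens} (h : U ≤ V) : gen U ⟶ gen V :=
  (genEquiv U (gen V)).symm ((gen V).presheaf.map (homOfLE h).op (genSect V))

theorem genIncl_comp {U V : X.Opens} (h : U ≤ V) {M : X.Modules} (f : gen V ⟶ M) :
    genEquiv U M (genIncl h ≫ f) = M.presheaf.map (homOfLE h).op (genEquiv V M f) := by
  rw [genEquiv_comp, genIncl, Equiv.apply_symm_apply, genEquiv_eq V f]
  exact congr($(f.mapPresheaf.naturality (homOfLE h).op) (genSect V))

theorem stalk_gen_eq_zero {U : X.Opens} {x : X} (hx : x ∉ U) (a : (gen U).presheaf.stalk x) : a = 0 :=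
  LinearMap.congr_fun (gen_stalk_ext U x LinearMap.id 0 fun h => absurd h hx) a

theorem stalkLin_genIncl {U V : X.Opens} (h : U ≤ V) {x : X} (hx : x ∈ U) :
    Function.Surjective (stalkLin (genIncl h) x) := by
  intro a
  let P := LinearMap.range (stalkLin (genIncl h) x)
  have h0 : P.mkQ = 0 := gen_stalk_ext V x _ _ fun hV => by
    refine (Submodule.Quotient.mk_eq_zero P).2 ⟨(gen U).presheaf.germ U x hx (genSect U), ?_⟩
    rw [stalkLin_germ, ← genEquiv_eq, genIncl, Equiv.apply_symm_apply, TopCat.Presheaf.germ_res_apply]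
  exact (Submodule.Quotient.mk_eq_zero P).1 (LinearMap.congr_fun h0 a)

instance mono_genIncl {U V : X.Opens} (h : U ≤ V) : Mono (genIncl (X := X) h) := by
  refine Preadditive.mono_of_cancel_zero _ fun {Z} k hk => Scheme.Modules.hom_ext _ _ fun D =>
    AddCommGrpCat.hom_ext (AddMonoidHom.ext fun z => ?_)
  refine TopCat.Presheaf.section_ext (⟨_, (gen U).isSheaf⟩ : TopCat.Sheaf Ab X) D (k.app D z) 0 fun x hx => ?_
  refine Eq.trans ?_ (map_zero _).symm
  show (gen U).presheaf.germ D x hx (k.app D z) = 0
  by_cases hxU : x ∈ U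
  swap
  · exact stalk_gen_eq_zero hxU _
  let R := X.presheaf.stalk x
  let d : gen V ⟶ sky x R := (genEquiv V (sky x R)).symm (fun _ => (1 : R))
  let s := LinearMap.toSpanSingleton R _ ((gen U).presheaf.germ U x hxU (genSect U))
  let i : (gen V).presheaf.stalk x →ₗ[R] R :=
    { toFun := stalkOfHom d, map_add' := map_add _, map_smul' := stalkOfHom_smul d }
  have hretr : (s.comp i).comp (stalkLin (genIncl h) x) = LinearMap.id := gen_stalk_ext U x _ _ fun hx' => by
    rw [LinearMap.comp_apply, stalkLin_germ, ← genEquiv_eq, genIncl, Equiv.apply_symm_apply,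
      TopCat.Presheaf.germ_res_apply, LinearMap.comp_apply]
    have h1 : i ((gen V).presheaf.germ V x (h hx') (genSect V)) = 1 := by
      show stalkOfHom d _ = _
      rw [stalkOfHom_germ, ← genEquiv_eq, Equiv.apply_symm_apply]
      rfl
    rw [h1, LinearMap.toSpanSingleton_apply, one_smul, LinearMap.id_apply]
  have h2 : stalkLin (genIncl h) x ((gen U).presheaf.germ D x hx (k.app D z)) = 0 := by
    rw [stalkLin_germ, show (genIncl h).app D (k.app D z) = 0 from
      congr($(congrArg (fun φ => Scheme.Modules.Hom.app φ D) hk) z), map_zero]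
  rw [← LinearMap.id_apply (R := R) ((gen U).presheaf.germ D x hx (k.app D z)), ← hretr, LinearMap.comp_apply,
    h2, map_zero]

theorem isFlat_cokernel_genIncl {U V : X.Opens} (h : U ≤ V) : FlatMod.IsFlat (cokernel (genIncl (X := X) h)) := by
  intro x
  let S := DerSch.stalkFunctor X x
  by_cases hx : x ∈ U
  · haveI : Epi (S.map (genIncl h)) := (ModuleCat.epi_iff_surjective _).2 (stalkLin_genIncl h hx)
    have hz : IsZero (S.obj (cokernel (genIncl h))) := (IsZero.iff_id_eq_zero _).2 (by
      rw [← cancel_epi (S.map (cokernel.π (genIncl h))), ← cancel_epi (S.map (genIncl h)), Category.comp_id,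
        ← Functor.map_comp, cokernel.condition, Functor.map_zero, comp_zero, comp_zero])
    haveI : Subsingleton ((cokernel (genIncl h)).presheaf.stalk x) := ModuleCat.subsingleton_of_isZero hz
    exact Module.Flat.of_retract (M := X.presheaf.stalk x) 0 0 (Subsingleton.elim _ _)
  · have h0 : S.map (genIncl h) = 0 := ModuleCat.hom_ext (LinearMap.ext fun a => by
      rw [stalk_gen_eq_zero hx a]; exact map_zero _)
    haveI : Module.Flat (X.presheaf.stalk x) (S.obj (gen V)) := isFlat_gen V x
    exact Module.Flat.of_linearEquiv ((PreservesCokernel.iso S (genIncl h)) ≪≫ cokernelIsoOfEq h0 ≪≫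
      cokernelZeroIsoTarget).toLinearEquiv

/-- The sheaf Hom into an injective module is flasque. -/
theorem sheafHom_flasque (F I : X.Modules) [DCoh.HasSheafHom F] [Injective I] {U V : X.Opens} (h : U ≤ V) :
    Function.Surjective (((DCoh.sheafHom F).obj I).presheaf.map (homOfLE h).op) := by
  intro s
  let adj := DCoh.sheafHomAdj F
  let S := ShortComplex.mk (genIncl h) (cokernel.π _) (cokernel.condition _)
  have hS : S.ShortExact := ShortComplex.ShortExact.mk' (ShortComplex.exact_cokernel _) inferInstance inferInstance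
  haveI : Mono (((DCoh.tensorBi (X := X)).obj F).map (genIncl h)) :=
    (shortExact_tensor_of_isFlat F hS (isFlat_cokernel_genIncl h)).mono_f
  let g := (adj.homEquiv _ _).symm ((genEquiv U ((DCoh.sheafHom F).obj I)).symm s)
  let e := Injective.factorThru g (((DCoh.tensorBi (X := X)).obj F).map (genIncl h))
  refine ⟨genEquiv V _ (adj.homEquiv _ _ e), ?_⟩
  rw [← genIncl_comp, ← Adjunction.homEquiv_naturality_left, Injective.comp_factorThru, Equiv.apply_symm_apply,
    Equiv.apply_symm_apply]

end Groth.Agent.H10Inj
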