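import Groth.Agent.LeadDev.Stalks
import Groth.Agent.LeadAff.Chevalley
import Groth.Agent.H29Ref.HomSections
import Mathlib.RingTheory.Filtration

/-!
# Powers of an ideal sheaf and modules supported on its zero locus
-/

set_option autoImplicit false
set_option linter.style.haveILetI false
set_option linter.unusedSectionVars false

universe u

open CategoryTheory CategoryTheory.Limits AlgebraicGeometry Opposite TopologicalSpace

namespace Groth.Agent.H10Inj.IdealPow

variable {X : Scheme.{u}}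

/-- The ideal sheaf `J` annihilates `M` on every affine open. -/
def Kills (J : X.IdealSheafData) (M : X.Modules) : Prop :=
  ∀ (V : X.affineOpens) (a : Γ(X, V.1)), a ∈ J.ideal V → ∀ s : Γ(M, V.1), a • s = 0

theorem pow_ideal_le (I : X.IdealSheafData) {m n : ℕ} (h : m ≤ n) (V : X.affineOpens) :
    (I ^ n).ideal V ≤ (I ^ m).ideal V := by
  simp only [Scheme.IdealSheafData.ideal_pow, Pi.pow_apply]
  exact Ideal.pow_le_pow_right h

theorem Kills.mono {I : X.IdealSheafData} {M : X.Modules} {m n : ℕ} (h : Kills (I ^ m) M) (hmn : m ≤ n) :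
    Kills (I ^ n) M := fun V a ha => h V a (pow_ideal_le I hmn V ha)

/-- Annihilation may be checked on one affine cover. -/
theorem kills_of_cover (J : X.IdealSheafData) (M : X.Modules) (hM : Coh.IsQCoh M) {ι : Type*}
    (U : ι → X.affineOpens) (hU : ∀ x : X, ∃ i, x ∈ (U i).1)
    (h : ∀ i (a : Γ(X, (U i).1)), a ∈ J.ideal (U i) → ∀ s : Γ(M, (U i).1), a • s = 0) : Kills J M := by
  intro V a ha s
  refine TopCat.Presheaf.section_ext (H10Coh.sheafOf M) _ _ _ fun x hx => ?_
  change M.presheaf.germ V.1 x hx (a • s) = M.presheaf.germ V.1 x hx 0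
  rw [H06Mod.germ_smul, map_zero]
  obtain ⟨i, hxi⟩ := hU x
  obtain ⟨E, hE, hxE, hle⟩ := exists_isAffineOpen_mem_and_subset (U := V.1 ⊓ (U i).1) (x := x) ⟨hx, hxi⟩
  have hEV : (⟨E, hE⟩ : X.affineOpens) ≤ V := hle.trans inf_le_left
  have hEU : (⟨E, hE⟩ : X.affineOpens) ≤ U i := hle.trans inf_le_right
  have hmem : X.presheaf.map (homOfLE hEV).op a ∈ J.ideal ⟨E, hE⟩ :=
    (J.map_ideal hEV).le (Ideal.mem_map_of_mem _ ha)
  rw [← TopCat.Presheaf.germ_res_apply X.presheaf (homOfLE hEV) x hxE a]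
  suffices key : ∀ a' : Γ(X, E), a' ∈ (J.ideal (U i)).map (X.presheaf.map (homOfLE hEU).op).hom →
      X.presheaf.germ E x hxE a' • M.presheaf.germ V.1 x hx s = 0 by
    exact key _ ((J.map_ideal hEU).ge hmem)
  intro a' hmem
  induction hmem using Submodule.span_induction with
  | mem y hy =>
    obtain ⟨r, hr, rfl⟩ := hy
    have hm : M.presheaf.germ V.1 x hx s ∈ Submodule.span (X.presheaf.stalk x)
        (Set.range fun m : Γ(M, (U i).1) => M.presheaf.germ (U i).1 x hxi m) :=
      (H29Ref.span_germ_all M hM (U i).2 le_rfl x hxi).symm ▸ Submodule.mem_top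
    erw [TopCat.Presheaf.germ_res_apply X.presheaf (homOfLE hEU) x hxE r]
    refine Submodule.span_induction
      (p := fun z _ => X.presheaf.germ (U i).1 x hxi r • z = 0) ?_ (smul_zero _)
      (fun b c _ _ hb hc => by rw [smul_add, hb, hc, add_zero])
      (fun c b _ hb => by rw [smul_comm, hb, smul_zero]) hm
    rintro z ⟨m, rfl⟩
    show X.presheaf.germ (U i).1 x hxi r • M.presheaf.germ (U i).1 x hxi m = 0
    rw [← H06Mod.germ_smul, h i r hr m, map_zero]
  | zero => rw [map_zero, zero_smul]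
  | add y z _ _ hy hz => rw [map_add, add_smul, hy, hz, add_zero]
  | smul r y _ hy => rw [smul_eq_mul, map_mul, mul_smul, hy, smul_zero]

variable [IsNoetherian X]

/-- A coherent module supported on `V(I)` is killed by a power of `I`. -/
theorem exists_kills (I : X.IdealSheafData) (M : X.Modules) (hM : Coh.IsCoh M)
    (hs : CohB1.support M ⊆ (I.support : Set X)) : ∃ n : ℕ, Kills (I ^ n) M := by
  classical
  haveI : CompactSpace X := inferInstance
  obtain ⟨k, U, hU, -, hcov⟩ := H10Coh.exists_finite_affine_cover (W := (⊤ : X.Opens)) isCompact_univ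
  haveI : ∀ a, IsNoetherianRing Γ(X, U a) := fun a => IsLocallyNoetherian.component_noetherian ⟨U a, hU a⟩
  have key : ∀ a : Fin k, ∃ n : ℕ, ∀ r ∈ (I.ideal ⟨U a, hU a⟩) ^ n, ∀ s : Γ(M, U a), r • s = 0 := by
    intro a
    haveI := ((H10Coh.isCoh_iff_finite_sections M).1 hM).2 _ (hU a)
    have hrad : I.ideal ⟨U a, hU a⟩ ≤ (⊤ : Submodule Γ(X, U a) Γ(M, U a)).annihilator.radical := by
      intro f hf
      obtain ⟨T₀, hT₀⟩ := Module.Finite.fg_top (R := Γ(X, U a)) (M := Γ(M, U a))
      have hs : ∀ s : Γ(M, U a), ∃ n : ℕ, f ^ n • s = 0 := fun s => by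
        refine H29Blow.exists_pow_smul_eq_zero M hM.1 (hU a) _ _ ?_
        refine TopCat.Presheaf.section_ext (H10Coh.sheafOf M) _ _ _ fun x hx => ?_
        have hxM : x ∉ CohB1.support M := fun hxs => by
          have := ((I.coe_support_inter ⟨U a, hU a⟩).le ⟨hs hxs, X.basicOpen_le f hx⟩).1
          exact ((X.mem_zeroLocus_iff _ _).1 this f hf) hx
        haveI : Subsingleton (M.presheaf.stalk x) := not_not.1 hxM
        exact Subsingleton.elim (α := M.presheaf.stalk x) _ _
      choose n hn using hs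
      refine ⟨T₀.sup n, Submodule.mem_annihilator.2 fun s hs0 => ?_⟩
      clear hs0
      have : s ∈ Submodule.span Γ(X, U a) (T₀ : Set Γ(M, U a)) := hT₀ ▸ trivial
      induction this using Submodule.span_induction with
      | mem x hx =>
        rw [show T₀.sup n = (T₀.sup n - n x) + n x from (Nat.sub_add_cancel (Finset.le_sup hx)).symm,
          pow_add, mul_smul, hn, smul_zero]
      | zero => rw [smul_zero]
      | add x y _ _ hx hy => rw [smul_add, hx, hy, add_zero]
      | smul r x _ hx => rw [smul_comm, hx, smul_zero]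
    obtain ⟨n, hn⟩ := Ideal.exists_pow_le_of_le_radical_of_fg hrad (IsNoetherian.noetherian _)
    exact ⟨n, fun r hr s => Submodule.mem_annihilator.1 (hn hr) s trivial⟩
  choose n hn using key
  refine ⟨Finset.univ.sup n, kills_of_cover _ M hM.1 (fun a => (⟨U a, hU a⟩ : X.affineOpens))
    (fun x => Opens.mem_iSup.1 (hcov (Opens.mem_top x))) fun a r hr s => ?_⟩
  rw [Scheme.IdealSheafData.ideal_pow, Pi.pow_apply] at hr
  exact hn a r (Ideal.pow_le_pow_right (Finset.le_sup (Finset.mem_univ a)) hr) s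

/-- Maps out of `J·G` into a module killed by `J` that come from `G` vanish. -/
theorem idealMulι_comp_eq_zero (J : X.IdealSheafData) {G Q : X.Modules} (hG : Coh.IsCoh G) (π : G ⟶ Q)
    (hQ : Kills J Q) : Dual3.idealMulι J G ≫ π = 0 := by
  refine LeadAff.hom_ext_affine _ _ fun V hV s => ?_
  refine Submodule.smul_induction_on (LeadDev.idealMulι_app_mem J G hG ⟨V, hV⟩ s)
    (p := fun y => π.app V y = 0) (fun r hr y _ => ?_) (fun x y hx hy => by rw [map_add, hx, hy, add_zero])
  rw [Scheme.Modules.Hom.app_smul]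
  exact hQ ⟨V, hV⟩ r hr _

theorem idealMulι_app_injective (J : X.IdealSheafData) (G : X.Modules) (V : X.Opens) :
    Function.Injective ((Dual3.idealMulι J G).app V) :=
  H10Coh.injective_app_of_mono' _ V

/-- Inclusions between powers. -/
theorem exists_pow_incl (I : X.IdealSheafData) (G : X.Modules) (hG : Coh.IsCoh G) {m n : ℕ} (h : m ≤ n) :
    ∃ ι : (Dual3.idealMul (I ^ n)).obj G ⟶ (Dual3.idealMul (I ^ m)).obj G,
      ι ≫ Dual3.idealMulι (I ^ m) G = Dual3.idealMulι (I ^ n) G := by
  let η := (Scheme.Modules.pullbackPushforwardAdjunction (I ^ m).subschemeι).unit.app G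
  have h0 : Dual3.idealMulι (I ^ n) G ≫ η = 0 := by
    refine LeadAff.hom_ext_affine _ _ fun V hV s => ?_
    refine Submodule.smul_induction_on (LeadDev.idealMulι_app_mem (I ^ n) G hG ⟨V, hV⟩ s)
      (p := fun y => η.app V y = 0) (fun r hr y _ => ?_) (fun x y hx hy => by rw [map_add, hx, hy, add_zero])
    obtain ⟨t, ht⟩ := LeadDev.exists_idealMulι_app_eq (I ^ m) G hG ⟨V, hV⟩ r (pow_ideal_le I h _ hr) y
    rw [← ht]
    exact congr($(congr(Scheme.Modules.Hom.app $(kernel.condition η) V)) t)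
  exact ⟨kernel.lift η _ h0, kernel.lift_ι η _ h0⟩

/-- Vanishing on the zero locus. -/
theorem support_subset_of_isZero_restrict (I : X.IdealSheafData) (U : X.Opens)
    (hU : (U : Set X) = (I.support : Set X)ᶜ) {M : X.Modules}
    (h : IsZero ((Scheme.Modules.restrictFunctor U.ι).obj M)) :
    CohB1.support M ⊆ (I.support : Set X) := fun x hx => by
  by_contra hc
  exact LeadDev.notMem_support_of_isZero_restrict U.ι h ⟨⟨x, by rw [← SetLike.mem_coe, hU]; exact hc⟩, rfl⟩ hx

theorem injective_comp_app (I : X.IdealSheafData) {H G : X.Modules} (hH : Coh.IsCoh H) (a : H ⟶ G)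
    (n₀ : ℕ) (hn₀ : Kills (I ^ n₀) (kernel a)) (V : X.affineOpens) :
    ∃ c : ℕ, ∀ n, n₀ + c ≤ n → ∀ s : Γ((Dual3.idealMul (I ^ n)).obj H, V.1),
      (Dual3.idealMulι (I ^ n) H ≫ a).app V.1 s = 0 → s = 0 := by
  haveI : IsNoetherianRing Γ(X, V.1) := IsLocallyNoetherian.component_noetherian V
  haveI : Module.Finite Γ(X, V.1) Γ(H, V.1) := ((H10Coh.isCoh_iff_finite_sections H).1 hH).2 _ V.2
  let L : Γ(H, V.1) →ₗ[Γ(X, V.1)] Γ(G, V.1) :=
    { toFun := a.app V.1, map_add' := map_add _, map_smul' := fun c s => Scheme.Modules.Hom.app_smul a c s }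
  obtain ⟨c, hc⟩ := (I.ideal V).exists_pow_inf_eq_pow_smul (LinearMap.ker L)
  refine ⟨c, fun n hn s hsa => ?_⟩
  have hmem : (Dual3.idealMulι (I ^ n) H).app V.1 s ∈
      (I.ideal V) ^ n • (⊤ : Submodule Γ(X, V.1) Γ(H, V.1)) ⊓ LinearMap.ker L := by
    refine ⟨?_, hsa⟩
    have := LeadDev.idealMulι_app_mem (I ^ n) H hH V s
    rwa [Scheme.IdealSheafData.ideal_pow, Pi.pow_apply] at this
  rw [hc n (by omega)] at hmem
  have h0 : (Dual3.idealMulι (I ^ n) H).app V.1 s = 0 := by
    refine Submodule.smul_induction_on (p := fun y => y = 0) hmem (fun r hr y hy => ?_)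
      (fun x y hx hy => by rw [hx, hy, add_zero])
    obtain ⟨t, rfl⟩ := LeadDev.exists_kernel_section a V.1 y hy.2
    have hr' : r ∈ (I ^ n₀).ideal V := by
      rw [Scheme.IdealSheafData.ideal_pow, Pi.pow_apply]
      exact Ideal.pow_le_pow_right (by omega) hr
    rw [← Scheme.Modules.Hom.app_smul, hn₀ V r hr' t, map_zero]
  exact idealMulι_app_injective _ _ _ (h0.trans (map_zero _).symm)

theorem isZero_of_cover {K : X.Modules} (hK : Coh.IsQCoh K) {ι : Type*}
    (U : ι → X.affineOpens) (hU : ∀ x : X, ∃ i, x ∈ (U i).1)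
    (h : ∀ i (t : Γ(K, (U i).1)), t = 0) : IsZero K := by
  refine LeadDev.isZero_of_sections fun O s => TopCat.Presheaf.section_ext (H10Coh.sheafOf K) _ _ _ fun x hx => ?_
  change K.presheaf.germ O x hx s = K.presheaf.germ O x hx 0
  rw [map_zero]
  obtain ⟨i, hxi⟩ := hU x
  have hm : K.presheaf.germ O x hx s ∈ Submodule.span (X.presheaf.stalk x)
      (Set.range fun t => K.presheaf.germ (U i).1 x hxi t) :=
    (H29Ref.span_germ_all K hK (U i).2 le_rfl x hxi).symm ▸ Submodule.mem_top
  refine Submodule.span_induction (p := fun z _ => z = 0) ?_ rfl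
    (fun b c _ _ hb hc => by rw [hb, hc, add_zero]) (fun c b _ hb => by rw [hb, smul_zero]) hm
  rintro _ ⟨t, rfl⟩
  rw [h i t]
  exact map_zero _

theorem mono_of_injective_on_cover {M N : X.Modules} (m : M ⟶ N) (hK : Coh.IsQCoh (kernel m)) {ι : Type*}
    (U : ι → X.affineOpens) (hU : ∀ x : X, ∃ i, x ∈ (U i).1)
    (h : ∀ i (s : Γ(M, (U i).1)), m.app (U i).1 s = 0 → s = 0) : Mono m := by
  refine Preadditive.mono_of_kernel_zero ((isZero_of_cover hK U hU fun i t => ?_).eq_of_src _ _)
  have h1 : (kernel.ι m).app (U i).1 t = 0 :=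
    h i _ congr($(congr(Scheme.Modules.Hom.app $(kernel.condition m) (U i).1)) t)
  exact H10Coh.injective_app_of_mono' (kernel.ι m) _ (h1.trans (map_zero _).symm)

/-- A kernel avoided by a high power (Artin–Rees). -/
theorem exists_mono_comp (I : X.IdealSheafData) {H G : X.Modules} (hH : Coh.IsCoh H) (hG : Coh.IsCoh G)
    (a : H ⟶ G) (hs : CohB1.support (kernel a) ⊆ (I.support : Set X)) :
    ∃ n : ℕ, Mono (Dual3.idealMulι (I ^ n) H ≫ a) := by
  haveI : CompactSpace X := inferInstance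
  obtain ⟨k, U, hU, -, hcov⟩ := H10Coh.exists_finite_affine_cover (W := (⊤ : X.Opens)) isCompact_univ
  obtain ⟨n₀, hn₀⟩ := exists_kills I (kernel a) (H10Coh.isCoh_kernel a hH hG.1) hs
  choose c hc using fun i => injective_comp_app I hH a n₀ hn₀ ⟨U i, hU i⟩
  refine ⟨n₀ + Finset.univ.sup c, mono_of_injective_on_cover _
    (H10Coh.isCoh_kernel _ (LeadDev.isCoh_idealMul _ H hH) hG.1).1 (fun i => (⟨U i, hU i⟩ : X.affineOpens))
    (fun x => Opens.mem_iSup.1 (hcov (Opens.mem_top x))) fun i => hc i _ ?_⟩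
  exact Nat.add_le_add_left (Finset.le_sup (Finset.mem_univ i)) _

theorem surjAt_of_notMem {H G : X.Modules} (a : H ⟶ G) (hH : Coh.IsQCoh H) (hG : Coh.IsQCoh G) {ξ : X} {W : X.Opens}
    (hW : IsAffineOpen W) (hξ : ξ ∈ W) (h : ξ ∉ CohB1.support (cokernel a)) : LeadDev.SurjAt ξ W a := by
  haveI : H.IsQuasicoherent := hH
  haveI : G.IsQuasicoherent := hG
  haveI : (cokernel a).IsQuasicoherent := H10Coh.isQuasicoherent_cokernel a
  haveI : (Abelian.image a).IsQuasicoherent := H10Coh.isQuasicoherent_kernel _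
  let e : cokernel a ≅ cokernel (Abelian.image.ι a) :=
    cokernelIsoOfEq (Abelian.image.fac a).symm ≪≫ cokernelEpiComp _ _
  have h2 : LeadDev.SurjAt ξ W (Abelian.image.ι a) :=
    LeadDev.surjAt_of_notMem_support _ inferInstance hG hW hξ
      fun hc => h (LeadDev.support_subset_of_iso e.symm hc)
  have h1 : LeadDev.SurjAt ξ W (Abelian.factorThruImage a) := fun y => by
    obtain ⟨x, hx⟩ := H10Coh.surjective_app_of_epi (Abelian.factorThruImage a) hW y
    exact ⟨1, x, LeadDev.unitAt_one hξ, by rw [hx, one_smul]⟩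
  have := h1.comp h2
  rwa [Abelian.image.fac] at this

/-- A morphism invertible off `V(I)` has a section on a power of `I`. -/
theorem exists_lift (I : X.IdealSheafData) {H G : X.Modules} (hH : Coh.IsCoh H) (hG : Coh.IsCoh G)
    (a : H ⟶ G) (U : X.Opens) (hU : (U : Set X) = (I.support : Set X)ᶜ)
    (ha : IsIso ((Scheme.Modules.restrictFunctor U.ι).map a)) :
    ∃ (n N : ℕ) (r : (Dual3.idealMul (I ^ N)).obj G ⟶ (Dual3.idealMul (I ^ n)).obj H),
      r ≫ Dual3.idealMulι (I ^ n) H ≫ a = Dual3.idealMulι (I ^ N) G := by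
  let F := Scheme.Modules.restrictFunctor U.ι
  have hk : IsZero (F.obj (kernel a)) := by
    haveI : PreservesLimit (parallelPair a 0) F := inferInstance
    exact (isZero_kernel_of_mono (F.map a)).of_iso (PreservesKernel.iso F a)
  have hcz : IsZero (F.obj (cokernel a)) :=
    (isZero_cokernel_of_epi (F.map a)).of_iso (PreservesCokernel.iso F a)
  obtain ⟨n, hn⟩ := exists_mono_comp I hH hG a (support_subset_of_isZero_restrict I U hU hk)
  let m := Dual3.idealMulι (I ^ n) H ≫ a
  haveI : Mono m := hn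
  have hHn : Coh.IsCoh ((Dual3.idealMul (I ^ n)).obj H) := LeadDev.isCoh_idealMul _ H hH
  have hQ : Coh.IsCoh (cokernel m) := H10Coh.isCoh_cokernel m hHn.1 hG
  have hQs : CohB1.support (cokernel m) ⊆ (I.support : Set X) := fun x hx => by
    by_contra hc
    obtain ⟨W, hW, hxW, -⟩ := exists_isAffineOpen_mem_and_subset (U := (⊤ : X.Opens)) (x := x) trivial
    have h1 : LeadDev.SurjAt x W (Dual3.idealMulι (I ^ n) H) := by
      refine LeadDev.surjAt_idealMulι (I ^ n) H hH ?_ ⟨W, hW⟩ hxW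
      rcases Nat.eq_zero_or_pos n with rfl | hn0
      · simp [Scheme.IdealSheafData.support_top]
      · rwa [Scheme.IdealSheafData.support_pow _ _ hn0.ne']
    exact LeadDev.notMem_support_cokernel m hHn.1 hG.1 hW hxW
      (h1.comp (surjAt_of_notMem a hH.1 hG.1 hW hxW fun hs =>
        hc (support_subset_of_isZero_restrict I U hU hcz hs))) hx
  obtain ⟨N, hN⟩ := exists_kills I (cokernel m) hQ hQs
  have h0 := idealMulι_comp_eq_zero (I ^ N) hG (cokernel.π m) hN
  exact ⟨n, N, Abelian.monoLift m _ h0, Abelian.monoLift_comp m _ h0⟩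

end Groth.Agent.H10Inj.IdealPow
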