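import Groth.Agent.H10Inj.Embed
import Groth.Agent.H4Inj.Essential
import Mathlib.RingTheory.Ideal.MinimalPrime.Noetherian

/-!
# Indecomposable injective modules on locally Noetherian schemes
-/

set_option autoImplicit false
set_option backward.isDefEq.respectTransparency false
set_option linter.style.haveILetI false

universe u

open CategoryTheory CategoryTheory.Limits AlgebraicGeometry TopologicalSpace Opposite InjHull

namespace Groth.Agent.H10Inj

open Groth.Agent.H06Mod Groth.Agent.H16Derived.KFlat.Stalk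

variable {X : Scheme.{u}}

/-- Near a generic point of its support a section is supported in the closure of that point. -/
theorem exists_generic [IsLocallyNoetherian X] (K : X.Modules) {U : X.Opens} (hU : IsAffineOpen U)
    (s : Γ(K, U)) (hs : s ≠ 0) :
    ∃ (x : X) (hx : x ∈ U) (V : X.Opens), x ∈ V ∧ K.presheaf.germ U x hx s ≠ 0 ∧
      ∀ (y : X) (hy : y ∈ U), y ∈ V → K.presheaf.germ U y hy s ≠ 0 → x ⤳ y := by
  classical
  haveI : IsNoetherianRing Γ(X, U) := IsLocallyNoetherian.component_noetherian ⟨U, hU⟩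
  let pt : PrimeSpectrum Γ(X, U) → X := fun p => hU.fromSpec p
  have hpt : ∀ p, pt p ∈ U := fun p =>
    hU.opensRange_fromSpec.le (Set.mem_range_self (f := hU.fromSpec) p)
  let Z : Set (PrimeSpectrum Γ(X, U)) := {p | K.presheaf.germ U (pt p) (hpt p) s ≠ 0}
  have hZ : IsClosed Z := by
    refine ⟨isOpen_iff_mem_nhds.2 fun p hp => ?_⟩
    have hp' : K.presheaf.germ U (pt p) (hpt p) s = K.presheaf.germ U (pt p) (hpt p) 0 := by
      rw [map_zero]; exact not_not.1 hp
    obtain ⟨W, hW, i₁, i₂, hW'⟩ := TopCat.Presheaf.germ_eq K.presheaf (pt p) (hpt p) (hpt p) _ _ hp'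
    refine Filter.mem_of_superset ((W.2.preimage hU.fromSpec.continuous).mem_nhds hW) fun q hq hne => hne ?_
    rw [← TopCat.Presheaf.germ_res_apply K.presheaf i₁ (pt q) hq s, hW',
      TopCat.Presheaf.germ_res_apply, map_zero]
  have hne : Z.Nonempty := by
    by_contra h
    refine hs (TopCat.Presheaf.section_ext (⟨_, K.isSheaf⟩ : TopCat.Sheaf Ab X) U s 0 fun y hy => ?_)
    obtain ⟨p, rfl⟩ : y ∈ Set.range hU.fromSpec := hU.opensRange_fromSpec.ge hy
    refine Eq.trans ?_ (map_zero _).symm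
    exact not_not.1 fun h' => h ⟨p, h'⟩
  let I := PrimeSpectrum.vanishingIdeal Z
  have hIZ : PrimeSpectrum.zeroLocus (I : Set Γ(X, U)) = Z :=
    (PrimeSpectrum.zeroLocus_vanishingIdeal_eq_closure Z).trans hZ.closure_eq
  obtain ⟨p₀, hp₀⟩ := hne
  obtain ⟨q, hq, -⟩ := Ideal.exists_minimalPrimes_le (I := I) (J := p₀.asIdeal)
    (show (I : Set Γ(X, U)) ⊆ p₀.asIdeal from hIZ.ge hp₀)
  let S := (Ideal.finite_minimalPrimes_of_isNoetherianRing _ I).toFinset.erase q
  have hex : ∀ m ∈ S, ∃ f, f ∈ m ∧ f ∉ q := fun m hm => by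
    obtain ⟨hmq, hm⟩ := Finset.mem_erase.1 hm
    exact Set.not_subset.1 fun h => hmq (le_antisymm h (hq.2 ((Set.Finite.mem_toFinset _).1 hm).1 h))
  choose! f hfm hfq using hex
  let F := ∏ m ∈ S, f m
  haveI := hq.1.1
  have hFq : F ∉ q := fun h => by
    obtain ⟨m, hm, hfm'⟩ := (Ideal.IsPrime.prod_mem_iff).1 h
    exact hfq m hm hfm'
  let η : PrimeSpectrum Γ(X, U) := ⟨q, hq.1.1⟩
  have hηZ : η ∈ Z := hIZ ▸ (show (I : Set Γ(X, U)) ⊆ η.asIdeal from hq.1.2)
  refine ⟨pt η, hpt η, X.basicOpen F, ?_, hηZ, fun y hy hyV hys => ?_⟩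
  · show η ∈ hU.fromSpec ⁻¹ᵁ X.basicOpen F
    rw [hU.fromSpec_preimage_basicOpen]
    exact hFq
  · obtain ⟨p, rfl⟩ : y ∈ Set.range hU.fromSpec := hU.opensRange_fromSpec.ge hy
    have hFp : F ∉ p.asIdeal := by
      have : p ∈ hU.fromSpec ⁻¹ᵁ X.basicOpen F := hyV
      rw [hU.fromSpec_preimage_basicOpen] at this
      exact this
    have hpZ : (I : Set Γ(X, U)) ⊆ p.asIdeal := hIZ.ge (show p ∈ Z from hys)
    obtain ⟨m, hm, hmp⟩ := Ideal.exists_minimalPrimes_le (I := I) (J := p.asIdeal) hpZ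
    have hmq : m = q := by
      by_contra h
      have hmS : m ∈ S := Finset.mem_erase.2 ⟨h, (Set.Finite.mem_toFinset _).2 hm⟩
      exact hFp (hmp (Ideal.mem_of_dvd _ (Finset.dvd_prod_of_mem f hmS) (hfm m hmS)))
    exact ((PrimeSpectrum.le_iff_specializes η p).1 (show q ≤ p.asIdeal from hmq ▸ hmp)).map
      hU.fromSpec.continuous

/-- Germs of the image of the map out of `j_! O_V` given by a section. -/
theorem stalk_hom_section (K : X.Modules) (V : X.Opens) (t : Γ(K, V.ι ''ᵁ ⊤)) (y : X)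
    (hy : y ∈ V.ι ''ᵁ ⊤) :
    let h := ((CxOX.extZeroAdj V.ι).homEquiv _ _).symm (homOfTop ((Scheme.Modules.restrictFunctor V.ι).obj K) t)
    (∀ v, ∃ r : X.presheaf.stalk y, stalkLin h y v = r • K.presheaf.germ _ y hy t) ∧
      ∃ v, stalkLin h y v = K.presheaf.germ _ y hy t := by
  intro h
  let adj := CxOX.extZeroAdj V.ι
  let rF := Scheme.Modules.restrictFunctor V.ι
  let M := CxOX.extZeroUnit V.ι
  let η := adj.unit.app (Coh.structureModule (V : Scheme.{u}))
  haveI : IsIso η := by haveI := isIso_extZero_unit' V.ι; infer_instance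
  have hc : η ≫ rF.map h = homOfTop (rF.obj K) t :=
    (adj.homEquiv_unit (f := h)).symm.trans (Equiv.apply_symm_apply _ _)
  obtain ⟨z, hz, rfl⟩ := hy
  have key : ∀ (W : (V : Scheme.{u}).Opens) (a : Γ(V, W)),
      h.app (V.ι ''ᵁ W) (η.app W a) = (V.ι.appIso W).inv a •
        (K.presheaf.map (homOfLE (Scheme.Hom.image_mono V.ι le_top : V.ι ''ᵁ W ≤ V.ι ''ᵁ ⊤)).op t) := fun W a => by
    have h1 := congr($(congrArg (fun φ => Scheme.Modules.Hom.app φ W) hc) a)
    refine h1.trans ?_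
    refine (app_unit (homOfTop (rF.obj K) t) W a).trans ?_
    rw [homOfTop_app]
    rfl
  refine ⟨fun v => ?_, ?_⟩
  · obtain ⟨W₀, hW₀, c, rfl⟩ := M.presheaf.exists_germ_eq v
    let W : (V : Scheme.{u}).Opens := V.ι ⁻¹ᵁ W₀
    have hle : V.ι ''ᵁ W ≤ W₀ := by rintro _ ⟨w, hw, rfl⟩; exact hw
    let c' : Γ(rF.obj M, W) := M.presheaf.map (homOfLE hle).op c
    let a : Γ(V, W) := (inv η).app W c'
    have ha : η.app W a = c' := congr($(congrArg (fun φ => Scheme.Modules.Hom.app φ W) (IsIso.inv_hom_id η)) c')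
    have hzW : V.ι z ∈ V.ι ''ᵁ W := ⟨z, hW₀, rfl⟩
    refine ⟨X.presheaf.germ (V.ι ''ᵁ W) (V.ι z) hzW ((V.ι.appIso W).inv a), ?_⟩
    refine (congrArg (stalkLin h (V.ι z))
      (TopCat.Presheaf.germ_res_apply M.presheaf (homOfLE hle) (V.ι z) hzW c).symm).trans ?_
    rw [stalkLin_germ, show M.presheaf.map (homOfLE hle).op c = c' from rfl, ← ha, key, germ_smul',
      TopCat.Presheaf.germ_res_apply]
    rfl
  · refine ⟨M.presheaf.germ (V.ι ''ᵁ ⊤) (V.ι z) ⟨z, hz, rfl⟩ (η.app ⊤ (1 : Γ(V, ⊤))), ?_⟩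
    refine (stalkLin_germ h (V.ι z) (V.ι ''ᵁ ⊤) ⟨z, hz, rfl⟩ _).trans ?_
    rw [key, map_one, one_smul, TopCat.Presheaf.germ_res_apply]
    rfl

/-- Every nonzero module has a map from a small submodule to a skyscraper, and injective modules contain
indecomposable skyscrapers. -/
theorem exists_mono_sky [IsLocallyNoetherian X] (K : X.Modules) [Injective K] (hK : ¬ IsZero K) :
    ∃ (x : X) (E : Type u) (_ : AddCommGroup E) (_ : Module (X.presheaf.stalk x) E)
      (φ : sky x E ⟶ K), Mono φ ∧ IsIndecomposable (X.presheaf.stalk x) E ∧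
        Module.Injective (X.presheaf.stalk x) E := by
  classical
  obtain ⟨⟨U, hU⟩, s, hs⟩ : ∃ (U : X.affineOpens) (s : Γ(K, U.1)), s ≠ 0 := by
    by_contra h
    push Not at h
    refine hK ((IsZero.iff_id_eq_zero _).2 (Scheme.Modules.hom_ext _ _ fun D => AddCommGrpCat.hom_ext
      (AddMonoidHom.ext fun a => ?_)))
    refine TopCat.Presheaf.section_ext (⟨_, K.isSheaf⟩ : TopCat.Sheaf Ab X) D a 0 fun y hy => ?_
    obtain ⟨W, hW, hyW, hWD⟩ := exists_isAffineOpen_mem_and_subset (x := y) (U := D) hy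
    refine (TopCat.Presheaf.germ_res_apply K.presheaf (homOfLE hWD) y hyW a).symm.trans ?_
    exact (congrArg (K.presheaf.germ W y hyW) (h ⟨W, hW⟩ _)).trans ((map_zero _).trans (map_zero _).symm)
  obtain ⟨x, hxU, V₀, hxV₀, hsx, hgen⟩ := exists_generic K hU s hs
  haveI : IsNoetherianRing Γ(X, U) := IsLocallyNoetherian.component_noetherian ⟨U, hU⟩
  let A := X.presheaf.stalk x
  -- an element with prime annihilator
  let N₀ := Submodule.span A {K.presheaf.germ U x hxU s}
  haveI : Nontrivial N₀ := ⟨⟨⟨_, Submodule.mem_span_singleton_self _⟩, 0, fun h => hsx (congrArg Subtype.val h)⟩⟩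
  obtain ⟨p, hp, f₀, hf₀⟩ := H4Inj.exists_isAssociatedPrime_embedding (R := A) (E := N₀)
  obtain ⟨r, hr⟩ := Submodule.mem_span_singleton.1 (f₀ (Ideal.Quotient.mk p 1)).2
  letI := TopCat.Presheaf.algebra_section_stalk X.presheaf (⟨x, hxU⟩ : U)
  haveI hlocx := hU.isLocalization_stalk ⟨x, hxU⟩
  obtain ⟨⟨b, c⟩, hbc⟩ := IsLocalization.surj (hU.primeIdealOf ⟨x, hxU⟩).asIdeal.primeCompl r
  let t : Γ(K, U) := b • s
  have hcu : IsUnit (X.presheaf.germ U x hxU (c : Γ(X, U))) :=
    IsLocalization.map_units (X.presheaf.stalk x) c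
  have htx : K.presheaf.germ U x hxU t =
      X.presheaf.germ U x hxU (c : Γ(X, U)) • (f₀ (Ideal.Quotient.mk p 1)).1 := by
    rw [← hr, germ_smul', smul_smul]
    exact congrArg (· • _) ((show _ = X.presheaf.germ U x hxU b from hbc).symm.trans (mul_comm _ _))
  have hann : ∀ a : A, a • K.presheaf.germ U x hxU t = 0 ↔ a ∈ p := fun a => by
    rw [htx, smul_comm, hcu.smul_eq_zero, ← Ideal.Quotient.eq_zero_iff_mem, ← f₀.map_eq_zero_iff hf₀,
      ← Submodule.coe_smul, Submodule.coe_eq_zero, ← map_smul]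
    show f₀ _ = 0 ↔ f₀ _ = 0
    rw [show a • Ideal.Quotient.mk p 1 = Ideal.Quotient.mk p a from by
      show Ideal.Quotient.mk p (a * 1) = _; rw [mul_one]]
  -- shrink
  let P : Ideal Γ(X, U) :=
    { carrier := {a | K.presheaf.germ U x hxU (a • t) = 0}
      zero_mem' := by
        show K.presheaf.germ U x hxU ((0 : Γ(X, U)) • t) = 0
        rw [zero_smul, map_zero]
      add_mem' := fun {a b} (ha : _ = _) (hb : _ = _) => by
        show K.presheaf.germ U x hxU ((a + b) • t) = 0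
        rw [add_smul, map_add, ha, hb, add_zero]
      smul_mem' := fun a b (hb : _ = _) => by
        show K.presheaf.germ U x hxU ((a * b) • t) = 0
        rw [mul_smul, germ_smul', hb, smul_zero] }
  obtain ⟨n, g₀, hg₀⟩ := Submodule.fg_iff_exists_fin_generating_family.1 (IsNoetherian.noetherian P)
  have hg₀0 : ∀ i, K.presheaf.germ U x hxU (g₀ i • t) = K.presheaf.germ U x hxU 0 := fun i => by
    rw [map_zero]
    exact (show g₀ i ∈ P from hg₀ ▸ Submodule.subset_span (Set.mem_range_self i))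
  choose W hxW i₁ i₂ hW using fun i => TopCat.Presheaf.germ_eq K.presheaf x hxU hxU _ _ (hg₀0 i)
  let V : X.Opens :=
    ⟨((U : Set X) ∩ V₀) ∩ ⋂ i, (W i : Set X), (U.2.inter V₀.2).inter (isOpen_iInter_of_finite fun i => (W i).2)⟩
  have hxV : x ∈ V := ⟨⟨hxU, hxV₀⟩, Set.mem_iInter.2 hxW⟩
  have hVU : V.ι ''ᵁ ⊤ ≤ U := V.ι_image_top.le.trans fun y hy => hy.1.1
  have hP : ∀ a ∈ P, ∀ (y : X) (hy : y ∈ U), y ∈ V → K.presheaf.germ U y hy (a • t) = 0 := by
    intro a ha y hy hyV
    rw [← hg₀] at ha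
    induction ha using Submodule.span_induction with
    | mem a ha =>
      obtain ⟨i, rfl⟩ := ha
      rw [← TopCat.Presheaf.germ_res_apply K.presheaf (i₁ i) y (Set.mem_iInter.1 hyV.2 i), hW i,
        TopCat.Presheaf.germ_res_apply, map_zero]
    | zero => rw [zero_smul, map_zero]
    | add a b _ _ ha hb => rw [add_smul, map_add, ha, hb, add_zero]
    | smul a b _ hb => rw [smul_eq_mul, mul_smul, germ_smul', hb, smul_zero]
  let t' : Γ(K, V.ι ''ᵁ ⊤) := K.presheaf.map (homOfLE hVU).op t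
  let h := ((CxOX.extZeroAdj V.ι).homEquiv _ _).symm (homOfTop ((Scheme.Modules.restrictFunctor V.ι).obj K) t')
  have hgt : ∀ (y : X) (hy : y ∈ V.ι ''ᵁ ⊤), K.presheaf.germ (V.ι ''ᵁ ⊤) y hy t' =
      K.presheaf.germ U y (hVU hy) t := fun y hy => TopCat.Presheaf.germ_res_apply K.presheaf _ y hy t
  let G := image h
  let im := stalkLin (image.ι h) x
  let S := DerSch.stalkFunctor X x
  have him : ∀ y : X, Function.Injective (stalkLin (image.ι h) y) := fun y =>
    (ModuleCat.mono_iff_injective ((DerSch.stalkFunctor X y).map (image.ι h))).1 inferInstance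
  have hrange : ∀ (y : X) (hy : y ∈ V.ι ''ᵁ ⊤) (v : G.presheaf.stalk y), ∃ r : X.presheaf.stalk y,
      stalkLin (image.ι h) y v = r • K.presheaf.germ U y (hVU hy) t := fun y hy v => by
    obtain ⟨w, rfl⟩ := (ModuleCat.epi_iff_surjective ((DerSch.stalkFunctor X y).map (factorThruImage h))).1
      inferInstance v
    obtain ⟨r, hr⟩ := (stalk_hom_section K V t' y hy).1 w
    exact ⟨r, (congr($((DerSch.stalkFunctor X y).map_comp (factorThruImage h) (image.ι h)) w)).symm.trans
      ((congr((DerSch.stalkFunctor X y).map $(image.fac h) w)).trans (hr.trans (by rw [hgt])))⟩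
  have hxV' : x ∈ V.ι ''ᵁ ⊤ := V.ι_image_top.ge hxV
  -- the hull
  obtain ⟨E, _, _, e, he⟩ := H4Inj.exists_isInjectiveHull (R := A) (A ⧸ p)
  haveI := hp
  let τ : (A ⧸ p) →ₗ[A] K.presheaf.stalk x :=
    Submodule.liftQ p (LinearMap.toSpanSingleton A _ (K.presheaf.germ U x hxU t)) fun a ha => (hann a).2 ha
  have hτ : Function.Injective τ := (injective_iff_map_eq_zero _).2 fun a ha => by
    obtain ⟨a, rfl⟩ := Ideal.Quotient.mk_surjective a
    exact Ideal.Quotient.eq_zero_iff_mem.2 ((hann a).1 ha)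
  obtain ⟨θ, hθ⟩ := he.isInjective.out τ hτ e
  let ψ : G.presheaf.stalk x →ₗ[A] E := θ ∘ₗ im
  let g : G ⟶ sky x E := homOfStalk ψ
  have hψ : ∀ v, ψ v = 0 → v = 0 := fun v hv => by
    obtain ⟨r, hr⟩ := hrange x hxV' v
    have h1 : τ (Ideal.Quotient.mk p r) = im v := hr.symm
    have h2 : e (Ideal.Quotient.mk p r) = 0 := by
      rw [← hθ, h1]; exact hv
    have h3 : Ideal.Quotient.mk p r = 0 := he.injective (h2.trans (map_zero e).symm)
    refine him x ?_
    rw [map_zero, show stalkLin (image.ι h) x v = τ (Ideal.Quotient.mk p r) from h1.symm, h3, map_zero]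
  haveI : Mono g := by
    refine Preadditive.mono_of_cancel_zero _ fun {Z} k hk => Scheme.Modules.hom_ext _ _ fun D =>
      AddCommGrpCat.hom_ext (AddMonoidHom.ext fun z => ?_)
    let n : Γ(G, D) := k.app D z
    have hn : g.app D n = 0 := congr($(congrArg (fun φ => Scheme.Modules.Hom.app φ D) hk) z)
    refine TopCat.Presheaf.section_ext (⟨_, G.isSheaf⟩ : TopCat.Sheaf Ab X) D n 0 fun y hy => ?_
    refine Eq.trans ?_ (map_zero _).symm
    show G.presheaf.germ D y hy n = 0
    by_cases hyV : y ∈ V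
    swap
    · have hz : IsZero ((DerSch.stalkFunctor X y).obj G) :=
        IsZero.of_epi ((DerSch.stalkFunctor X y).map (factorThruImage h))
          (isZero_stalk_extZero V.ι _ y fun ⟨w, hw⟩ => hyV (hw ▸ w.2))
      exact @Subsingleton.elim _ (ModuleCat.subsingleton_of_isZero hz) _ _
    refine him y ?_
    rw [map_zero]
    have hy' : y ∈ V.ι ''ᵁ ⊤ := V.ι_image_top.ge hyV
    obtain ⟨r, hr⟩ := hrange y hy' (G.presheaf.germ D y hy n)
    rw [hr]
    by_cases hty : K.presheaf.germ U y (hVU hy') t = 0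
    · rw [hty, smul_zero]
    have hsy : K.presheaf.germ U y (hVU hy') s ≠ 0 := fun h0 => hty (by rw [germ_smul', h0, smul_zero])
    have hspec : x ⤳ y := hgen y (hVU hy') hyV.1.2 hsy
    have hxD : x ∈ D := hspec.mem_open D.2 hy
    have hn0 : G.presheaf.germ D x hxD n = 0 := by
      refine hψ _ ?_
      rw [← skyEval_homOfStalk ψ D hxD n, hn, map_zero]
    letI := TopCat.Presheaf.algebra_section_stalk X.presheaf (⟨y, hVU hy'⟩ : U)
    haveI := hU.isLocalization_stalk ⟨y, hVU hy'⟩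
    obtain ⟨⟨a, c'⟩, hac⟩ := IsLocalization.surj (hU.primeIdealOf ⟨y, hVU hy'⟩).asIdeal.primeCompl r
    have hcu' : IsUnit (X.presheaf.germ U y (hVU hy') (c' : Γ(X, U))) :=
      IsLocalization.map_units (X.presheaf.stalk y) c'
    refine hcu'.smul_eq_zero.1 ?_
    rw [smul_smul, mul_comm, show r * X.presheaf.germ U y (hVU hy') (c' : Γ(X, U)) =
      X.presheaf.germ U y (hVU hy') a from hac, ← germ_smul']
    refine hP a ?_ y (hVU hy') hyV
    show K.presheaf.germ U x hxU (a • t) = 0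
    -- sections agreeing near `y` agree at its generalization `x`
    have heq : K.presheaf.germ U y (hVU hy') (a • t) =
        K.presheaf.germ (U ⊓ D) y ⟨hVU hy', hy⟩ (X.presheaf.map (homOfLE (inf_le_left : U ⊓ D ≤ U)).op (c' : Γ(X, U)) •
          K.presheaf.map (homOfLE (inf_le_right : U ⊓ D ≤ D)).op ((image.ι h).app D n)) := by
      refine (germ_smul' K (hVU hy') a t).trans (Eq.trans ?_ (germ_smul' K (show y ∈ U ⊓ D from ⟨hVU hy', hy⟩) _ _).symm)
      rw [TopCat.Presheaf.germ_res_apply, TopCat.Presheaf.germ_res_apply,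
        ← stalkLin_germ (image.ι h) y D hy n, hr, smul_smul, mul_comm]
      exact congrArg (· • _) hac.symm
    obtain ⟨O, hyO, j₁, j₂, hO⟩ := TopCat.Presheaf.germ_eq K.presheaf y (hVU hy') (show y ∈ U ⊓ D from ⟨hVU hy', hy⟩) _ _ heq
    have hxO : x ∈ O := hspec.mem_open O.2 hyO
    rw [← TopCat.Presheaf.germ_res_apply K.presheaf j₁ x hxO, hO, TopCat.Presheaf.germ_res_apply, germ_smul',
      TopCat.Presheaf.germ_res_apply K.presheaf (homOfLE (inf_le_right : U ⊓ D ≤ D)) x ⟨hxU, hxD⟩,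
      ← stalkLin_germ (image.ι h) x D hxD n, hn0, map_zero, smul_zero]
  let φ := Injective.factorThru (image.ι h) g
  refine ⟨x, E, inferInstance, inferInstance, φ, ?_,
    H4Inj.isIndecomposable_hull_quotient_prime p he, he.isInjective⟩
  have hnat : ∀ (O : X.Opens) (w : Γ(sky x E, ⊤)), K.presheaf.map (homOfLE (le_top : O ≤ ⊤)).op (φ.app ⊤ w) =
      φ.app O ((sky x E).presheaf.map (homOfLE le_top).op w) := fun O w =>
    (congr($(φ.mapPresheaf.naturality (homOfLE (le_top : O ≤ ⊤)).op) w)).symm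
  -- the constant sections
  let ε : E →ₗ[A] K.presheaf.stalk x :=
    { toFun := fun v => K.presheaf.germ ⊤ x trivial (φ.app ⊤ ((fun _ => v) : Γ(sky x E, ⊤)))
      map_add' := fun a b => by
        rw [show ((fun _ => a + b) : Γ(sky x E, ⊤)) = ((fun _ => a) : Γ(sky x E, ⊤)) + (fun _ => b) from rfl,
          map_add, map_add]
      map_smul' := fun r v => by
        obtain ⟨O, hxO, r, rfl⟩ := X.presheaf.exists_germ_eq r
        rw [RingHom.id_apply, ← TopCat.Presheaf.germ_res_apply K.presheaf (homOfLE le_top) x hxO,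
          ← TopCat.Presheaf.germ_res_apply K.presheaf (homOfLE (le_top : O ≤ ⊤)) x hxO
            (φ.app ⊤ ((fun _ => v) : Γ(sky x E, ⊤))), ← germ_smul']
        refine congrArg _ ?_
        rw [hnat, hnat, ← Scheme.Modules.Hom.app_smul]
        refine congrArg _ ?_
        exact skyEval_ext (x := x) (N := E) fun hx => rfl }
  have hεψ : ∀ v, ε (ψ v) = im v := fun v => by
    obtain ⟨O, hxO, m, rfl⟩ := G.presheaf.exists_germ_eq v
    refine ((TopCat.Presheaf.germ_res_apply K.presheaf (homOfLE (le_top : O ≤ ⊤)) x hxO _).symm).trans ?_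
    refine Eq.trans ?_ (stalkLin_germ (image.ι h) x O hxO m).symm
    refine congrArg _ ((hnat O _).trans ?_)
    refine Eq.trans ?_ (congr($(congrArg (fun χ => Scheme.Modules.Hom.app χ O)
      (Injective.comp_factorThru (image.ι h) g)) m))
    refine congrArg (φ.app O) ?_
    exact skyEval_ext (x := x) (N := E) fun hx => rfl
  have hεinj : Function.Injective ε := by
    refine LinearMap.ker_eq_bot.1 ?_
    by_contra hne
    obtain ⟨v, ⟨hv, q, rfl⟩, hv0⟩ := Submodule.exists_mem_ne_zero_of_ne_bot (he.essential _ hne)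
    obtain ⟨q, rfl⟩ := Ideal.Quotient.mk_surjective q
    obtain ⟨w, hw⟩ : ∃ w, im w = τ (Ideal.Quotient.mk p q) := by
      obtain ⟨w, hw⟩ := (stalk_hom_section K V t' x hxV').2
      refine ⟨q • stalkLin (factorThruImage h) x w, ?_⟩
      rw [map_smul]
      show q • _ = q • K.presheaf.germ U x hxU t
      refine congrArg (q • ·) ?_
      exact (congr($((DerSch.stalkFunctor X x).map_comp (factorThruImage h) (image.ι h)) w)).symm.trans
        ((congr((DerSch.stalkFunctor X x).map $(image.fac h) w)).trans (hw.trans (hgt x hxV')))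
    have hew : ψ w = e (Ideal.Quotient.mk p q) := by
      show θ (im w) = _
      rw [hw, hθ]
    have him0 : im w = 0 := by rw [← hεψ, hew]; exact hv
    exact hv0 (by rw [← hew]; show θ (im w) = 0; rw [him0, map_zero])
  refine Preadditive.mono_of_cancel_zero _ fun {Z} k hk => Scheme.Modules.hom_ext _ _ fun D =>
    AddCommGrpCat.hom_ext (AddMonoidHom.ext fun z => ?_)
  refine skyEval_ext (x := x) (N := E) (g' := 0) fun hxD => ?_
  let v := skyEval x E D hxD (k.app D z)
  have hres : (sky x E).presheaf.map (homOfLE (le_top : D ≤ ⊤)).op ((fun _ => v) : Γ(sky x E, ⊤)) = k.app D z :=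
    skyEval_ext (x := x) (N := E) fun _ => rfl
  rw [map_zero]
  refine (injective_iff_map_eq_zero ε).1 hεinj v ?_
  refine (TopCat.Presheaf.germ_res_apply K.presheaf (homOfLE (le_top : D ≤ ⊤)) x hxD _).symm.trans ?_
  refine (congrArg _ (hnat D ((fun _ => v) : Γ(sky x E, ⊤)))).trans ?_
  rw [hres, show φ.app D (k.app D z) = 0 from congr($(congrArg (fun χ => Scheme.Modules.Hom.app χ D) hk) z),
    map_zero]

end Groth.Agent.H10Inj
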