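import Groth.Agent.H10Inj.Detecting
import Groth.Agent.H16Derived.QCohD.MV

/-!
# Injectivity of modules on a scheme is local
-/

set_option autoImplicit false

universe u

open CategoryTheory CategoryTheory.Limits AlgebraicGeometry

namespace Groth.Agent.H10Inj

open Groth.Agent.H16Derived.QCohD Groth.Agent.H16Derived.KFlat.Stalk Groth.Agent.H06Mod

variable {X : Scheme.{u}}

/-- The modules supported in an open on which `F` is injective. -/
def supportedIn (F : X.Modules) : ObjectProperty X.Modules := fun Z =>
  ∃ U : X.Opens, Injective ((Scheme.Modules.restrictFunctor U.ι).obj F) ∧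
    ∀ x : X, x ∉ U → IsZero ((DerSch.stalkFunctor X x).obj Z)

theorem isDetecting_supportedIn (F : X.Modules)
    (hF : ∀ x : X, ∃ U : X.Opens, x ∈ U ∧ Injective ((Scheme.Modules.restrictFunctor U.ι).obj F)) :
    (supportedIn F).IsDetecting := by
  intro A B p hp
  refine isIso_of_stalk p fun x => ?_
  obtain ⟨U, hxU, hU⟩ := hF x
  have hP : ∀ M : X.Modules, supportedIn F ((MV.E U).obj M) := fun M =>
    ⟨U, hU, fun y hy => MV.isZero_stalk_E U M y hy⟩
  let S := DerSch.stalkFunctor X x
  have : Epi (S.map p) := by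
    obtain ⟨a, ha, -⟩ := hp _ (hP B) ((MV.ε U).app B)
    have := MV.isIso_stalk_ε U B x hxU
    exact epi_of_epi_fac ((S.map_comp a p).symm.trans (congrArg S.map ha))
  have : Mono (S.map p) := by
    obtain ⟨z, -, huniq⟩ := hp _ (hP (kernel p)) 0
    have h1 : (MV.ε U).app (kernel p) ≫ kernel.ι p = 0 :=
      (huniq _ (by show (_ ≫ _) ≫ p = 0; rw [Category.assoc, kernel.condition, comp_zero])).trans (huniq 0 zero_comp).symm
    have := MV.isIso_stalk_ε U (kernel p) x hxU
    have h2 : S.map (kernel.ι p) = 0 := by
      rw [← cancel_epi (S.map ((MV.ε U).app (kernel p))), comp_zero]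
      exact (S.map_comp _ _).symm.trans ((congrArg S.map h1).trans (S.map_zero _ _))
    exact Preadditive.mono_of_kernel_zero (f := S.map p) (by
      rw [← PreservesKernel.iso_inv_ι, h2, comp_zero])
  exact isIso_of_mono_of_epi _

/-- A module which is injective on the members of an open covering is injective. -/
theorem injective_of_locally (F : X.Modules)
    (hF : ∀ x : X, ∃ U : X.Opens, x ∈ U ∧ Injective ((Scheme.Modules.restrictFunctor U.ι).obj F)) :
    Injective F := by
  refine injective_of_detecting.{u} (isDetecting_supportedIn F hF) F fun S Z i _ hZ g => ?_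
  obtain ⟨U, hU, hzero⟩ := hZ
  let r := Scheme.Modules.restrictFunctor U.ι
  have hε : ∀ M : X.Modules, (∀ x : X, x ∉ U → IsZero ((DerSch.stalkFunctor X x).obj M)) →
      IsIso ((MV.ε U).app M) := fun M hM => isIso_of_stalk _ fun x => by
    by_cases hx : x ∈ U
    · exact MV.isIso_stalk_ε U M x hx
    · exact isIso_of_source_target_iso_zero _ (MV.isZero_stalk_E U M x hx).isoZero (hM x hx).isoZero
  have := hε Z hzero
  have := hε S fun x hx => (hzero x hx).of_mono ((DerSch.stalkFunctor X x).map i)
  let adj := CxOX.extZeroAdj U.ι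
  let e' : r.obj Z ⟶ r.obj F := Injective.factorThru (r.map g) (r.map i)
  refine ⟨inv ((MV.ε U).app Z) ≫ (adj.homEquiv _ _).symm e', ?_⟩
  rw [← cancel_epi ((MV.ε U).app S), ← Category.assoc,
    ← show (MV.E U).map i ≫ (MV.ε U).app Z = (MV.ε U).app S ≫ i from (MV.ε U).naturality i,
    Category.assoc, IsIso.hom_inv_id_assoc]
  change (CxOX.extZero U.ι).map (r.map i) ≫ (adj.homEquiv _ _).symm e' = adj.counit.app S ≫ g
  rw [← Adjunction.homEquiv_naturality_left_symm, Injective.comp_factorThru, Adjunction.homEquiv_counit]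
  exact adj.counit.naturality g

end Groth.Agent.H10Inj
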