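import Groth.Agent.H4Inj.Decompose
import Groth.Agent.H4Inj.Indecomposable
import Mathlib.RingTheory.Flat.Localization
import Mathlib.RingTheory.Localization.AtPrime.Basic
import Mathlib.RingTheory.TensorProduct.Maps

/-!
# Injectivity and localization
-/

set_option autoImplicit false
set_option linter.style.haveILetI false

universe u

open TensorProduct InjHull

namespace Groth.Agent.H10Inj

/-- Injectivity is transported along semilinear equivalences. -/
theorem injective_of_semilinear {R S M N : Type u} [CommRing R] [CommRing S] [AddCommGroup M]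
    [Module R M] [AddCommGroup N] [Module S N] (σ : R ≃+* S) (e : M ≃+ N)
    (he : ∀ (r : R) (m : M), e (r • m) = σ r • e m) (h : Module.Injective S N) :
    Module.Injective R M := by
  refine Module.Baer.injective fun J φ => ?_
  let J' : Ideal S := J.comap σ.symm.toRingHom
  let φ' : J' →ₗ[S] N :=
    { toFun := fun y => e (φ ⟨σ.symm y.1, y.2⟩)
      map_add' := fun a b => by
        rw [← map_add, ← map_add]; congr 2; exact Subtype.ext (map_add σ.symm a.1 b.1)
      map_smul' := fun r a => by
        have h1 : (⟨σ.symm (r • a).1, (r • a).2⟩ : J) = σ.symm r • ⟨σ.symm a.1, a.2⟩ :=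
          Subtype.ext (map_mul σ.symm r a.1)
        rw [h1, map_smul, he, σ.apply_symm_apply, RingHom.id_apply] }
  obtain ⟨G, hG⟩ := Module.Baer.of_injective h J' φ'
  refine ⟨LinearMap.toSpanSingleton R M (e.symm (G 1)), fun y hy => e.injective ?_⟩
  rw [LinearMap.toSpanSingleton_apply, he, e.apply_symm_apply, ← map_smul, smul_eq_mul, mul_one,
    hG _ (show σ y ∈ J' by simpa [J'] using hy)]
  show e (φ ⟨σ.symm (σ y), _⟩) = _
  congr 2
  exact Subtype.ext (σ.symm_apply_apply y)

variable {R : Type u} [CommRing R] {A : Type u} [CommRing A] [Algebra R A]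
  {N : Type u} [AddCommGroup N] [Module R N] [Module A N] [IsScalarTower R A N]

/-- An injective module over a flat algebra is injective over the base. -/
theorem injective_of_flat [Module.Flat R A] (h : Module.Injective A N) : Module.Injective R N := by
  refine Module.Baer.injective fun J g => ?_
  let i : A ⊗[R] J →ₗ[A] A ⊗[R] R := J.subtype.baseChange A
  have hi : Function.Injective i := Module.Flat.lTensor_preserves_injective_linearMap J.subtype J.injective_subtype
  obtain ⟨k, hk⟩ := h.out i hi (LinearMap.liftBaseChange A g)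
  refine ⟨(k.restrictScalars R).comp (TensorProduct.mk R A R 1), fun y hy => ?_⟩
  have h1 := hk (1 ⊗ₜ (⟨y, hy⟩ : J))
  simp only [i, LinearMap.baseChange_tmul, LinearMap.liftBaseChange_tmul, one_smul] at h1
  exact h1

/-- A module over a localization which is injective over the base is injective. -/
theorem injective_of_isLocalization (S : Submonoid R) [IsLocalization S A] (h : Module.Injective R N) :
    Module.Injective A N := by
  refine Module.Baer.injective fun J φ => ?_
  let J₀ : Submodule R R := J.comap (algebraMap R A)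
  let g : J₀ →ₗ[R] N :=
    { toFun := fun y => φ ⟨algebraMap R A y.1, y.2⟩
      map_add' := fun a b => by rw [← map_add]; congr 1; exact Subtype.ext (map_add _ a.1 b.1)
      map_smul' := fun r a => by
        rw [RingHom.id_apply, ← algebraMap_smul A r (φ _), ← map_smul]
        congr 1
        exact Subtype.ext (map_mul (algebraMap R A) r a.1) }
  obtain ⟨G, hG⟩ := Module.Baer.of_injective h J₀ g
  refine ⟨LinearMap.toSpanSingleton A N (G 1), fun y hy => ?_⟩
  obtain ⟨⟨a, s⟩, has⟩ := IsLocalization.surj S y
  have ha : a ∈ J₀ := by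
    show algebraMap R A a ∈ J
    rw [← has]; exact J.mul_mem_right _ hy
  have hu : IsUnit (algebraMap R A s) := IsLocalization.map_units A s
  refine hu.smul_left_cancel.1 ?_
  rw [LinearMap.toSpanSingleton_apply, smul_smul, mul_comm, has, algebraMap_smul, ← map_smul, smul_eq_mul,
    mul_one, hG a ha, ← map_smul]
  show φ _ = φ _
  congr 1
  refine Subtype.ext ?_
  show algebraMap R A a = algebraMap R A s * y
  rw [mul_comm, has]

/-- Over a Noetherian ring a module with injective localizations at all primes is injective. -/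
theorem injective_of_localized [IsNoetherianRing R] {M : Type u} [AddCommGroup M] [Module R M]
    (h : ∀ p : PrimeSpectrum R, ∃ (L : Type u) (_ : AddCommGroup L) (_ : Module R L) (l : M →ₗ[R] L),
      IsLocalizedModule p.asIdeal.primeCompl l ∧ Module.Injective R L) :
    Module.Injective R M := by
  classical
  refine Module.Baer.injective fun J g => ?_
  let I : Ideal R :=
    { carrier := {r | ∃ m : M, ∀ y : J, y.1 • m = r • g y}
      zero_mem' := ⟨0, fun y => by simp⟩
      add_mem' := by
        rintro a b ⟨m, hm⟩ ⟨n, hn⟩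
        exact ⟨m + n, fun y => by rw [smul_add, hm, hn, add_smul]⟩
      smul_mem' := by
        rintro c a ⟨m, hm⟩
        exact ⟨c • m, fun y => by rw [smul_comm, hm, smul_eq_mul, mul_smul]⟩ }
  suffices hI : I = ⊤ by
    obtain ⟨m, hm⟩ := (Ideal.eq_top_iff_one I).1 hI
    exact ⟨LinearMap.toSpanSingleton R M m, fun y hy => by simpa using hm ⟨y, hy⟩⟩
  by_contra hne
  obtain ⟨P, hP, hIP⟩ := Ideal.exists_le_maximal I hne
  obtain ⟨L, _, _, l, hl, hL⟩ := h ⟨P, hP.isPrime⟩
  obtain ⟨G, hG⟩ := Module.Baer.of_injective hL J (l ∘ₗ g)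
  obtain ⟨⟨m, s⟩, hms⟩ := IsLocalizedModule.surj P.primeCompl l (G 1)
  obtain ⟨n, a, ha⟩ := Submodule.fg_iff_exists_fin_generating_family.1 (IsNoetherian.noetherian J)
  have haJ : ∀ i, a i ∈ J := fun i => ha ▸ Submodule.subset_span (Set.mem_range_self i)
  have hex : ∀ i, ∃ t : P.primeCompl, t • (a i • m) = t • ((s : R) • g ⟨a i, haJ i⟩) := fun i => by
    refine (IsLocalizedModule.eq_iff_exists P.primeCompl l).1 ?_
    rw [map_smul, map_smul, ← hms, ← Submonoid.smul_def, smul_comm, ← map_smul G, smul_eq_mul, mul_one,
      hG _ (haJ i)]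
    rfl
  choose t ht using hex
  let T : P.primeCompl := ∏ i, t i
  have hmem : ((T : R) * s) ∈ I := by
    refine ⟨(T : R) • m, fun y => ?_⟩
    have hy : y.1 ∈ Submodule.span R (Set.range a) := ha.symm ▸ y.2
    obtain ⟨c, hc⟩ := (Submodule.mem_span_range_iff_exists_fun R).1 hy
    have hye : y = ∑ i, c i • (⟨a i, haJ i⟩ : J) := Subtype.ext (by simp [← hc])
    conv_lhs => rw [← hc]
    conv_rhs => rw [hye, map_sum]
    rw [Finset.sum_smul, Finset.smul_sum]
    refine Finset.sum_congr rfl fun i _ => ?_
    obtain ⟨d, hd⟩ : (t i : R) ∣ T := by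
      rw [Submonoid.coe_finsetProd]
      exact Finset.dvd_prod_of_mem _ (Finset.mem_univ i)
    have := congrArg (fun z => (c i * d) • z) (ht i)
    simp only [Submonoid.smul_def, smul_smul] at this
    rw [map_smul, smul_eq_mul, hd, smul_smul, smul_smul]
    convert this using 2 <;> ring
  exact (P.primeCompl.mul_mem T.2 s.2) (hIP hmem)

section Indecomposable

variable [IsNoetherianRing R] {E : Type u} [AddCommGroup E] [Module R E]

omit [IsNoetherianRing R] in
/-- A nonzero injective submodule of an indecomposable module is everything. -/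
theorem eq_top_of_indecomposable (hE : IsIndecomposable R E) (T : Submodule R E)
    (hT : Module.Injective R T) (hne : T ≠ ⊥) : T = ⊤ := by
  obtain ⟨r, hr⟩ := hT.out T.subtype T.injective_subtype LinearMap.id
  have hc : IsCompl T (LinearMap.ker r) := LinearMap.isCompl_of_proj hr
  rcases hE.2 _ _ hc with h | h
  · exact absurd h hne
  · exact eq_top_of_isCompl_bot (h ▸ hc)

/-- The prime of an indecomposable injective: its elements act locally nilpotently, the others bijectively. -/
theorem exists_prime_local_action (hE : IsIndecomposable R E) (hinj : Module.Injective R E) :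
    ∃ p : PrimeSpectrum R, (∀ r ∈ p.asIdeal, ∀ e : E, ∃ n : ℕ, r ^ n • e = 0) ∧
      ∀ r ∉ p.asIdeal, Function.Bijective fun e : E => r • e := by
  obtain ⟨p, hp, hpe⟩ := H4Inj.exists_prime_eq_zeroDivisors hE hinj
  refine ⟨⟨p, hp⟩, fun r hr e => ?_, fun r hr => ?_⟩
  · obtain ⟨x, hx, hx0⟩ := (Set.ext_iff.1 hpe r).1 hr
    let J := Ideal.span {r}
    let T : Submodule R E := ⨆ n : ℕ, Submodule.torsionBySet R E ((J ^ n : Ideal R) : Set R)
    have hx' : x ∈ T := Submodule.mem_iSup_of_mem 1 ((Submodule.mem_torsionBySet_iff _ _).2 fun a => by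
      have ha : a.1 ∈ J := by simpa using a.2
      obtain ⟨c, hc⟩ := Ideal.mem_span_singleton'.1 ha
      rw [← hc, mul_smul, hx0, smul_zero])
    have hT := eq_top_of_indecomposable hE T (H4Inj.injective_powerTorsion hinj J)
      fun h => hx (by rw [h] at hx'; exact (Submodule.mem_bot R).1 hx')
    have he : e ∈ T := hT ▸ Submodule.mem_top
    have hmono : Monotone fun n : ℕ => Submodule.torsionBySet R E ((J ^ n : Ideal R) : Set R) :=
      fun a b hab => Submodule.torsionBySet_le_torsionBySet_of_subset (Ideal.pow_le_pow_right hab)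
    obtain ⟨n, hn⟩ := (Submodule.mem_iSup_of_directed _ hmono.directed_le).1 he
    exact ⟨n, (Submodule.mem_torsionBySet_iff _ _).1 hn ⟨r ^ n, Ideal.pow_mem_pow (Ideal.mem_span_singleton_self r) n⟩⟩
  · have hinjr : Function.Injective (LinearMap.lsmul R E r) := (injective_iff_map_eq_zero _).2 fun e he => by
      by_contra hne
      exact hr ((Set.ext_iff.1 hpe r).2 ⟨e, hne, he⟩)
    let T := LinearMap.range (LinearMap.lsmul R E r)
    let eT := LinearEquiv.ofInjective _ hinjr
    have hT : Module.Injective R T := (Module.Baer.of_equiv eT (Module.Baer.of_injective hinj)).injective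
    have hne : T ≠ ⊥ := fun h => by
      haveI := hE.1
      obtain ⟨e, he⟩ := exists_ne (0 : E)
      exact he (hinjr (((Submodule.mem_bot R).1 (h ▸ LinearMap.mem_range_self _ e)).trans (map_zero _).symm))
    refine ⟨hinjr, fun e => ?_⟩
    have := eq_top_of_indecomposable hE T hT hne
    exact LinearMap.range_eq_top.1 this e

end Indecomposable

end Groth.Agent.H10Inj
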