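import Groth.Agent.H11Tilde.QCohCrit
import Groth.Agent.H10Coh.TildeExact
import Groth.Agent.H16Derived.KFlat.RestrictD
import Mathlib.Algebra.Module.Injective

/-!
# Sections of injective modules over affine opens are injective modules
-/

set_option autoImplicit false
set_option backward.isDefEq.respectTransparency false
set_option linter.style.haveILetI false

universe u

open CategoryTheory CategoryTheory.Limits AlgebraicGeometry TopologicalSpace Opposite

namespace Groth.Agent.H10Inj

open Groth.Agent.H10Coh Groth.Agent.H16Derived.KFlat.Stalk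

variable {X Y : Scheme.{u}}

/-- Restriction along an isomorphism is an equivalence. -/
noncomputable def restrictEquiv (e : X ≅ Y) : Y.Modules ≌ X.Modules :=
  CategoryTheory.Equivalence.mk (Scheme.Modules.restrictFunctor e.hom) (Scheme.Modules.restrictFunctor e.inv)
    (Scheme.Modules.restrictFunctorId.symm ≪≫ (Scheme.Modules.restrictFunctorCongr e.inv_hom_id).symm ≪≫
      Scheme.Modules.restrictFunctorComp e.inv e.hom)
    ((Scheme.Modules.restrictFunctorComp e.hom e.inv).symm ≪≫
      Scheme.Modules.restrictFunctorCongr e.hom_inv_id ≪≫ Scheme.Modules.restrictFunctorId)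

theorem injective_restrict_fromSpec (I : X.Modules) [Injective I] {U : X.Opens} (hU : IsAffineOpen U) :
    Injective (I.restrict hU.fromSpec) := by
  haveI := preservesFiniteLimits_extZero U
  haveI : Injective (I.restrict U.ι) := Injective.injective_of_adjoint (CxOX.extZeroAdj U.ι) I
  haveI := ((restrictEquiv hU.isoSpec.symm).map_injective_iff (I.restrict U.ι)).2 inferInstance
  exact Injective.of_iso ((Scheme.Modules.restrictFunctorComp hU.isoSpec.inv U.ι).symm.app I ≪≫
      (Scheme.Modules.restrictFunctorCongr (show hU.isoSpec.inv ≫ U.ι = hU.fromSpec from rfl)).app I) this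

/-- The sections over an affine open as the global sections of the restriction to its spectrum. -/
noncomputable def gammaEquiv (F : X.Modules) {U : X.Opens} (hU : IsAffineOpen U) :
    (moduleSpecΓFunctor (R := Γ(X, U))).obj (F.restrict hU.fromSpec) ≃ₗ[Γ(X, U)] Γ(F, U) :=
  let f := hU.fromSpec
  have htop : f ''ᵁ ⊤ = U := by rw [Scheme.Hom.image_top_eq_opensRange, hU.opensRange_fromSpec]
  { toFun := fun s => F.presheaf.map (homOfLE htop.ge).op ((F.restrictAppIso f ⊤).hom s)
    invFun := fun s => (F.restrictAppIso f ⊤).inv (F.presheaf.map (homOfLE htop.le).op s)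
    left_inv := fun s => by
      show (F.restrictAppIso f ⊤).inv (F.presheaf.map (homOfLE htop.le).op
        (F.presheaf.map (homOfLE htop.ge).op ((F.restrictAppIso f ⊤).hom s))) = s
      rw [mres_mres, mres_self, Iso.hom_inv_id_apply]
    right_inv := fun s => by
      show F.presheaf.map (homOfLE htop.ge).op ((F.restrictAppIso f ⊤).hom
        ((F.restrictAppIso f ⊤).inv (F.presheaf.map (homOfLE htop.le).op s))) = s
      rw [Iso.inv_hom_id_apply, mres_mres, mres_self]
    map_add' := fun a b => by
      show F.presheaf.map _ ((F.restrictAppIso f ⊤).hom (a + b)) = _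
      rw [map_add, map_add]
    map_smul' := fun (a : Γ(X, U)) (s : Γ(F.restrict f, ⊤)) => by
      show F.presheaf.map (homOfLE htop.ge).op ((F.restrictAppIso f ⊤).hom (a • s)) =
        a • F.presheaf.map (homOfLE htop.ge).op ((F.restrictAppIso f ⊤).hom s)
      have hnat : (f.appIso ⊤).inv ((Scheme.ΓSpecIso Γ(X, U)).inv a) =
          X.presheaf.map (homOfLE htop.le).op a := by
        rw [← ConcreteCategory.comp_apply, H29Blow.res_eq_appIso_inv hU htop.le]
      have h1 : (F.restrictAppIso f ⊤).hom (a • s) =
          X.presheaf.map (homOfLE htop.le).op a • (F.restrictAppIso f ⊤).hom s := by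
        rw [← hnat, Scheme.Modules.smul_Spec_def]
        have hid : (⊤ : (Spec Γ(X, U)).Opens).leTop.op = 𝟙 _ := Subsingleton.elim _ _
        rw [hid, CategoryTheory.Functor.map_id]
        rfl
      rw [h1, Scheme.Modules.map_smul, rres_rres, Subsingleton.elim (homOfLE _).op (𝟙 (op U)),
        CategoryTheory.Functor.map_id]
      rfl }

theorem injective_gamma_spec {R : CommRingCat.{u}} (I : (Spec R).Modules) [Injective I] :
    Injective (moduleSpecΓFunctor.obj I) := by
  haveI := H10Coh.tilde_preservesFiniteLimits (R := R)
  exact Injective.injective_of_adjoint (tilde.adjunction (R := R)) I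

/-- Sections of an injective module over an affine open form an injective module. -/
theorem injective_sections (I : X.Modules) [Injective I] {U : X.Opens} (hU : IsAffineOpen U) :
    Module.Injective Γ(X, U) Γ(I, U) := by
  haveI := injective_restrict_fromSpec I hU
  haveI := injective_gamma_spec (I.restrict hU.fromSpec)
  have h : Module.Injective Γ(X, U) ((moduleSpecΓFunctor (R := Γ(X, U))).obj (I.restrict hU.fromSpec)) :=
    Module.injective_module_of_injective_object _ _
  exact (Module.Baer.of_equiv (gammaEquiv I hU) (Module.Baer.of_injective h)).injective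

end Groth.Agent.H10Inj
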