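import Groth.Agent.H10Inj.SerreSupp
import Groth.Agent.H11Ample.Twist
import Groth.Agent.LeadAff.Chevalley

/-!
# Coherent modules with prescribed closed support
-/

set_option autoImplicit false
set_option linter.style.haveILetI false

universe u

open CategoryTheory CategoryTheory.Limits AlgebraicGeometry Opposite TopologicalSpace

namespace Groth.Agent.H10Inj.SerreSupp

variable {X : Scheme.{u}} [IsNoetherian X]

theorem exists_coh_support_eq (Z : Closeds X) :
    ∃ F : X.Modules, Coh.IsCoh F ∧ CohB1.support F = (Z : Set X) := by
  have hO := LeadAff.isCoh_structureModule X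
  refine ⟨quot Z (Coh.structureModule X), isCoh_quot Z hO, ?_⟩
  rw [support_quot Z hO]
  refine Set.inter_eq_right.2 fun x _ => ?_
  intro hsub
  haveI : Nontrivial ((Coh.structureModule X).presheaf.stalk x) :=
    (LinearEquiv.ofBijective (LinearMap.toSpanSingleton (X.presheaf.stalk x) _ _)
      (H11Ample.isGen_one (X := X) ⊤ x trivial)).symm.toEquiv.nontrivial
  haveI : Subsingleton ((Coh.structureModule X).presheaf.stalk x) := hsub
  exact not_subsingleton ((Coh.structureModule X).presheaf.stalk x) inferInstance

end Groth.Agent.H10Inj.SerreSupp
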