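import Groth.Agent.LeadDev.Rules
import Groth.Agent.H29Ref.Generic
import Groth.Agent.H10Coh.FinType2

/-!
# Serre classes of coherent modules and supports
-/

set_option autoImplicit false
set_option linter.style.haveILetI false
set_option linter.unusedSectionVars false

universe u

open CategoryTheory CategoryTheory.Limits AlgebraicGeometry Opposite TopologicalSpace
open scoped ZeroObject

namespace Groth.Agent.H10Inj.SerreSupp

variable {X : Scheme.{u}}

/-- A Serre class on coherent modules. -/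
def IsSerre (P : ObjectProperty X.Modules) : Prop :=
  ∀ S : ShortComplex X.Modules, S.ShortExact → Coh.IsCoh S.X₁ → Coh.IsCoh S.X₂ →
    Coh.IsCoh S.X₃ → (P S.X₂ ↔ P S.X₁ ∧ P S.X₃)

/-- Supports in a given set form a Serre class. -/
theorem isSerre_support (C : Set X) :
    IsSerre (fun M : X.Modules => CohB1.support M ⊆ C) := fun S hS _ _ _ => by
  haveI := hS.mono_f
  haveI := hS.epi_g
  exact ⟨fun h => ⟨(LeadDev.support_subset_of_mono S.f).trans h, (LeadDev.support_subset_of_epi S.g).trans h⟩,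
    fun h => (LeadDev.support_subset_of_shortExact hS).trans (Set.union_subset h.1 h.2)⟩

theorem isSerre_notMem (x : X) : IsSerre (fun M : X.Modules => x ∉ CohB1.support M) := fun S hS h1 h2 h3 => by
  have h := isSerre_support ({x}ᶜ : Set X) S hS h1 h2 h3
  simpa [Set.subset_compl_singleton_iff] using h

variable [IsNoetherian X] {P : ObjectProperty X.Modules} (hP : IsSerre P)

include hP

theorem IsSerre.zero {G : X.Modules} (hG : Coh.IsCoh G) (hPG : P G) (N : X.Modules) (hN : IsZero N) : P N :=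
  LeadDev.zero_of_left (P := P) hG (fun S hS h1 h2 h3 _ p2 _ => ((hP S hS h1 h2 h3).1 p2).1) hPG N hN

theorem IsSerre.of_iso {A B : X.Modules} (e : A ≅ B) (hA : Coh.IsCoh A) (hB : Coh.IsCoh B) (hPA : P A) : P B := by
  have hzero : Coh.IsCoh (0 : X.Modules) := LeadDev.isCoh_of_isZero (isZero_zero _)
  have hS : (ShortComplex.mk (0 : (0 : X.Modules) ⟶ A) e.hom zero_comp).ShortExact := by
    haveI : Mono (0 : (0 : X.Modules) ⟶ A) := ⟨fun g h _ => (isZero_zero _).eq_of_tgt g h⟩
    exact ShortComplex.ShortExact.mk' ((ShortComplex.exact_iff_mono _ rfl).2 (inferInstanceAs (Mono e.hom)))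
      inferInstance inferInstance
  exact ((hP _ hS hzero hA hB).1 hPA).2

theorem IsSerre.sub {A B : X.Modules} (f : A ⟶ B) [Mono f] (hA : Coh.IsCoh A) (hB : Coh.IsCoh B) (h : P B) :
    P A :=
  ((hP _ (ShortComplex.ShortExact.mk' (ShortComplex.exact_cokernel f) inferInstance inferInstance)
    hA hB (H10Coh.isCoh_cokernel f hA.1 hB)).1 h).1

theorem IsSerre.cok {A B : X.Modules} (f : A ⟶ B) [Mono f] (hA : Coh.IsCoh A) (hB : Coh.IsCoh B) (h : P B) :
    P (cokernel f) :=
  ((hP _ (ShortComplex.ShortExact.mk' (ShortComplex.exact_cokernel f) inferInstance inferInstance)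
    hA hB (H10Coh.isCoh_cokernel f hA.1 hB)).1 h).2

omit hP

/-- `F / K·F`. -/
noncomputable def quot (C : Closeds X) (F : X.Modules) : X.Modules :=
  cokernel (Dual3.idealMulι (Scheme.IdealSheafData.vanishingIdeal C) F)

theorem isCoh_quot (C : Closeds X) {F : X.Modules} (hF : Coh.IsCoh F) : Coh.IsCoh (quot C F) :=
  H10Coh.isCoh_cokernel _ (LeadDev.isCoh_idealMul _ F hF).1 hF

theorem killedByIdeal_quot (C : Closeds X) {F : X.Modules} (hF : Coh.IsCoh F) :
    ClSub.KilledByIdeal (Scheme.IdealSheafData.vanishingIdeal C) (quot C F) := by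
  intro U a ha m
  haveI : F.IsQuasicoherent := hF.1
  haveI : ((Dual3.idealMul (Scheme.IdealSheafData.vanishingIdeal C)).obj F).IsQuasicoherent :=
    (LeadDev.isCoh_idealMul _ F hF).1
  haveI : (quot C F).IsQuasicoherent := (isCoh_quot C hF).1
  let π : F ⟶ quot C F := cokernel.π _
  haveI : Epi π := inferInstanceAs (Epi (cokernel.π _))
  obtain ⟨y, hy⟩ := H10Coh.surjective_app_of_epi π U.2 (show Γ(quot C F, U.1) from m)
  show a • (show Γ(quot C F, U.1) from m) = 0
  rw [← hy, ← Scheme.Modules.Hom.app_smul]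
  obtain ⟨s, hs⟩ := LeadDev.exists_idealMulι_app_eq _ F hF U a ha y
  rw [← hs]
  exact congr($(congr(Scheme.Modules.Hom.app $(cokernel.condition
    (Dual3.idealMulι (Scheme.IdealSheafData.vanishingIdeal C) F)) U.1)) s)

/-- Nakayama: the support of `F / K·F`. -/
theorem support_quot (C : Closeds X) {F : X.Modules} (hF : Coh.IsCoh F) :
    CohB1.support (quot C F) = CohB1.support F ∩ C := by
  let K := Scheme.IdealSheafData.vanishingIdeal C
  have hKF := LeadDev.isCoh_idealMul K F hF
  ext x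
  constructor
  · intro hx
    haveI : Epi (cokernel.π (Dual3.idealMulι K F)) := inferInstance
    refine ⟨LeadDev.support_subset_of_epi (cokernel.π (Dual3.idealMulι K F)) hx, ?_⟩
    by_contra hC
    obtain ⟨W, hW, hxW, -⟩ := exists_isAffineOpen_mem_and_subset (U := (⊤ : X.Opens)) (x := x) trivial
    have hxK : x ∉ (K.support : Set X) := by
      rw [Scheme.IdealSheafData.coe_support_vanishingIdeal]; exact hC
    exact LeadDev.notMem_support_cokernel (Dual3.idealMulι K F) hKF.1 hF.1 hW hxW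
      (LeadDev.surjAt_idealMulι K F hF hxK ⟨W, hW⟩ hxW) hx
  · rintro ⟨hxF, hxC⟩
    by_contra hx
    obtain ⟨W, hW, hxW, -⟩ := exists_isAffineOpen_mem_and_subset (U := (⊤ : X.Opens)) (x := x) trivial
    have hsur := LeadDev.surjAt_of_notMem_support (Dual3.idealMulι K F) hKF.1 hF.1 hW hxW hx
    let Mx := IsLocalRing.maximalIdeal (X.presheaf.stalk x)
    have hK : ∀ a ∈ K.ideal ⟨W, hW⟩, X.presheaf.germ W x hxW a ∈ Mx := fun a ha => by
      refine (IsLocalRing.mem_maximalIdeal _).2 fun hu => ?_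
      have hxb : x ∈ X.basicOpen a := (X.mem_basicOpen a x hxW).2 hu
      have hxK : x ∈ (K.support : Set X) := by
        rw [Scheme.IdealSheafData.coe_support_vanishingIdeal]; exact hxC
      exact (X.mem_zeroLocus_iff _ _).1 ((K.coe_support_inter ⟨W, hW⟩).le ⟨hxK, hxW⟩).1 a ha hxb
    have htop : (⊤ : Submodule (X.presheaf.stalk x) (F.presheaf.stalk x)) ≤ Mx • ⊤ := by
      rw [← H29Ref.span_germ_all F hF.1 hW le_rfl x hxW, Submodule.span_le]
      rintro _ ⟨y, rfl⟩
      obtain ⟨c, s, hc, hs⟩ := hsur y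
      have hu : IsUnit (X.presheaf.germ W x hxW c) := (X.mem_basicOpen c x hxW).1 hc
      have hmem : F.presheaf.germ W x hxW (c • y) ∈ Mx • (⊤ : Submodule (X.presheaf.stalk x) (F.presheaf.stalk x)) := by
        rw [← hs]
        refine Submodule.smul_induction_on (LeadDev.idealMulι_app_mem K F hF ⟨W, hW⟩ s)
          (p := fun z => F.presheaf.germ W x hxW z ∈ Mx • (⊤ : Submodule (X.presheaf.stalk x) (F.presheaf.stalk x)))
          (fun a ha z _ => ?_) (fun u v hu hv => by rw [map_add]; exact add_mem hu hv)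
        rw [H06Mod.germ_smul]
        exact Submodule.smul_mem_smul (hK a ha) trivial
      rw [H06Mod.germ_smul] at hmem
      obtain ⟨d, hd⟩ := hu.exists_left_inv
      rw [H29Ref.span_germ_all F hF.1 hW le_rfl x hxW]
      have := Submodule.smul_mem _ d hmem
      rwa [smul_smul, hd, one_smul] at this
    haveI := H29Ref.finite_stalk F hF.2 x
    have hbot : (⊤ : Submodule (X.presheaf.stalk x) (F.presheaf.stalk x)) = ⊥ :=
      Submodule.eq_bot_of_le_smul_of_le_jacobson_bot Mx _ Module.Finite.fg_top htop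
        (IsLocalRing.maximalIdeal_le_jacobson ⊥)
    exact hxF (Submodule.subsingleton_iff (X.presheaf.stalk x) |>.1 (subsingleton_of_bot_eq_top hbot.symm))

include hP in
/-- A Serre class containing `F` contains every coherent module supported in `Supp F`. -/
theorem IsSerre.mem_of_support_subset {F E : X.Modules} (hF : Coh.IsCoh F) (hE : Coh.IsCoh E) (hPF : P F)
    (hsupp : CohB1.support E ⊆ CohB1.support F) : P E := by
  let Q : X.Modules → Prop := fun M => Coh.IsCoh M → P M
  have hQiso : ∀ M N : X.Modules, Nonempty (M ≅ N) → Q M → Q N := fun M N ⟨e⟩ h hN => by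
    have hM : Coh.IsCoh M := H10Coh.isCoh_of_iso e.symm hN
    exact hP.of_iso e hM hN (h hM)
  refine LeadDev.devissage_induction (CohB1.support F) Q hQiso
    (fun M hM _ => hP.zero hF hPF M hM)
    (fun S hS h1 h2 h3 p1 p3 _ => (hP S hS h1 h2 h3).2 ⟨p1 h1, p3 h3⟩) ?_ E hE hsupp hE
  intro Z i _ _ hZF hsmall I ι _ hI _
  let ξ := i (genericPoint Z)
  obtain ⟨W, hW, hξW, -⟩ := exists_isAffineOpen_mem_and_subset (U := (⊤ : X.Opens)) (x := ξ) trivial
  let C : Closeds X := ⟨Set.range i, i.isClosedEmbedding.isClosed_range⟩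
  let G := quot C F
  have hG : Coh.IsCoh G := isCoh_quot C hF
  have hPG : P G := hP.cok _ (LeadDev.isCoh_idealMul _ F hF) hF hPF
  have hξG : ξ ∈ CohB1.support G := by
    rw [support_quot C hF]; exact ⟨hZF ⟨_, rfl⟩, ⟨_, rfl⟩⟩
  obtain ⟨r, hr, -, hIc, hPr⟩ := LeadDev.key_step i (ξ := ξ) rfl I ι hI Q
    (fun M hM _ => hP.zero hF hPF M hM)
    hsmall (fun S hS h1 h2 h3 _ p1 p3 _ => (hP S hS h1 h2 h3).2 ⟨p1 h1, p3 h3⟩) hW hξW G hG hξG
    (LeadDev.killedAt_of_killedByIdeal hW hξW C (LeadDev.range_eq_closure i rfl).le (killedByIdeal_quot C hF))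
    (fun J hJ => ⟨_, 𝟙 _, inferInstance, LeadDev.isCoh_idealMul J G hG, by
      rw [Category.id_comp]; exact LeadDev.surjAt_idealMulι J G hG hJ ⟨W, hW⟩ hξW,
      fun hc => hP.sub (Dual3.idealMulι J G) hc hG hPG⟩)
  haveI : NeZero r := ⟨by omega⟩
  have hsum : Coh.IsCoh (⨁ fun _ : Fin r => (Coh.push i).obj I) := LeadDev.isCoh_biproduct _ hIc
  exact hP.sub (biproduct.ι (fun _ : Fin r => (Coh.push i).obj I) 0) hIc hsum (hPr hsum)

end Groth.Agent.H10Inj.SerreSupp
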