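import Groth.Agent.H10Inj.FlatCover
import Groth.Agent.H10Inj.Embed

/-!
# The structure module of a Noetherian scheme is a Noetherian object
-/

set_option autoImplicit false
set_option backward.isDefEq.respectTransparency false
set_option linter.style.haveILetI false

universe u

open CategoryTheory CategoryTheory.Limits AlgebraicGeometry TopologicalSpace Opposite

namespace Groth.Agent.H10Inj

open Groth.Agent.H06Mod Groth.Agent.H16Derived.QCohD Groth.Agent.H16Derived.KFlat.Stalk

variable {X : Scheme.{u}}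

/-- `O_X` is a Noetherian object on a Noetherian scheme. -/
theorem isNoetherianObject_structureModule [IsNoetherian X] :
    IsNoetherianObject (Coh.structureModule X) := by
  classical
  rw [isNoetherianObject_iff_monotone_chain_condition]
  intro c
  let O := Coh.structureModule X
  obtain ⟨F, hFU⟩ := (isCompact_univ (X := X)).elim_finite_subcover (fun U : X.affineOpens => (U.1 : Set X))
    (fun U => U.1.2) (fun x _ => by
      obtain ⟨U, hU, hxU, -⟩ := exists_isAffineOpen_mem_and_subset (x := x) (U := (⊤ : X.Opens)) trivial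
      exact Set.mem_iUnion.2 ⟨⟨U, hU⟩, hxU⟩)
  have hnoeth : ∀ U : X.affineOpens, IsNoetherianObject ((MV.E U.1).obj O) := fun U => by
    haveI : IsAffine (U.1 : Scheme.{u}) := U.2
    haveI : IsLocallyNoetherian (U.1 : Scheme.{u}) := isLocallyNoetherian_of_isOpenImmersion U.1.ι
    haveI := isNoetherianObject_extZeroUnit U.1.ι
    exact isNoetherianObject_of_mono ((CxOX.extZero U.1.ι).mapIso (Scheme.Modules.restrictUnitIso U.1.ι)).hom
  let P := fun U : X.affineOpens => Subobject.pullback ((MV.ε U.1).app O)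
  have hst : ∀ U : X.affineOpens, ∃ n, ∀ m, n ≤ m → (P U).obj (c n) = (P U).obj (c m) := fun U =>
    haveI := hnoeth U
    monotone_chain_condition_of_isNoetherianObject ((P U).toOrderHom.comp c)
  choose N hN using hst
  refine ⟨F.sup N, fun m hm => ?_⟩
  have hle := c.monotone hm
  haveI : IsIso (Subobject.ofLE _ _ hle) := by
    refine isIso_of_stalk _ fun x => ?_
    obtain ⟨U, hUF, hxU⟩ : ∃ U ∈ F, x ∈ (U.1 : Set X) := by simpa using hFU (Set.mem_univ x)
    let S := DerSch.stalkFunctor X x
    haveI : IsIso (S.map ((MV.ε U.1).app O)) := MV.isIso_stalk_ε U.1 O x hxU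
    have hpi : ∀ n, IsIso (S.map (Subobject.pullbackπ ((MV.ε U.1).app O) (c n))) := fun n =>
      ((Subobject.isPullback ((MV.ε U.1).app O) (c n)).map S).isIso_fst_of_isIso
    haveI := hpi m
    haveI := hpi (F.sup N)
    have heq : (P U).obj (c (F.sup N)) = (P U).obj (c m) :=
      ((hN U _ (Finset.le_sup hUF)).symm.trans (hN U m ((Finset.le_sup hUF).trans hm)))
    have hfac : Subobject.pullbackπ ((MV.ε U.1).app O) (c (F.sup N)) ≫ Subobject.ofLE _ _ hle =
        Subobject.ofLE _ _ heq.le ≫ Subobject.pullbackπ ((MV.ε U.1).app O) (c m) := by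
      rw [← cancel_mono (c m).arrow]
      simp only [Category.assoc, Subobject.ofLE_arrow]
      rw [(Subobject.isPullback _ (c m)).w, (Subobject.isPullback _ (c (F.sup N))).w]
      simp [P]
    haveI : IsIso (Subobject.ofLE _ _ heq.le) := ⟨Subobject.ofLE _ _ heq.ge, by simp, by simp⟩
    have h := congrArg S.map hfac
    rw [Functor.map_comp, Functor.map_comp] at h
    exact IsIso.of_isIso_fac_left h
  exact Subobject.eq_of_comm (asIso (Subobject.ofLE _ _ hle)) (Subobject.ofLE_arrow hle)

/-- Sub-modules of the structure module of a Noetherian scheme are generated by finitely many sections. -/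
theorem exists_finset_span_eq_top [IsNoetherian X] (G : X.Modules) (ι : G ⟶ Coh.structureModule X) [Mono ι] :
    ∃ F : Finset (Σ V : X.Opens, Γ(G, V)), ∀ x : X, Submodule.span (X.presheaf.stalk x)
      (Set.range fun p : {p : F // x ∈ p.1.1} => G.presheaf.germ p.1.1.1 x p.2 p.1.1.2) = ⊤ := by
  classical
  haveI := isNoetherianObject_structureModule (X := X)
  haveI := isNoetherianObject_of_mono ι
  let d : ∀ F : Finset (Σ V : X.Opens, Γ(G, V)), (∐ fun p : F => gen p.1.1) ⟶ G := fun F =>
    Sigma.desc fun p => (genEquiv p.1.1 G).symm p.1.2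
  let k := fun F => imageSubobject (d F)
  obtain ⟨_, ⟨F, rfl⟩, hF⟩ := (wellFounded_gt (α := Subobject G)).has_min (Set.range k) ⟨_, ∅, rfl⟩
  have hmono : ∀ F F' : Finset (Σ V : X.Opens, Γ(G, V)), F ⊆ F' → k F ≤ k F' := fun F F' h => by
    let q : (∐ fun p : F => gen p.1.1) ⟶ (∐ fun p : F' => gen p.1.1) :=
      Sigma.desc fun p => Sigma.ι (fun p : F' => gen p.1.1) ⟨p.1, h p.2⟩
    have hq : q ≫ d F' = d F := Sigma.hom_ext _ _ fun p => by simp [q, d]
    rw [show k F = imageSubobject (q ≫ d F') by simp only [k, hq]]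
    exact imageSubobject_comp_le _ _
  have hmax : ∀ a : Σ V : X.Opens, Γ(G, V), (k F).Factors ((genEquiv a.1 G).symm a.2) := fun a => by
    have h1 := hmono F (insert a F) (Finset.subset_insert a F)
    rw [eq_of_le_of_not_lt h1 (hF _ ⟨_, rfl⟩)]
    refine Subobject.factors_of_le _ le_rfl ?_
    have : Sigma.ι (fun p : ↥(insert a F) => gen p.1.1) ⟨a, Finset.mem_insert_self a F⟩ ≫ d (insert a F) =
        (genEquiv a.1 G).symm a.2 := by simp [d]
    rw [← this]
    exact imageSubobject_factors_comp_self _ _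
  haveI : Epi (d F) := by
    refine Preadditive.epi_of_cancel_zero _ fun {Z} q hq => Scheme.Modules.hom_ext _ _ fun W =>
      AddCommGrpCat.hom_ext (AddMonoidHom.ext fun s => ?_)
    have h1 : (genEquiv W G).symm s ≫ q = 0 := by
      rw [← Subobject.factorThru_arrow (k F) _ (hmax ⟨W, s⟩), Category.assoc]
      have : (k F).arrow ≫ q = 0 := by
        rw [← cancel_epi (factorThruImageSubobject (d F)), comp_zero, ← Category.assoc,
          imageSubobject_arrow_comp, hq]
      rw [this, comp_zero]
    have h2 := congrArg (genEquiv W Z) h1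
    rw [genEquiv_comp, Equiv.apply_symm_apply] at h2
    show q.app W s = 0
    rw [h2, genEquiv_eq]
    rfl
  refine ⟨F, fun x => ?_⟩
  let P := Submodule.span (X.presheaf.stalk x)
    (Set.range fun p : {p : F // x ∈ p.1.1} => G.presheaf.germ p.1.1.1 x p.2 p.1.1.2)
  let S := DerSch.stalkFunctor X x
  have hzero : S.map (d F) ≫ ModuleCat.ofHom P.mkQ = 0 := by
    refine (isColimitOfPreserves S (colimit.isColimit (Discrete.functor fun p : F => gen p.1.1))).hom_ext fun ⟨p⟩ => ?_
    refine ModuleCat.hom_ext (gen_stalk_ext p.1.1 x _ _ fun hx => ?_)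
    show P.mkQ (S.map (d F) (S.map (Sigma.ι (fun p : F => gen p.1.1) p)
      ((gen p.1.1).presheaf.germ p.1.1 x hx (genSect p.1.1)))) = 0
    refine (Submodule.Quotient.mk_eq_zero P).2 (Submodule.subset_span ⟨⟨p, hx⟩, ?_⟩)
    rw [← ModuleCat.comp_apply, ← Functor.map_comp]
    refine Eq.trans ?_ (stalkLin_germ (Sigma.ι (fun p : F => gen p.1.1) p ≫ d F) x p.1.1 hx (genSect p.1.1)).symm
    refine congrArg (G.presheaf.germ p.1.1 x hx) ?_
    rw [← genEquiv_eq, show Sigma.ι (fun p : F => gen p.1.1) p ≫ d F = (genEquiv p.1.1 G).symm p.1.2 by simp [d],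
      Equiv.apply_symm_apply]
  have h0 : ModuleCat.ofHom P.mkQ = 0 := (cancel_epi (S.map (d F))).1 (hzero.trans comp_zero.symm)
  exact eq_top_iff.2 fun v _ => (Submodule.Quotient.mk_eq_zero P).1 (congr($h0 v))

end Groth.Agent.H10Inj
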