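import Groth.Agent.H10Inj.Local
import Groth.Agent.H16Derived.KFlat.SheafAssoc
import Groth.Agent.H16Derived.KFlat.RestrictD
import Groth.Agent.H15Site.ModOver
import Groth.Prelude.Def_CohB1

/-!
# Tensor products of injective modules with finite locally free modules
-/

set_option autoImplicit false
set_option backward.isDefEq.respectTransparency false
set_option linter.style.haveILetI false

universe u

open CategoryTheory CategoryTheory.Limits AlgebraicGeometry

namespace Groth.Agent.H10Inj

open Groth.Agent.H16Derived.KFlat.Stalk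

variable {X : Scheme.{u}}

/-- `E ⊗ I` is injective for injective `I` and finite locally free `E`. -/
theorem injective_tensorMod (I E : X.Modules) [Injective I] (hE : FlatMod.IsFinLocFree E) :
    Injective (CohB1.tensorMod E I) := by
  refine injective_of_locally _ fun x => ?_
  obtain ⟨U, n, hxU, ⟨e⟩⟩ := hE x
  refine ⟨U, hxU, ?_⟩
  haveI := preservesFiniteLimits_extZero U
  haveI : Injective (I.restrict U.ι) := Injective.injective_of_adjoint (CxOX.extZeroAdj U.ι) I
  let P := Scheme.Modules.pullback U.ι
  let c := Scheme.Modules.restrictFunctorIsoPullback U.ι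
  let T := (DCoh.tensorBi (X := (U : Scheme.{u}))).flip.obj (I.restrict U.ι)
  let u : T.obj (Coh.structureModule (U : Scheme.{u})) ≅ I.restrict U.ι :=
    (H15Site.ModOver.tensorUnitIso (U : Scheme.{u}).sheaf).app (I.restrict U.ι)
  let i₁ : (Scheme.Modules.restrictFunctor U.ι).obj (CohB1.tensorMod E I) ≅
      T.obj (FlatMod.freeMod (U : Scheme.{u}) n) :=
    c.app _ ≪≫ (pullTensorLIso U.ι I).app E ≪≫
      ((DCoh.tensorBi (X := (U : Scheme.{u}))).flip.mapIso (c.app I).symm).app (P.obj E) ≪≫
      T.mapIso ((c.app E).symm ≪≫ e)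
  let i₂ : T.obj (FlatMod.freeMod (U : Scheme.{u}) n) ≅ ⨁ fun _ : Fin n => I.restrict U.ι :=
    PreservesCoproduct.iso T (fun _ : Fin n => Coh.structureModule (U : Scheme.{u})) ≪≫
      (biproduct.isoCoproduct _).symm ≪≫ biproduct.mapIso (fun _ => u)
  exact Injective.of_iso (i₁ ≪≫ i₂).symm inferInstance

end Groth.Agent.H10Inj
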