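import Mathlib.AlgebraicGeometry.Modules.Tilde
import Mathlib.RingTheory.Filtration
import Mathlib.Algebra.Module.Injective
import Mathlib.RingTheory.Spectrum.Prime.Noetherian

/-!
# Sheaves of injective modules over Noetherian rings are flasque
-/

set_option autoImplicit false
set_option backward.isDefEq.respectTransparency false

universe u

open CategoryTheory AlgebraicGeometry TopologicalSpace Opposite

namespace Groth.Agent.H10Inj

/-- Compatible fractions over a Noetherian ring are the fractions of an element of an injective module. -/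
theorem exists_extend {R M : Type u} [CommRing R] [IsNoetherianRing R] [AddCommGroup M] [Module R M]
    [Module.Injective R M] {ι : Type u} [Fintype ι] (f : ι → R) (m : ι → M) (N : ℕ)
    (h : ∀ i j, f i ^ N • m j = f j ^ N • m i) :
    ∃ (c : ℕ) (x : M), ∀ i, f i ^ (N * (c + 1)) • x = f i ^ (N * c) • m i := by
  classical
  let T : Submodule R M := Submodule.span R (Set.range m)
  have : Module.Finite R T := Module.Finite.span_of_finite R (Set.finite_range m)
  let J : Ideal R := Ideal.span (Set.range fun i => f i ^ N)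
  let P : Submodule R T := ⨅ j, LinearMap.ker (LinearMap.lsmul R T (f j ^ N))
  obtain ⟨c₀, hc₀⟩ := J.exists_pow_inf_eq_pow_smul P
  have hJP : J • P = ⊥ := by
    rw [eq_bot_iff, Submodule.smul_le]
    intro r hr v hv
    rw [Submodule.mem_bot]
    induction hr using Submodule.span_induction with
    | mem x hx =>
      obtain ⟨j, rfl⟩ := hx
      exact (Submodule.mem_iInf _).1 hv j
    | zero => exact zero_smul R v
    | add x y _ _ hx hy => rw [add_smul, hx, hy, add_zero]
    | smul a x _ hx => rw [smul_eq_mul, mul_smul, hx, smul_zero]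
  have hbot : J ^ (c₀ + 1) • (⊤ : Submodule R T) ⊓ P = ⊥ := by
    rw [hc₀ (c₀ + 1) (Nat.le_succ _), show c₀ + 1 - c₀ = 1 by omega, pow_one, eq_bot_iff, ← hJP]
    exact Submodule.smul_mono le_rfl inf_le_right
  let c := c₀ + 1
  let g : (ι → R) →ₗ[R] M := Fintype.linearCombination R fun i => f i ^ (N * c) • m i
  let d : (ι → R) →ₗ[R] R := Fintype.linearCombination R fun i => f i ^ (N * (c + 1))
  have hker : LinearMap.ker d ≤ LinearMap.ker g := by
    intro a ha
    have ha' : ∑ i, a i * f i ^ (N * (c + 1)) = 0 := by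
      simpa [d, Fintype.linearCombination_apply, smul_eq_mul] using ha
    let mT : ι → T := fun i => ⟨m i, Submodule.subset_span ⟨i, rfl⟩⟩
    let v : T := ∑ i, a i • (f i ^ (N * c) • mT i)
    have hv1 : v ∈ J ^ c • (⊤ : Submodule R T) := by
      refine Submodule.sum_mem _ fun i _ => Submodule.smul_mem _ _ (Submodule.smul_mem_smul ?_ trivial)
      rw [pow_mul]
      exact Ideal.pow_mem_pow (Ideal.subset_span (Set.mem_range_self i)) c
    have hv2 : v ∈ P := by
      refine (Submodule.mem_iInf _).2 fun j => ?_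
      show f j ^ N • v = 0
      have hterm : ∀ i, f j ^ N • (a i • (f i ^ (N * c) • mT i)) = (a i * f i ^ (N * (c + 1))) • mT j := by
        intro i
        have hswap : f j ^ N • mT i = f i ^ N • mT j := Subtype.ext (h j i)
        rw [smul_comm (f j ^ N) (a i), smul_comm (f j ^ N) (f i ^ (N * c)), hswap, smul_smul, smul_smul,
          mul_add, mul_one, pow_add, mul_assoc]
        congr 2
        simp only [c, mul_add, mul_one, pow_add]
      simp only [v, Finset.smul_sum, hterm]
      rw [← Finset.sum_smul, ha', zero_smul]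
    have hv0 : v = 0 := by
      have : v ∈ J ^ (c₀ + 1) • (⊤ : Submodule R T) ⊓ P := ⟨hv1, hv2⟩
      rwa [hbot] at this
    have : g a = (v : M) := by
      simp [g, v, mT, Fintype.linearCombination_apply]
    rw [LinearMap.mem_ker, this, hv0]
    rfl
  let q : LinearMap.range d →ₗ[R] M :=
    (Submodule.liftQ _ g hker).comp d.quotKerEquivRange.symm.toLinearMap
  obtain ⟨G, hG⟩ := Module.Baer.of_injective ‹Module.Injective R M› (LinearMap.range d) q
  refine ⟨c, G 1, fun i => ?_⟩
  have hd : d (Pi.single i 1) = f i ^ (N * (c + 1)) := by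
    simp [d, Fintype.linearCombination_apply_single]
  have hg : g (Pi.single i 1) = f i ^ (N * c) • m i := by
    simp [g, Fintype.linearCombination_apply_single]
  rw [← map_smul, smul_eq_mul, mul_one, hG _ ⟨_, hd⟩]
  have : q ⟨d (Pi.single i 1), _, rfl⟩ = g (Pi.single i 1) := by
    show Submodule.liftQ _ g hker (d.quotKerEquivRange.symm _) = _
    rw [LinearMap.quotKerEquivRange_symm_apply_image]
    rfl
  simp only [hd, hg] at this
  exact this

variable {R : CommRingCat.{u}} [IsNoetherianRing R] (M : ModuleCat.{u} R) [Module.Injective R M]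

/-- Every section of the sheaf of an injective module is the restriction of a global one. -/
theorem exists_toOpen_eq (U : (Spec R).Opens) (s : (modulesSpecToSheaf.obj (tilde M)).presheaf.obj (.op U)) :
    ∃ x : M, tilde.toOpen M U x = s := by
  classical
  let F := modulesSpecToSheaf.obj (tilde M)
  have hc : IsCompact (SetLike.coe U : Set (PrimeSpectrum R)) :=
    TopologicalSpace.NoetherianSpace.isCompact (α := PrimeSpectrum R) _
  obtain ⟨t, ht⟩ := PrimeSpectrum.isCompact_isOpen_iff.1 ⟨hc, U.2⟩
  let B : R → (Spec R).Opens := fun r => PrimeSpectrum.basicOpen r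
  let τ : ∀ V : (Spec R).Opens, M →ₗ[R] F.presheaf.obj (.op V) := fun V => (tilde.toOpen M V).hom
  have hres : ∀ {V W : (Spec R).Opens} (h : W ≤ V) (y : M), F.presheaf.map (homOfLE h).op (τ V y) = τ W y :=
    fun _ _ => rfl
  have hlin : ∀ {V W : (Spec R).Opens} (h : W ≤ V) (a : R) (y : F.presheaf.obj (.op V)),
      F.presheaf.map (homOfLE h).op (a • y) = a • F.presheaf.map (homOfLE h).op y :=
    fun h a y => (F.presheaf.map (homOfLE h).op).hom.map_smul a y
  have hloc : ∀ r, IsLocalizedModule (Submonoid.powers r) (τ (B r)) := fun r =>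
    inferInstanceAs (IsLocalizedModule.Away r (tilde.toOpen M (PrimeSpectrum.basicOpen r)).hom)
  have hmem : ∀ p : PrimeSpectrum R, p ∈ U ↔ ∃ f : t, p ∈ PrimeSpectrum.basicOpen (f : R) := by
    intro p
    show p ∈ (SetLike.coe U : Set (PrimeSpectrum R)) ↔ _
    rw [← ht]
    simp [PrimeSpectrum.mem_zeroLocus, Set.not_subset]
  have hle : ∀ f : t, B (f : R) ≤ U := fun f p hp => (hmem p).2 ⟨f, hp⟩
  let sr : ∀ f : t, F.presheaf.obj (.op (B (f : R))) :=
    fun f => F.presheaf.map (homOfLE (hle f)).op s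
  have hex : ∀ f : t, ∃ (n : ℕ) (m : M), (f : R) ^ n • sr f = τ _ m := fun f => by
    have := hloc (f : R)
    obtain ⟨⟨m, ⟨_, n, rfl⟩⟩, hm⟩ :=
      IsLocalizedModule.surj (Submonoid.powers (f : R)) (τ (B (f : R))) (sr f)
    exact ⟨n, m, hm⟩
  choose n m₀ hm₀ using hex
  let N₀ := Finset.univ.sup n
  let m₁ : t → M := fun f => (f : R) ^ (N₀ - n f) • m₀ f
  have hm₁ : ∀ f : t, (f : R) ^ N₀ • sr f = τ _ (m₁ f) := fun f => by
    rw [LinearMap.map_smul, ← hm₀, smul_smul, ← pow_add, Nat.sub_add_cancel (Finset.le_sup (Finset.mem_univ f))]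
  have hex2 : ∀ f g : t, ∃ e : ℕ, ((f : R) * g) ^ e • ((g : R) ^ N₀ • m₁ f) =
      ((f : R) * g) ^ e • ((f : R) ^ N₀ • m₁ g) := fun f g => by
    let D := B ((f : R) * g)
    have h1 : D ≤ B (f : R) := PrimeSpectrum.basicOpen_mul_le_left _ _
    have h2 : D ≤ B (g : R) := PrimeSpectrum.basicOpen_mul_le_right _ _
    have key : τ D ((g : R) ^ N₀ • m₁ f) = τ D ((f : R) ^ N₀ • m₁ g) := by
      have hs : F.presheaf.map (homOfLE h1).op (sr f) = F.presheaf.map (homOfLE h2).op (sr g) := by
        show (F.presheaf.map (homOfLE (hle f)).op ≫ F.presheaf.map (homOfLE h1).op) s =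
          (F.presheaf.map (homOfLE (hle g)).op ≫ F.presheaf.map (homOfLE h2).op) s
        rw [← Functor.map_comp, ← Functor.map_comp]
        rfl
      rw [LinearMap.map_smul (τ D) ((g : R) ^ N₀) (m₁ f), LinearMap.map_smul (τ D) ((f : R) ^ N₀) (m₁ g), ← hres h1 (m₁ f), ← hres h2 (m₁ g), ← hm₁, ← hm₁,
        hlin, hlin, hs, smul_smul, smul_smul, mul_comm ((g : R) ^ N₀)]
    have := hloc ((f : R) * g)
    obtain ⟨⟨_, e, rfl⟩, he⟩ :=
      (IsLocalizedModule.eq_iff_exists (Submonoid.powers ((f : R) * g)) (τ D)).1 key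
    exact ⟨e, he⟩
  choose e he using hex2
  let E := Finset.univ.sup fun p : t × t => e p.1 p.2
  let m : t → M := fun f => (f : R) ^ E • m₁ f
  have hm : ∀ f : t, (f : R) ^ (N₀ + E) • sr f = τ _ (m f) := fun f => by
    rw [LinearMap.map_smul, ← hm₁, smul_smul, ← pow_add, add_comm]
  have hcompat : ∀ f g : t, (f : R) ^ (N₀ + E) • m g = (g : R) ^ (N₀ + E) • m f := fun f g => by
    have h1 : e g f ≤ E := Finset.le_sup (f := fun p : t × t => e p.1 p.2) (Finset.mem_univ (g, f))
    have h2 := congrArg (((g : R) * f) ^ (E - e g f) • ·) (he g f)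
    simp only [smul_smul, ← mul_assoc, ← pow_add, Nat.sub_add_cancel h1] at h2
    simp only [m, smul_smul, pow_add]
    refine Eq.trans ?_ (h2.trans ?_) <;>
    · congr 1
      ring
  obtain ⟨c, x, hx⟩ := exists_extend (fun f : t => (f : R)) m (N₀ + E) hcompat
  refine ⟨x, TopCat.Sheaf.eq_of_locally_eq' F (fun f : t => B (f : R)) U
    (fun f => homOfLE (hle f)) (fun p hp => Opens.mem_iSup.2 ((hmem p).1 hp)) _ _ fun f => ?_⟩
  show F.presheaf.map (homOfLE (hle f)).op (τ U x) = sr f
  rw [hres (hle f) x]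
  refine ((tilde M).isSMulRegular_of_le_basicOpen (f := (f : R)) (U := B (f : R)) le_rfl).pow
    ((N₀ + E) * (c + 1)) ?_
  have h1 := congrArg (τ (B (f : R))) (hx f)
  rw [LinearMap.map_smul, LinearMap.map_smul, ← hm f, smul_smul, ← pow_add] at h1
  exact h1.trans (by congr 2 <;> ring)

end Groth.Agent.H10Inj
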