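import Groth.Agent.H10Inj.Localization
import Groth.Agent.H10Inj.Coproduct
import Groth.Agent.H16Derived.KFlat.TildeStalk
import Mathlib.Algebra.Category.ModuleCat.Products

/-!
# Sheaves of injective modules over Noetherian rings are injective
-/

set_option autoImplicit false
set_option backward.isDefEq.respectTransparency false
set_option linter.style.haveILetI false

universe u

open CategoryTheory CategoryTheory.Limits AlgebraicGeometry TopologicalSpace Opposite InjHull

namespace Groth.Agent.H10Inj

open Groth.Agent.H06Mod Groth.Agent.H16Derived.KFlat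

variable {X : Scheme.{u}}

/-- A skyscraper of an injective module over the local ring is injective. -/
theorem injective_sky (x : X) (N : Type u) [AddCommGroup N] [Module (X.presheaf.stalk x) N]
    [Module.Injective (X.presheaf.stalk x) N] : Injective (sky x N) where
  factors {A B} g i _ := by
    let S := DerSch.stalkFunctor X x
    haveI : Mono (S.map i) := inferInstance
    have hi : Function.Injective (S.map i) := (ModuleCat.mono_iff_injective _).1 inferInstance
    let gl : A.presheaf.stalk x →ₗ[X.presheaf.stalk x] N :=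
      { toFun := stalkOfHom g, map_add' := map_add _, map_smul' := stalkOfHom_smul g }
    obtain ⟨e, he⟩ := Module.Injective.out (Q := N) (S.map i).hom hi gl
    refine ⟨homOfStalk e, Scheme.Modules.hom_ext _ _ fun U => AddCommGrpCat.hom_ext (AddMonoidHom.ext fun a =>
      skyEval_ext x N fun hx => ?_)⟩
    refine (skyEval_homOfStalk e U hx (i.app U a)).trans ?_
    rw [← stalkOfHom_germ g U hx a, ← stalkLin_germ i x U hx a]
    exact he _

variable {R : CommRingCat.{u}} (p : (Spec R : Scheme.{u})) (N : Type u) [AddCommGroup N]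
  [Module ((Spec R).presheaf.stalk p) N]

theorem skyEval_smul_spec (U : (Spec R).Opens) (hx : p ∈ U) (r : R) (g : Γ(sky p N, U)) :
    skyEval p N U hx (r • g) = TildeStalk.toRing p r • skyEval p N U hx g := by
  rw [Scheme.Modules.smul_Spec_def, skyEval_smul, TopCat.Presheaf.germ_res_apply]
  rfl

/-- A skyscraper on an affine scheme with locally nilpotent action of the prime is quasi-coherent. -/
theorem isIso_fromTildeΓ_sky
    (hnil : ∀ r ∈ p.asIdeal, ∀ n : N, ∃ k : ℕ, TildeStalk.toRing p (r ^ k) • n = 0) :
    IsIso (sky p N).fromTildeΓ := by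
  rw [isIso_fromTildeΓ_iff_isLocalizing]
  intro f
  refine IsLocalizedModule.Away.mk_of_addCommGroup ?_ ?_ ?_
  · exact Scheme.Modules.isUnit_algebraMap_end_of_le_basicOpen f le_rfl
  · intro y
    by_cases hp : f ∈ p.asIdeal
    · refine ⟨0, (0 : Γ(sky p N, ⊤)), ?_⟩
      exact skyEval_ext (g := (f ^ 0 • (show Γ(sky p N, PrimeSpectrum.basicOpen f) from y))) p N
        fun hx => absurd hp hx
    · let yv : N := skyEval p N (PrimeSpectrum.basicOpen f) hp y
      refine ⟨0, ((fun _ => yv) : Γ(sky p N, ⊤)), ?_⟩
      refine skyEval_ext (g := (f ^ 0 • (show Γ(sky p N, PrimeSpectrum.basicOpen f) from y))) p N fun hx => ?_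
      rw [pow_zero, one_smul]
      rfl
  · intro s hs
    let s' : Γ(sky p N, ⊤) := s
    by_cases hp : f ∈ p.asIdeal
    · obtain ⟨k, hk⟩ := hnil f hp (skyEval p N ⊤ trivial s')
      exact ⟨k, skyEval_ext (g := f ^ k • s') (g' := 0) p N fun hx =>
        (skyEval_smul_spec p N ⊤ hx (f ^ k) s').trans (hk.trans (map_zero _).symm)⟩
    · refine ⟨0, skyEval_ext (g := f ^ 0 • s') (g' := 0) p N fun hx => ?_⟩
      rw [pow_zero, one_smul]
      exact congrFun hs ⟨⟨hp⟩⟩

/-- The sheaf of an indecomposable injective module is injective. -/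
theorem injective_tilde_indecomposable [IsNoetherianRing R] (E : ModuleCat.{u} R)
    (hE : IsIndecomposable R E) (hinj : Module.Injective R E) : Injective (tilde E) := by
  obtain ⟨q, hnil, hbij⟩ := exists_prime_local_action hE hinj
  let p : (Spec R : Scheme.{u}) := q
  let A := (Spec R).presheaf.stalk p
  let N := (tilde E).presheaf.stalk p
  letI : Algebra R A := TildeStalk.algebra p
  letI : Module R N := Module.compHom _ (TildeStalk.toRing p)
  haveI : IsScalarTower R A N := .of_algebraMap_smul fun _ _ => rfl
  have hloc : IsLocalization.AtPrime A q.asIdeal := StructureSheaf.IsLocalization.to_stalk R q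
  -- `E → N` is bijective
  let ε : E →ₗ[R] N :=
    { toFun := TildeStalk.toStalkAdd E p, map_add' := map_add _, map_smul' := TildeStalk.toStalkAdd_smul E p }
  have hunit : ∀ s : q.asIdeal.primeCompl, IsUnit (algebraMap R (Module.End R E) s) := fun s =>
    (Module.End.isUnit_iff _).2 (hbij s.1 s.2)
  have hεb : Function.Bijective ε := by
    have h1 : IsLocalizedModule q.asIdeal.primeCompl (tilde.toStalk E q).hom := inferInstance
    have h2 : IsLocalizedModule q.asIdeal.primeCompl (LinearMap.id : E →ₗ[R] E) :=
      ⟨hunit, fun y => ⟨⟨y, 1⟩, by simp⟩, fun {x y} h => ⟨1, by simpa using h⟩⟩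
    have h3 := (IsLocalizedModule.linearEquiv q.asIdeal.primeCompl (LinearMap.id : E →ₗ[R] E)
      (tilde.toStalk E q).hom).bijective
    convert h3 using 1
    funext e
    exact (IsLocalizedModule.linearEquiv_apply q.asIdeal.primeCompl (LinearMap.id : E →ₗ[R] E)
      (tilde.toStalk E q).hom e).symm
  haveI hNR : Module.Injective R N :=
    (Module.Baer.of_equiv (LinearEquiv.ofBijective ε hεb) (Module.Baer.of_injective hinj)).injective
  haveI : Module.Injective A N := injective_of_isLocalization q.asIdeal.primeCompl hNR
  haveI := injective_sky (X := Spec R) p N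
  have hsky : ∀ r ∈ q.asIdeal, ∀ n : N, ∃ k : ℕ, TildeStalk.toRing p (r ^ k) • n = 0 := fun r hr n => by
    obtain ⟨e, rfl⟩ := hεb.2 n
    obtain ⟨k, hk⟩ := hnil r hr e
    exact ⟨k, (map_smul ε (r ^ k) e).symm.trans ((congrArg ε hk).trans (map_zero ε))⟩
  haveI := isIso_fromTildeΓ_sky p N hsky
  let θ : E ≃ₗ[R] (moduleSpecΓFunctor (R := R)).obj (sky p N) :=
    { toFun := fun e => ((fun _ => ε e) : Γ(sky p N, ⊤))
      invFun := fun g => (Equiv.ofBijective ε hεb).symm (skyEval p N ⊤ trivial g)
      left_inv := fun e => (Equiv.ofBijective ε hεb).symm_apply_apply e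
      right_inv := fun g => skyEval_ext (g' := g) p N fun hx => (Equiv.ofBijective ε hεb).apply_symm_apply _
      map_add' := fun a b => funext fun _ => map_add ε a b
      map_smul' := fun r a => skyEval_ext (g' := r • ((fun _ => ε a) : Γ(sky p N, ⊤))) p N fun hx =>
        (map_smul ε r a).trans (Eq.trans (b := TildeStalk.toRing p r • ε a) rfl
          (skyEval_smul_spec p N ⊤ hx r ((fun _ => ε a) : Γ(sky p N, ⊤))).symm) }
  exact Injective.of_iso ((tilde.functor R).mapIso θ.toModuleIso ≪≫ asIso (sky p N).fromTildeΓ).symm
    inferInstance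

/-- The sheaf of an injective module over a Noetherian ring is injective. -/
theorem injective_tilde [IsNoetherianRing R] (M : ModuleCat.{u} R) [Module.Injective R M] :
    Injective (tilde M) := by
  classical
  haveI : IsLocallyNoetherian (Spec R) := inferInstance
  obtain ⟨ι, E, hint, hE⟩ := H4Inj.exists_decomposition (R := R) (I := M) inferInstance
  let Z : ι → ModuleCat.{u} R := fun i => ModuleCat.of R (E i)
  haveI : IsIso (DirectSum.coeLinearMap E |> ModuleCat.ofHom (R := R)) :=
    (ConcreteCategory.isIso_iff_bijective _).2 (show Function.Bijective (DirectSum.coeLinearMap E) from hint)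
  haveI h1 : Injective (∐ fun i => (tilde.functor R).obj (Z i)) :=
    injective_sigma _ fun i => injective_tilde_indecomposable (Z i) (hE i).1 (hE i).2
  haveI : PreservesColimitsOfShape (Discrete ι) (tilde.functor R) :=
    (tilde.adjunction (R := R)).leftAdjoint_preservesColimits.preservesColimitsOfShape
  exact Injective.of_iso
    ((asIso (sigmaComparison (tilde.functor R) Z)) ≪≫
      (tilde.functor R).mapIso ((colimit.isColimit _).coconePointUniqueUpToIso
        (ModuleCat.coproductCoconeIsColimit Z) ≪≫ asIso (DirectSum.coeLinearMap E |> ModuleCat.ofHom (R := R)))) h1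

end Groth.Agent.H10Inj
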